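import Cfsg.Agent.UGT.TriBase
import Cfsg.Agent.GH.L2AutD
import Cfsg.Agent.GH.L2AutField
import Cfsg.Agent.GH.L2AutOut

/-!
# (Q2): existence of a field involution centralizing the Sylow 2-subgroup

* `isSyl_map`: the image of a Sylow 2-subgroup.
* `exists_field`: `T` a Sylow 2-subgroup of `A ≤ Aut(L)`, `PGL ≤ A`, `T` normalizes the Sylow 2-subgroup `S` of
  `L`, `T ≰ PGL` ⇒ some involution `β ∈ T` of field type is trivial on `S`.
-/

set_option autoImplicit false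

open Cfsg Subgroup
open Cfsg.Agent.SignalizersComponents.IntrinsicBasic
open Cfsg.Agent.UGT.TriBase
open Cfsg.Agent.GH.L2Aut (Inn)

namespace Cfsg.Agent.UGT.PQ.FldEx

theorem isSyl_map {G H : Type*} [Group G] [Finite G] [Group H] [Finite H] {E T N : Subgroup G}
    (hT : IsSyl E T) (hE : E ≤ N) (f : ↥N →* H) :
    IsSyl ((E.subgroupOf N).map f) ((T.subgroupOf N).map f) := by
  have h2 : Fact (Nat.Prime 2) := ⟨Nat.prime_two⟩
  obtain ⟨P, hP⟩ := hT.exists_sylow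
  let g : ↥E →* H := f.comp (inclusion hE)
  let P1 : Sylow 2 ↥g.range := P.mapSurjective g.rangeRestrict_surjective
  have h1 := isSyl_of_sylow P1
  have e1 : g.range = (E.subgroupOf N).map f := by
    ext y
    constructor
    · rintro ⟨⟨e, he⟩, rfl⟩
      exact ⟨⟨e, hE he⟩, he, rfl⟩
    · rintro ⟨⟨e, heN⟩, he, rfl⟩
      exact ⟨⟨e, he⟩, rfl⟩
  have e2 : (P1 : Subgroup ↥g.range).map g.range.subtype = (T.subgroupOf N).map f := by
    ext y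
    constructor
    · rintro ⟨_, ⟨⟨e, he⟩, heP, rfl⟩, rfl⟩
      refine ⟨⟨e, hE he⟩, ?_, rfl⟩
      change e ∈ T
      rw [← hP]
      exact ⟨⟨e, he⟩, heP, rfl⟩
    · rintro ⟨⟨t, htN⟩, ht, rfl⟩
      have ht' : t ∈ (P : Subgroup ↥E).map E.subtype := by rw [hP]; exact ht
      obtain ⟨⟨e, he⟩, heP, rfl⟩ := ht'
      exact ⟨g.rangeRestrict ⟨e, he⟩, ⟨⟨e, he⟩, heP, rfl⟩, rfl⟩
  rw [e2] at h1
  rw [← e1]
  exact h1

theorem exists_order_two {A : Type*} [Group A] {s : A} (h : ∃ n : ℕ, s ^ 2 ^ n = 1) (h1 : s ≠ 1) :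
    ∃ m : ℕ, s ^ m * s ^ m = 1 ∧ s ^ m ≠ 1 := by
  classical
  have hn := Nat.find_spec h
  have hmin := fun m => @Nat.find_min _ _ h m
  obtain ⟨n, hne⟩ : ∃ n, n = Nat.find h := ⟨_, rfl⟩
  rw [← hne] at hn hmin
  rcases n with _ | n
  · rw [pow_zero, pow_one] at hn
    exact absurd hn h1
  · refine ⟨2 ^ n, ?_, hmin n (Nat.lt_succ_self n)⟩
    rw [← pow_add, ← two_mul, ← pow_succ']
    exact hn

variable {F : Type*} [Field F] [Finite F] {L : Type*} [Group L]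
  (R : Cfsg.Agent.GH.L2Aut.Rep F L)

theorem exists_field {A T : Subgroup (MulAut L)} (hT : IsSyl A T) (hA : R.PGL ≤ A) (S : Sylow 2 L)
    (hTS : ∀ α ∈ T, ∀ s ∈ S, α s ∈ S) (hf : ∃ α ∈ T, R.fld α ≠ 1) :
    ∃ β ∈ T, β * β = 1 ∧ R.fld β ≠ 1 ∧ ∀ s ∈ S, β s = s := by
  have h2 : Fact (Nat.Prime 2) := ⟨Nat.prime_two⟩
  have hfin : Finite (MulAut L) := R.finite_aut
  obtain ⟨α, hα, hαf⟩ := hf
  obtain ⟨m, hm1, hm2⟩ := exists_order_two (s := R.fld α) (by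
    obtain ⟨n, hn⟩ := hT.two ⟨α, hα⟩
    refine ⟨n, ?_⟩
    have h3 : α ^ 2 ^ n = 1 := congrArg Subtype.val hn
    rw [← map_pow, h3, map_one]) hαf
  obtain ⟨σ, hσ⟩ : ∃ σ, σ = R.fld α ^ m := ⟨_, rfl⟩
  rw [← hσ] at hm1 hm2
  have hb1 : R.fa σ * R.fa σ = 1 := by rw [← map_mul, hm1, map_one]
  have hb2 : R.fld (R.fa σ) ≠ 1 := by rw [R.fld_fa]; exact hm2
  obtain ⟨k, hk⟩ := Cfsg.Agent.GH.L2AutField.exists_fix_sylow R hb1 hb2 S
  obtain ⟨β, hβ⟩ : ∃ β, β = MulAut.conj k * R.fa σ * (MulAut.conj k)⁻¹ := ⟨_, rfl⟩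
  rw [← hβ] at hk
  have hββ : β * β = 1 := by
    rw [hβ]
    calc MulAut.conj k * R.fa σ * (MulAut.conj k)⁻¹ * (MulAut.conj k * R.fa σ * (MulAut.conj k)⁻¹)
        = MulAut.conj k * (R.fa σ * R.fa σ) * (MulAut.conj k)⁻¹ := by group
      _ = 1 := by rw [hb1]; group
  have hβf : R.fld β = σ := by
    rw [hβ, map_mul, map_mul, map_inv, R.fld_fa, R.mem_PGL_iff_fld.mp (R.conj_mem_PGL k), one_mul,
      inv_one, mul_one]
  have hβA : β ∈ A := by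
    have h3 : β * (α ^ m)⁻¹ ∈ A := by
      apply hA
      rw [R.mem_PGL_iff_fld, map_mul, map_inv, map_pow, ← hσ, hβf, mul_inv_cancel]
    have h4 := mul_mem h3 (pow_mem (hT.le hα) m)
    rwa [inv_mul_cancel_right] at h4
  obtain ⟨B, hB⟩ : ∃ B : Subgroup (MulAut L), ∀ γ, γ ∈ B ↔ γ ∈ A ∧ ∀ s, s ∈ S ↔ γ s ∈ S := by
    refine ⟨{ carrier := {γ | γ ∈ A ∧ ∀ s, s ∈ S ↔ γ s ∈ S}
              mul_mem' := ?_
              one_mem' := ⟨one_mem _, fun s => Iff.rfl⟩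
              inv_mem' := ?_ }, fun γ => Iff.rfl⟩
    · rintro γ δ ⟨h3, h4⟩ ⟨h5, h6⟩
      exact ⟨mul_mem h3 h5, fun s => (h6 s).trans (h4 (δ s))⟩
    · rintro γ ⟨h3, h4⟩
      refine ⟨inv_mem h3, fun s => ?_⟩
      have h5 := h4 (γ⁻¹ s)
      have h6 : γ (γ⁻¹ s) = s := MulAut.apply_inv_self L γ s
      rw [h6] at h5
      exact h5.symm
  have hTB : IsSyl B T := by
    refine ⟨hT.two, fun γ hγ => (hB γ).mpr ⟨hT.le hγ, fun s => ⟨hTS γ hγ s, fun h => ?_⟩⟩,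
      fun R' h3 h4 h5 => hT.max R' h3 (fun γ hγ => ((hB γ).mp (h4 hγ)).1) h5⟩
    have h3 := hTS γ⁻¹ (inv_mem hγ) _ h
    rwa [MulAut.inv_apply_self] at h3
  have hβB : zpowers β ≤ B := by
    rw [zpowers_le]
    exact (hB β).mpr ⟨hβA, fun s => ⟨fun h => by rw [hk s h]; exact h, fun h => by
      have h3 := hk _ h
      have h4 : β s = s := by
        have := β.injective h3
        exact this
      rwa [h4] at h⟩⟩
  have hβ2 : IsPGroup 2 ↥(zpowers β) := by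
    apply Cfsg.Agent.SignalizersComponents.BalanceAux.isPGroup_zpowers_of_orderOf
    refine orderOf_eq_prime (by rw [pow_two, hββ]) ?_
    rintro rfl
    rw [map_one] at hβf
    exact hm2 hβf.symm
  obtain ⟨g, hg, hle⟩ := hTB.conj hβ2 hβB
  have hgβ : g⁻¹ * β * g ∈ T := by
    have h3 : β ∈ cj g T := hle (mem_zpowers β)
    rwa [mem_cj] at h3
  refine ⟨g⁻¹ * β * g, hgβ, ?_, ?_, ?_⟩
  · calc g⁻¹ * β * g * (g⁻¹ * β * g) = g⁻¹ * (β * β) * g := by group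
      _ = 1 := by rw [hββ]; group
  · intro h3
    apply hm2
    rw [← hβf]
    have h4 : (R.fld g)⁻¹ * R.fld β * R.fld g = 1 := by
      rw [← map_inv, ← map_mul, ← map_mul]; exact h3
    have h5 : R.fld β = R.fld g * ((R.fld g)⁻¹ * R.fld β * R.fld g) * (R.fld g)⁻¹ := by group
    rw [h5, h4]; group
  · intro s hs
    have h3 := ((hB g).mp hg).2 s
    change g⁻¹ (β (g s)) = s
    rw [hk _ (h3.mp hs)]
    exact MulAut.inv_apply_self L g s

end Cfsg.Agent.UGT.PQ.FldEx
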