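import Cfsg.Agent.UGT.PQ.Main
import Cfsg.Agent.UGT.FourB.OneQ
import Cfsg.Agent.UGT.U2.TypeOf

/-!
# (Q2): the bridge to the tree of NodeR

* `odd_of_triple`: `O(G) = 1`.
* `card_or`: `|Q| = 2` or `m(Q) ≥ 2`, for every triple (`r(G) > 4`).
* `exists_big`: in the world `Pgl G`, `OneInv G` there is a triple with `m(Q) ≥ 2` [by `Main.no_triple`].
-/

set_option autoImplicit false

open Cfsg Subgroup
open Cfsg.Agent.SignalizersComponents Cfsg.Agent.Lib
open Cfsg.Agent.SignalizersComponents.IntrinsicBasic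
open Cfsg.Agent.Intrinsic.Basic Cfsg.Agent.Intrinsic.Cen
open Cfsg.Agent.McLLyComp.Act
open Cfsg.Agent.UGT.Triple Cfsg.Agent.UGT.Iface
open Cfsg.Agent.UGT.Res.KFacts (Pgl)
open Cfsg.Agent.UGT.FourA.Hon (OneInv)
open Cfsg.Agent.Walter.SylowIn

namespace Cfsg.Agent.UGT.PQ.Bridge

universe u

local notation "Fs" => generalizedFittingSubgroup

variable {G : Type u} [Group G] [Finite G] {x a : G} {L : Subgroup G}

/-- `O(G) = 1` if there is a triple -/
theorem odd_of_triple (hG : MinCex G) (Tr : IsTriple x a L) (N : Subgroup G) (hN : N.Normal)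
    (hodd : Odd (Nat.card N)) : N = ⊥ := by
  have hs := hG.simple
  have hF : (Fs G).Normal := Trich.normal_fs
  have h1 : N ⊓ Fs G = ⊥ := by
    have hn : (N.subgroupOf (Fs G)).Normal := hN.comap _
    rcases hn.eq_bot_or_eq_top with h | h
    · rwa [Subgroup.subgroupOf_eq_bot, disjoint_iff] at h
    · exfalso
      rw [Subgroup.subgroupOf_eq_top] at h
      have h2 : 2 ∣ Nat.card ↥N :=
        Tr.comp.even.trans (Subgroup.card_dvd_of_le ((U2.TypeOf.le_fs hG Tr).trans h))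
      exact hodd.not_two_dvd_nat h2
  have h2 : N ≤ centralizer (Fs G : Set G) := by
    intro x hx
    rw [mem_centralizer_iff]
    intro y hy
    exact (Subgroup.commute_of_normal_of_disjoint _ _ hF hN
      (disjoint_iff.mpr (by rw [inf_comm]; exact h1)) y x hy hx).eq
  rw [Trich.centralizer_fs hG] at h2
  exact le_bot_iff.mp h2

variable (H : Pgl G) (Tr : IsTriple x a L)
include H Tr

/-- **`|Q| = 2` or `Q` contains an involution `≠ a`** -/
theorem card_or (hG : MinCex G) (hr : ¬ SectionalPRankLE 2 4 G)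
    (hn : centralizer ({a} : Set G) ≤ normalizer (L : Set G)) {T : Subgroup G}
    (hT : SylIn 2 T (centralizer ({a} : Set G))) :
    (∀ q ∈ T, Fixes q L → q = 1 ∨ q = a) ∨ ∃ q ∈ T, Fixes q L ∧ q * q = 1 ∧ q ≠ 1 ∧ q ≠ a := by
  by_contra hcon
  rw [not_or] at hcon
  obtain ⟨h1, h2⟩ := hcon
  push Not at h1 h2
  obtain ⟨q, hq, hqL, hq1, hqa⟩ := h1
  have h3 : ∀ q ∈ T ⊓ GH.L2Frame.fix L, q * q = 1 → q = 1 ∨ q = a := by
    rintro q ⟨hq, hqL⟩ hqq
    by_contra hcon
    rw [not_or] at hcon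
    exact hcon.2 (h2 q hq (GH.L2Frame.mem_fix.mp hqL) hqq hcon.1)
  have hp2 : Fact (Nat.Prime 2) := ⟨Nat.prime_two⟩
  have haT : a ∈ T := by
    obtain ⟨g, hg, h4⟩ := hT.conj_le (R := zpowers a) (zpowers_le.mpr (mem_c rfl))
      (L2i.isPGroup_zp (sq_of_order Tr.inva))
    have h5 := h4 a (mem_zpowers a)
    rwa [comm_c hg, mul_inv_cancel_right] at h5
  have h4 : 4 ≤ Nat.card ↥(T ⊓ GH.L2Frame.fix L) := by
    have ha : a ∈ T ⊓ GH.L2Frame.fix L :=
      ⟨haT, GH.L2Frame.mem_fix.mpr (TriBase.fixes_self' Tr.comp.le)⟩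
    have hq' : q ∈ T ⊓ GH.L2Frame.fix L := ⟨hq, GH.L2Frame.mem_fix.mpr hqL⟩
    obtain ⟨n, hn⟩ := (hT.isPGroup.to_le (inf_le_left (b := GH.L2Frame.fix L))).exists_card_eq
    have h5 : 3 ≤ Nat.card ↥(T ⊓ GH.L2Frame.fix L) := by
      let f : Fin 3 → ↥(T ⊓ GH.L2Frame.fix L) := ![1, ⟨a, ha⟩, ⟨q, hq'⟩]
      have hf : Function.Injective f := by
        intro i j hij
        have h6 : ((f i : ↥(T ⊓ GH.L2Frame.fix L)) : G) = f j := congrArg Subtype.val hij
        have ha1 := ne_one_of_order Tr.inva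
        fin_cases i <;> fin_cases j <;> simp [f] at h6 ⊢ <;>
          first
            | exact absurd h6 ha1
            | exact absurd h6.symm ha1
            | exact absurd h6 hq1
            | exact absurd h6.symm hq1
            | exact absurd h6 hqa
            | exact absurd h6.symm hqa
      have h7 := Nat.card_le_card_of_injective f hf
      rwa [Nat.card_fin] at h7
    rw [hn] at h5 ⊢
    rcases n with _ | _ | n
    · omega
    · omega
    · rw [pow_add]
      have := Nat.one_le_two_pow (n := n)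
      omega
  exact hr (FourB.OneQ.rank_of_one H Tr (odd_of_triple hG Tr)
    (L2i.OneFour.center_of_minCex hG) hn hT h3 h4)

omit H Tr in
/-- `C_T(L / O(L)) = {1, a}` for one Sylow 2-subgroup `T` of `C(a)` -/
theorem two_of_syl (hn : centralizer ({a} : Set G) ≤ normalizer (L : Set G)) {T : Subgroup G}
    (hT : SylIn 2 T (centralizer ({a} : Set G))) (h : ∀ q ∈ T, Fixes q L → q = 1 ∨ q = a) {w : G}
    (hwa : w * a = a * w) (hw : ∃ n : ℕ, w ^ 2 ^ n = 1) (hf : Fixes w L) : w = 1 ∨ w = a := by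
  have hp2 : Fact (Nat.Prime 2) := ⟨Nat.prime_two⟩
  have hp : IsPGroup 2 ↥(zpowers w) := Gamma.pgroup_zpowers hw
  obtain ⟨g, hg, h4⟩ := hT.conj_le (R := zpowers w) (zpowers_le.mpr (mem_c hwa)) hp
  have hga : g * a = a * g := comm_c hg
  rcases h _ (h4 w (mem_zpowers w)) (fixes_conj hf (hn hg)) with h5 | h5
  · left
    calc w = g⁻¹ * (g * w * g⁻¹) * g := by group
      _ = 1 := by rw [h5]; group
  · right
    calc w = g⁻¹ * (g * w * g⁻¹) * g := by group
      _ = g⁻¹ * (a * g) := by rw [h5]; group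
      _ = a := by rw [← hga]; group

omit H Tr in
/-- **(Q2)**: there is a triple with `m(Q) ≥ 2` -/
theorem exists_big (H : Pgl G) (hG : MinCex G) (hO : OneInv G)
    (FT : ∀ Y : Subgroup G, Odd (Nat.card ↥Y) → Group.IsSolvable ↥Y) (hr : ¬ SectionalPRankLE 2 4 G)
    (hex : ∃ (x a : G) (L : Subgroup G), IsTriple x a L) :
    ∃ (x a : G) (L : Subgroup G), IsTriple x a L ∧
      ∃ q : G, q * a = a * q ∧ Fixes q L ∧ q * q = 1 ∧ q ≠ 1 ∧ q ≠ a := by
  by_contra hcon
  push Not at hcon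
  have hQ : Frame.Q2 G := by
    intro x a L Tr w hwa hw hf
    have hn := FourB.OneQ.norm_of_one H Tr (hO x a L Tr)
    have hp2 : Fact (Nat.Prime 2) := ⟨Nat.prime_two⟩
    obtain ⟨T, hT⟩ := exists_sylIn (p := 2) (centralizer ({a} : Set G))
    rcases card_or H Tr hG hr hn hT with h | ⟨q, hq, hqL, hqq, hq1, hqa⟩
    · exact two_of_syl hn hT h hwa hw hf
    · exact absurd (hcon x a L Tr q (comm_c (hT.le hq)) hqL hqq hq1) hqa
  obtain ⟨x, a, L, Tr⟩ := hex
  exact Main.no_triple hG H hQ FT hr Tr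

end Cfsg.Agent.UGT.PQ.Bridge
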