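import Cfsg.Agent.UGT.PQ.Tools
import Cfsg.Agent.UGT.RankOneR

/-!
# (Q2), case (A) is impossible (helper269)

`caseB_of : Conf .. → ∃ h, CaseB x a z h U`.

* `Loc` (local part): `U = C_V(a)`, `V` a Sylow 2-subgroup of `C(x)`, no `n ∈ N_{C(x)}(U)` with `a^n = az`, `a` not
  conjugate to `xa`, `xaz` ⇒ `V = U` and `[C(x), z] ≤ O(C(x))` (Burnside, `Z*`); the normal 2-complement of `C(x)`
  is not needed;
* `End.false` : contradiction.
-/

set_option autoImplicit false
set_option linter.unusedSectionVars false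

open Cfsg Subgroup
open Cfsg.Agent.SignalizersComponents Cfsg.Agent.Lib
open Cfsg.Agent.SignalizersComponents.IntrinsicBasic
open Cfsg.Agent.Intrinsic.Basic Cfsg.Agent.Intrinsic.Cen
open Cfsg.Agent.UGT.Triple Cfsg.Agent.UGT.TriBase Cfsg.Agent.UGT.PQ.Defs Cfsg.Agent.UGT.PQ.Tools
open scoped commutatorElement

namespace Cfsg.Agent.UGT.PQ.CaseA

universe u

variable {G : Type u} [Group G]

/-- the situation after `[C(x), z] ≤ O(C(x))` -/
structure End (x a z g c : G) (L M : Subgroup G) : Prop where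
  zz : z * z = 1
  aa : a * a = 1
  za : z * a = a * z
  zx : z * x = x * z
  hz : Hz z x
  gx : g * x * g⁻¹ = x * a
  ga : g * a * g⁻¹ = a * z
  gz : g * z = z * g
  cx : c * x * c⁻¹ = x * z
  cz : c * z = z * c
  gM : g ∈ M
  cM : c ∈ M
  LM : L ≤ M
  OM : Oc x ≤ M
  Oz : ∀ d ∈ Oc x, d * z = z * d → d ∈ core M
  tor : Tor L x z
  aL : ∀ l ∈ L, l * a = a * l
  cL : core L ≤ core M

theorem End.false [Finite G] {x a z g c : G} {L M : Subgroup G} (h : End x a z g c L M) : False := by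
  -- the four involutions
  have hz1 := h.hz
  have hz2 : Hz z (x * z) := by
    have := h.hz.cj h.cz
    rwa [h.cx] at this
  have hz3 : Hz z (x * a) := by
    have := h.hz.cj h.gz
    rwa [h.gx] at this
  have egz : g * z * g⁻¹ = z := conj_eq_of_comm h.gz
  have egxz : g * (x * z) * g⁻¹ = x * a * z := by
    calc g * (x * z) * g⁻¹ = (g * x * g⁻¹) * (g * z * g⁻¹) := by group
      _ = x * a * z := by rw [h.gx, egz]
  have hz4 : Hz z (x * a * z) := by
    have := hz2.cj h.gz
    rwa [egxz] at this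
  have ab1 : Ab M x := by
    intro d hd e he
    refine comm_of_inverts (z := z) h.OM (fun d hd => ?_) hd he
    exact inverts (odd_card_core _) h.zz (fun d hd => conj_Oc_comm h.zx hd) h.OM h.Oz hd
  have ab2 : Ab M (x * z) := by
    have := ab1.cj h.cM
    rwa [h.cx] at this
  have ab3 : Ab M (x * a) := by
    have := ab1.cj h.gM
    rwa [h.gx] at this
  have ab4 : Ab M (x * a * z) := by
    have := ab2.cj h.gM
    rwa [egxz] at this
  -- `L' = L^g`
  have LM' : cj g L ≤ M := by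
    intro l hl
    have h1 := M.mul_mem (M.mul_mem h.gM (h.LM (IntrinsicBasic.mem_cj.mp hl))) (M.inv_mem h.gM)
    have e : g * (g⁻¹ * l * g) * g⁻¹ = l := by group
    rwa [e] at h1
  have aL' : ∀ l ∈ cj g L, l * (a * z) = a * z * l := by
    intro l hl
    have h1 := h.aL _ (IntrinsicBasic.mem_cj.mp hl)
    calc l * (a * z) = g * (g⁻¹ * l * g * a) * g⁻¹ := by rw [← h.ga]; group
      _ = g * (a * (g⁻¹ * l * g)) * g⁻¹ := by rw [h1]
      _ = (g * a * g⁻¹) * l := by group
      _ = a * z * l := by rw [h.ga]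
  have cL' : core (cj g L) ≤ core M := by
    intro d hd
    rw [core_cj, IntrinsicBasic.mem_cj] at hd
    have h1 := conj_core h.gM (h.cL hd)
    have e : g * (g⁻¹ * d * g) * g⁻¹ = d := by group
    rwa [e] at h1
  have tor' : Tor (cj g L) x z := by
    have h1 := h.tor.cj g
    rw [h.gx, egz] at h1
    have h2 := h1.mul aL'
    have e : x * a * (a * z) = x * z := by
      calc x * a * (a * z) = x * (a * a) * z := by group
        _ = x * z := by rw [h.aa, mul_one]
    rw [e] at h2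
    have h3 := h2.symm h.zz
    have e : x * z * z = x := by rw [mul_assoc, h.zz, mul_one]
    rwa [e] at h3
  -- commutators `[t, z]`
  have comL : ∀ t ∈ L, t * x = x * t → ⁅t, z⁆ ∈ Oc x ∧ ⁅t, z⁆ ∈ Oc (x * a) := by
    intro t ht h1
    refine ⟨hz1 t h1, hz3 t ?_⟩
    calc t * (x * a) = (t * x) * a := by group
      _ = x * (t * a) := by rw [h1]; group
      _ = x * a * t := by rw [h.aL t ht]; group
  have comL2 : ∀ t ∈ L, t * (x * z) = x * z * t → ⁅t, z⁆ ∈ Oc (x * z) ∧ ⁅t, z⁆ ∈ Oc (x * a * z) := by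
    intro t ht h1
    refine ⟨hz2 t h1, hz4 t ?_⟩
    have e : x * a * z = x * z * a := by rw [mul_assoc, ← h.za, ← mul_assoc]
    rw [e]
    calc t * (x * z * a) = (t * (x * z)) * a := by group
      _ = x * z * (t * a) := by rw [h1]; group
      _ = x * z * a * t := by rw [h.aL t ht]; group
  have comL' : ∀ t ∈ cj g L, t * x = x * t → ⁅t, z⁆ ∈ Oc x ∧ ⁅t, z⁆ ∈ Oc (x * a * z) := by
    intro t ht h1
    refine ⟨hz1 t h1, hz4 t ?_⟩
    calc t * (x * a * z) = (t * x) * (a * z) := by group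
      _ = x * (t * (a * z)) := by rw [h1]; group
      _ = x * a * z * t := by rw [aL' t ht]; group
  have comL2' : ∀ t ∈ cj g L, t * (x * z) = x * z * t → ⁅t, z⁆ ∈ Oc (x * z) ∧ ⁅t, z⁆ ∈ Oc (x * a) := by
    intro t ht h1
    refine ⟨hz2 t h1, hz3 t ?_⟩
    have e : x * a = x * z * (a * z) := by
      calc x * a = x * a * (z * z) := by rw [h.zz, mul_one]
        _ = x * (a * z) * z := by group
        _ = x * (z * a) * z := by rw [h.za]
        _ = x * z * (a * z) := by group
    rw [e]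
    calc t * (x * z * (a * z)) = (t * (x * z)) * (a * z) := by group
      _ = x * z * (t * (a * z)) := by rw [h1]; group
      _ = x * z * (a * z) * t := by rw [aL' t ht]; group
  obtain ⟨U, hU⟩ : ∃ U : Set G, U = {u | ∃ t ∈ cj g L, (t * x = x * t ∨ t * (x * z) = x * z * t) ∧
      u = ⁅t, z⁆} := ⟨_, rfl⟩
  have com_mem : ∀ {N : Subgroup G}, z ∈ N → ∀ t ∈ N, ⁅t, z⁆ ∈ N := by
    intro N hzN t ht
    rw [commutatorElement_def]
    exact N.mul_mem (N.mul_mem (N.mul_mem ht hzN) (N.inv_mem ht)) (N.inv_mem hzN)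
  have hUM : U ⊆ M := by
    rintro u hu
    rw [hU] at hu
    obtain ⟨t, ht, -, rfl⟩ := hu
    exact LM' (com_mem tor'.zL t ht)
  have P1 : L ≤ Cm M U := by
    refine h.tor.gen _ (h.cL.trans (core_le_Cm hUM)) ?_ ?_
    · intro t ht h1
      refine mem_Cm.mpr ⟨h.LM (com_mem h.tor.zL t ht), fun u hu => ?_⟩
      rw [hU] at hu
      obtain ⟨s, hs, h2, rfl⟩ := hu
      rcases h2 with h2 | h2
      · exact ab1 _ (comL t ht h1).1 _ (comL' s hs h2).1
      · exact ab3 _ (comL t ht h1).2 _ (comL2' s hs h2).2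
    · intro t ht h1
      refine mem_Cm.mpr ⟨h.LM (com_mem h.tor.zL t ht), fun u hu => ?_⟩
      rw [hU] at hu
      obtain ⟨s, hs, h2, rfl⟩ := hu
      rcases h2 with h2 | h2
      · exact ab4 _ (comL2 t ht h1).2 _ (comL' s hs h2).2
      · exact ab2 _ (comL2 t ht h1).1 _ (comL2' s hs h2).1
  have P2 : cj g L ≤ Cm M (L : Set G) := by
    refine tor'.gen _ (cL'.trans (core_le_Cm h.LM)) ?_ ?_
    · intro t ht h1
      refine mem_Cm.mpr ⟨LM' (com_mem tor'.zL t ht), fun u hu => ?_⟩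
      exact comm_symm ((mem_Cm.mp (P1 hu)).2 _ (by rw [hU]; exact ⟨t, ht, Or.inl h1, rfl⟩))
    · intro t ht h1
      refine mem_Cm.mpr ⟨LM' (com_mem tor'.zL t ht), fun u hu => ?_⟩
      exact comm_symm ((mem_Cm.mp (P1 hu)).2 _ (by rw [hU]; exact ⟨t, ht, Or.inr h1, rfl⟩))
  apply h.tor.zne
  intro l hl
  refine inf_core_le h.LM ?_ ((mem_Cm.mp (P2 tor'.zL)).2 l hl)
  rw [commutatorElement_def]
  exact L.mul_mem (L.mul_mem (L.mul_mem h.tor.zL hl) (L.inv_mem h.tor.zL)) (L.inv_mem hl)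

/-! ### the local part -/

variable {x a z c i g : G} {L P U M W : Subgroup G}

/-- in case (A) no element of `N_{C(x)}(U)` maps `a` to `az` -/
theorem no_az (C : Conf x a z c i g L P U M W) (hno : ∀ h : G, ¬ CaseB x a z h U) [Finite G] {n : G}
    (hx : n * x = x * n) (hU : n ∈ normalizer (U : Set G)) : n * a * n⁻¹ ≠ a * z := by
  intro ha
  have hz : n * z * n⁻¹ = z := C.Uch n hU
  obtain ⟨k, m, hm, hk⟩ := Nat.exists_eq_two_pow_mul_odd (orderOf_pos n).ne'
  have hpow : ∀ j : ℕ, n ^ j * a * (n ^ j)⁻¹ = a * z ^ j := by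
    intro j
    induction j with
    | zero => simp
    | succ j ih =>
      have hzj : n * z ^ j * n⁻¹ = z ^ j := by
        rw [← MulAut.conj_apply, map_pow, MulAut.conj_apply, hz]
      calc n ^ (j + 1) * a * (n ^ (j + 1))⁻¹ = n * (n ^ j * a * (n ^ j)⁻¹) * n⁻¹ := by
            rw [pow_succ']; group
        _ = n * (a * z ^ j) * n⁻¹ := by rw [ih]
        _ = (n * a * n⁻¹) * (n * z ^ j * n⁻¹) := by group
        _ = a * z * z ^ j := by rw [ha, hzj]
        _ = a * z ^ (j + 1) := by rw [pow_succ', mul_assoc]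
  refine hno (n ^ m) ⟨?_, Subgroup.pow_mem _ hU m, ?_, k, ?_⟩
  · have h1 : Commute n x := hx
    exact h1.pow_left m
  · rw [hpow]
    obtain ⟨r, rfl⟩ := hm
    rw [pow_succ, pow_mul, pow_two, C.zz, one_pow, one_mul]
  · rw [← pow_mul, mul_comm, ← hk, pow_orderOf_eq_one]

variable [Finite G]

theorem cM (C : Conf x a z c i g L P U M W) : c ∈ M := C.LM (C.PL C.cP)

theorem AT_a (C : Conf x a z c i g L P U M W) : AT a := ⟨x, L, C.tri⟩

/-- `core L ≤ O(C(a))` -/
theorem core_L_le (C : Conf x a z c i g L P U M W) : core L ≤ Oc a := by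
  refine le_core ((core_le L).trans C.tri.comp.le) ?_ (odd_card_core L)
  exact C.LN.trans (normalizer_le_normalizer_core L)

theorem W_le_core (C : Conf x a z c i g L P U M W) : W ≤ core M := by
  rw [C.MW]
  exact le_core le_normalizer le_rfl C.Wodd

theorem Oc_a_le (C : Conf x a z c i g L P U M W) : Oc a ≤ W := by
  rw [← C.WO a (Or.inl rfl)]
  exact inf_le_left

theorem Oc_z_le (C : Conf x a z c i g L P U M W) : Oc z ≤ W := by
  rw [← C.WO z (Or.inr (Or.inl rfl))]
  exact inf_le_left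

theorem tor (C : Conf x a z c i g L P U M W) : Tor L x z :=
  ⟨C.zL, C.gen, fun h => C.nfz ⟨le_normalizer C.zL, h⟩⟩

/-- the elements of `C_V(a)` lie in `U` -/
theorem cen (C : Conf x a z c i g L P U M W) {V : Subgroup G} (hV : IsSyl (centralizer ({x} : Set G)) V)
    (hUV : U ≤ V) {v : G} (hv : v ∈ V) (hva : v * a = a * v) : v ∈ U := by
  have h1 : V ⊓ centralizer ({a} : Set G) = U := by
    refine C.U2.max _ (hV.two.to_le inf_le_left) ?_ ?_
    · exact le_inf inf_le_right (inf_le_left.trans hV.le)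
    · exact le_inf hUV (C.U2.le.trans inf_le_left)
  rw [← h1]
  exact ⟨hv, mem_centralizer_singleton_iff.mpr hva⟩

/-- case (A): `U` is a Sylow 2-subgroup of `C(x)` -/
theorem syl_eq (C : Conf x a z c i g L P U M W) (hno : ∀ h : G, ¬ CaseB x a z h U)
    (hgx : g * x * g⁻¹ = x * a) {V : Subgroup G} (hV : IsSyl (centralizer ({x} : Set G)) V) (hUV : U ≤ V) :
    V = U := by
  refine le_antisymm ?_ hUV
  by_contra hne
  obtain ⟨v, hv, hvT, hn, hn'⟩ := RankOneR.exists_norm hV.two hUV hne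
  have hvN : v ∈ normalizer (U : Set G) := mem_normalizer_of_conj hn
  have hvx : v * x = x * v := mem_centralizer_singleton_iff.mp (hV.le hv)
  have e1 : v * x * v⁻¹ = x := conj_eq_of_comm hvx
  have e2 : v * z * v⁻¹ = z := C.Uch v hvN
  have key : ∀ y, v * y * v⁻¹ = y → v * a * v⁻¹ = y → a = y := by
    intro y h1 h2
    have h3 : v * a * v⁻¹ = v * y * v⁻¹ := by rw [h1, h2]
    exact mul_left_cancel (mul_right_cancel h3)
  have e3 : v * (x * z) * v⁻¹ = x * z := by
    calc v * (x * z) * v⁻¹ = (v * x * v⁻¹) * (v * z * v⁻¹) := by group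
      _ = x * z := by rw [e1, e2]
  have hsq : v * a * v⁻¹ * (v * a * v⁻¹) = 1 := by
    calc v * a * v⁻¹ * (v * a * v⁻¹) = v * (a * a) * v⁻¹ := by group
      _ = 1 := by rw [C.aa]; group
  have hATv : AT (v * a * v⁻¹) := (AT_a C).conj v
  rcases C.Ui _ (hn a C.Ua) hsq with h1 | h1 | h1 | h1 | h1 | h1 | h1 | h1
  · apply C.a1
    calc a = v⁻¹ * (v * a * v⁻¹) * v := by group
      _ = 1 := by rw [h1]; group
  · exact hvT (cen C hV hUV hv (comm_of_conj_eq h1))
  · exact C.nax (key x e1 h1)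
  · exact C.naz (key z e2 h1)
  · rw [h1, C.ax, ← hgx] at hATv
    exact not_AT_conj C.nAx g hATv
  · exact no_az C hno hvx hvN h1
  · -- `a = xz`
    have h2 := key _ e3 h1
    apply C.naxz
    calc a * x = x * z * x := by rw [h2]
      _ = z * x * x := by rw [C.xz]
      _ = z := by rw [mul_assoc, C.xx, mul_one]
  · have h2 : a * x * z = (g * c) * x * (g * c)⁻¹ := by
      calc a * x * z = x * a * z := by rw [C.ax]
        _ = (g * x * g⁻¹) * (g * z * g⁻¹) := by rw [hgx, C.gz]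
        _ = g * (x * z) * g⁻¹ := by group
        _ = g * (c * x * c⁻¹) * g⁻¹ := by rw [C.cx]
        _ = (g * c) * x * (g * c)⁻¹ := by group
    rw [h1, h2] at hATv
    exact not_AT_conj C.nAx _ hATv

/-- `z` is isolated in the abelian Sylow 2-subgroup `U` of `C(x)` -/
theorem iso (C : Conf x a z c i g L P U M W) (hU : IsSyl (centralizer ({x} : Set G)) U) {y : G}
    (hy : y * x = x * y) (hyU : y * z * y⁻¹ ∈ U) : y * z * y⁻¹ = z := by
  have h2 : Fact (Nat.Prime 2) := ⟨Nat.prime_two⟩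
  obtain ⟨Q, hQ⟩ := hU.exists_sylow
  have memQ : ∀ t : ↥(centralizer ({x} : Set G)), t ∈ (Q : Subgroup ↥(centralizer ({x} : Set G))) ↔ (t : G) ∈ U := by
    intro t
    rw [← hQ]
    constructor
    · exact fun ht => ⟨t, ht, rfl⟩
    · rintro ⟨s, hs, hst⟩
      have : s = t := Subtype.ext hst
      rwa [← this]
  have hzx : z ∈ centralizer ({x} : Set G) := mem_centralizer_singleton_iff.mpr C.xz.symm
  have hyx : y ∈ centralizer ({x} : Set G) := mem_centralizer_singleton_iff.mpr hy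
  obtain ⟨n, hn, h3⟩ := Q.conj_eq_normalizer_conj_of_mem_centralizer (⟨z, hzx⟩ : ↥(centralizer ({x} : Set G)))
    (⟨y, hyx⟩⁻¹) (by
      rw [mem_centralizer_iff]
      intro t ht
      exact Subtype.ext (C.Uc _ ((memQ t).mp ht) _ C.Uz)) (by
      rw [mem_centralizer_iff]
      intro t ht
      apply Subtype.ext
      have e : (((⟨y, hyx⟩ : ↥(centralizer ({x} : Set G)))⁻¹)⁻¹ * ⟨z, hzx⟩ * (⟨y, hyx⟩ : ↥(centralizer ({x} : Set G)))⁻¹ :
          ↥(centralizer ({x} : Set G))) = ⟨y * z * y⁻¹, mul_mem (mul_mem hyx hzx) (inv_mem hyx)⟩ := by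
        rw [inv_inv]
        rfl
      rw [e]
      exact C.Uc _ ((memQ t).mp ht) _ hyU)
  have h4 : (y * z * y⁻¹ : G) = (n : G)⁻¹ * z * n := by
    have h5 := congrArg Subtype.val h3
    simp only [inv_inv] at h5
    exact h5
  have h5 : (n : G)⁻¹ ∈ normalizer (U : Set G) := by
    refine mem_normalizer_of_conj fun t ht => ?_
    have htx : t ∈ centralizer ({x} : Set G) := hU.le ht
    have h6 := (mem_normalizer_iff.mp (inv_mem hn) ⟨t, htx⟩).mp ((memQ _).mpr ht)
    exact (memQ _).mp h6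
  have h6 := C.Uch _ h5
  rw [inv_inv] at h6
  rw [h4, h6]

/-- case (A), local part: `[C(x), z] ≤ O(C(x))` -/
theorem hz_of (C : Conf x a z c i g L P U M W) (hU : IsSyl (centralizer ({x} : Set G)) U) : Hz z x := by
  intro y hy
  refine comm_symm ?_
  rw [commutatorElement_def]
  refine FourA.Zst.zstar_sub hU.two hU.le (fun R h1 h2 h3 => (hU.max R h1 h3 h2).le) (order_two C.zz C.z1) C.Uz ?_
    y (mem_centralizer_singleton_iff.mpr hy)
  intro g hg hgV
  exact iso C hU (mem_centralizer_singleton_iff.mp hg) hgV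

/-- **case (A) is impossible** -/
theorem caseB_of (C : Conf x a z c i g L P U M W) : ∃ h, CaseB x a z h U := by
  by_contra hno
  push Not at hno
  have hgx : g * x * g⁻¹ = x * a := by
    rcases C.gx with h1 | h1
    · exact absurd C.ga (no_az C hno (comm_of_conj_eq h1) C.gU)
    · exact h1
  obtain ⟨V, hV, hUV⟩ := exists_isSyl C.U2.two (C.U2.le.trans inf_le_right)
  have hVU := syl_eq C hno hgx hV hUV
  rw [hVU] at hV
  refine End.false (x := x) (a := a) (z := z) (g := g) (c := c) (L := L) (M := M)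
    ⟨C.zz, C.aa, C.az.symm, C.xz.symm, hz_of C hV, hgx, C.ga, comm_of_conj_eq C.gz, C.cx, (C.Pz c C.cP), C.gM,
      cM C, C.LM, C.OxM, ?_, tor C, ?_, ?_⟩
  · intro d hd hdz
    refine W_le_core C (Oc_z_le C ?_)
    exact bal C.xx C.x1 C.zz C.z1 C.xz C.nAz ⟨hd, mem_centralizer_singleton_iff.mpr hdz⟩
  · intro l hl
    exact mem_centralizer_singleton_iff.mp (C.tri.comp.le hl)
  · exact (core_L_le C).trans ((Oc_a_le C).trans (W_le_core C))

end Cfsg.Agent.UGT.PQ.CaseA
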