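import Cfsg.Agent.UGT.PQ.Quo

/-!
# (Q2): the configuration modulo `O(⟨O_x, O_xz, O_z⟩)`
-/

set_option autoImplicit false

open Cfsg Subgroup
open Cfsg.Agent.SignalizersComponents Cfsg.Agent.Lib
open Cfsg.Agent.SignalizersComponents.IntrinsicBasic
open Cfsg.Agent.Intrinsic.Basic Cfsg.Agent.Intrinsic.Cen
open Cfsg.Agent.Lib.KleinGen
open Cfsg.Agent.UGT.Triple Cfsg.Agent.UGT.TriBase
open Cfsg.Agent.UGT.PQ.Defs Cfsg.Agent.UGT.PQ.GT Cfsg.Agent.UGT.PQ.Quo
open scoped commutatorElement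

namespace Cfsg.Agent.UGT.PQ.CQ

section grp

variable {H : Type*} [Group H]

theorem comm_of_inv {z : H} {A : Subgroup H} (h : ∀ a ∈ A, z * a * z⁻¹ = a⁻¹) : ∀ a ∈ A, ∀ b ∈ A, a * b = b * a := by
  intro a ha b hb
  have h1 := h _ (A.mul_mem ha hb)
  have h2 : z * (a * b) * z⁻¹ = (z * a * z⁻¹) * (z * b * z⁻¹) := by group
  rw [h2, h a ha, h b hb, mul_inv_rev] at h1
  have h3 : (b * a)⁻¹ = (a * b)⁻¹ := by rw [mul_inv_rev, mul_inv_rev, h1]
  exact (inv_injective h3).symm

/-- an involution on a nontrivial elementary abelian 2-group has a fixed point, which commutes with everything that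
commutes with the involution and the starting point -/
theorem exists_fix {Z : Subgroup H} (hZ : ∀ u ∈ Z, ∀ v ∈ Z, u * v = v * u) {s : H} (ss : s * s = 1)
    (hs : ∀ u ∈ Z, s * u * s⁻¹ ∈ Z) {w : H} (hw : w ∈ Z) (ww : w * w = 1) (w1 : w ≠ 1) :
    ∃ w' ∈ Z, w' * w' = 1 ∧ w' ≠ 1 ∧ s * w' = w' * s ∧ ∀ r : H, r * s = s * r → r * w = w * r → r * w' = w' * r := by
  by_cases h1 : s * w * s⁻¹ = w
  · exact ⟨w, hw, ww, w1, mul_inv_eq_iff_eq_mul.mp h1, fun r _ h => h⟩
  · have hsi := inv_self ss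
    have h2 := hZ w hw _ (hs w hw)
    refine ⟨w * (s * w * s⁻¹), Z.mul_mem hw (hs w hw), ?_, ?_, ?_, ?_⟩
    · calc w * (s * w * s⁻¹) * (w * (s * w * s⁻¹)) = w * ((s * w * s⁻¹) * w) * (s * w * s⁻¹) := by group
        _ = w * (w * (s * w * s⁻¹)) * (s * w * s⁻¹) := by rw [h2]
        _ = (w * w) * (s * (w * w) * s⁻¹) := by group
        _ = 1 := by rw [ww]; group
    · intro h3
      apply h1
      rw [eq_inv_of_mul_eq_one_right h3, inv_self ww]
    · calc s * (w * (s * w * s⁻¹)) = (s * w * s⁻¹) * ((s * s) * w * s⁻¹) := by group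
        _ = (s * w * s⁻¹) * w * s⁻¹ := by rw [ss]; group
        _ = w * (s * w * s⁻¹) * s⁻¹ := by rw [← h2]
        _ = w * (s * w * s⁻¹) * s := by rw [hsi]
    · intro r hr hrw
      have h3 : r * s⁻¹ = s⁻¹ * r := by rw [hsi]; exact hr
      calc r * (w * (s * w * s⁻¹)) = (r * w) * (s * w * s⁻¹) := by group
        _ = w * (r * s) * w * s⁻¹ := by rw [hrw]; group
        _ = w * s * (r * w) * s⁻¹ := by rw [hr]; group
        _ = w * s * w * (r * s⁻¹) := by rw [hrw]; group
        _ = w * (s * w * s⁻¹) * r := by rw [h3]; group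

end grp

section conf

variable {G : Type*} [Group G] [Finite G] {x a z c i g h : G} {L P U M W : Subgroup G}

/-- `s` inverts the image of `O_u` -/
theorem inv_of {N : Subgroup G} {s u : G} (ss : s * s = 1) (s1 : s ≠ 1) (uu : u * u = 1) (u1 : u ≠ 1)
    (su : s * u = u * s) (hs : ¬ AT s) (hsN : Oc s ≤ core N) (hs' : s ∈ normalizer (N : Set G)) (hu : Oc u ≤ N) :
    ∀ v ∈ im N (Oc u), q N s * v * (q N s)⁻¹ = v⁻¹ := by
  intro v hv
  have hu' : Oc u ≤ normalizer (N : Set G) := hu.trans le_normalizer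
  obtain ⟨w, hw, rfl⟩ := (mem_im hu').mp hv
  obtain ⟨e, he, d, hd, h1, h2, rfl⟩ := exists_centralizer_mul_inverted (Oc u) (odd_card_core _) s ss
    (fun a ha => oc_norm su ha) hw
  have h3 : q N e = 1 := by
    apply q_core
    apply hsN
    exact bal uu u1 ss s1 su.symm hs ⟨he, mem_cen.mpr h1.symm⟩
  rw [q_mul (hu' he) (hu' hd), h3, one_mul, ← q_conj hs' (hu' hd), h2, q_inv]

variable (C : Conf x a z c i g L P U M W) (Γ : Gam x a z c h L U M W)

section onlyC

include C

theorem cz : c * z = z * c := C.Pz c C.cP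

theorem x_norm : x ∈ normalizer (GA x z : Set G) := GA_norm rfl C.xz

theorem z_norm : z ∈ normalizer (GA x z : Set G) := GA_norm C.xz.symm rfl

theorem c_norm : c ∈ normalizer (GA x z : Set G) := by
  rw [mem_normalizer_iff_cj, cj_GA, C.cx, conj_eq_of_comm (cz C)]
  unfold GA
  rw [mul_assoc, C.zz, mul_one, sup_comm (Oc (x * z))]

end onlyC

omit [Finite G] in
theorem GA_le_norm : GA x z ≤ normalizer (GA x z : Set G) := le_normalizer

omit [Finite G] in
theorem Ox_norm : Oc x ≤ normalizer (GA x z : Set G) := (Oc_le_GA x z).trans le_normalizer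

omit [Finite G] in
theorem Ox'_norm : Oc (x * z) ≤ normalizer (GA x z : Set G) := (Oc'_le_GA x z).trans le_normalizer

omit [Finite G] in
theorem Ox''_norm : Oc z ≤ normalizer (GA x z : Set G) := (Oc''_le_GA x z).trans le_normalizer

section onlyG

include Γ

/-- the image of `⟨O_x, O_xz, O_z⟩` is generated by the images of `O_x`, `O_xz` -/
theorem im_GA : im (GA x z) (GA x z) = im (GA x z) (Oc x) ⊔ im (GA x z) (Oc (x * z)) := by
  have h1 : im (GA x z) (GA x z) = im (GA x z) (Oc x ⊔ Oc (x * z) ⊔ Oc z) := rfl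
  have h3 : im (GA x z) (Oc z) = ⊥ := by
    rw [eq_bot_iff, ← im_core]
    exact im_mono Γ.Ozle
  rw [h1, im_sup (sup_le Ox_norm Ox'_norm) Ox''_norm, im_sup Ox_norm Ox'_norm, h3, sup_bot_eq]

/-- P11 in the quotient -/
theorem ker_q {t : G} (tx : t * x = x * t) (tz : t * z = z * t) (h2 : ∃ n : ℕ, t ^ 2 ^ n = 1)
    (hc : ∀ v ∈ im (GA x z) (GA x z), q (GA x z) t * v = v * q (GA x z) t) : t = 1 := by
  refine Γ.ker t tx tz h2 fun y hy => ?_
  rw [← q_comm (GA_norm tx tz) (le_normalizer hy)]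
  exact hc _ (q_mem_im le_normalizer hy)

end onlyG

include C Γ

theorem inv_x : ∀ v ∈ im (GA x z) (Oc x), q (GA x z) z * v * (q (GA x z) z)⁻¹ = v⁻¹ :=
  inv_of C.zz C.z1 C.xx C.x1 C.xz.symm C.nAz Γ.Ozle (z_norm C) (Oc_le_GA x z)

theorem zxz : z * (x * z) = x * z * z := by rw [← mul_assoc, ← C.xz]

theorem inv_xz : ∀ v ∈ im (GA x z) (Oc (x * z)), q (GA x z) z * v * (q (GA x z) z)⁻¹ = v⁻¹ :=
  inv_of C.zz C.z1 (xzxz C) (xz1 C) (by rw [← mul_assoc, ← C.xz]) C.nAz Γ.Ozle (z_norm C) (Oc'_le_GA x z)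

/-- `Z` of the image of `⟨O_x, O_xz, O_z⟩` is trivial -/
theorem cen_triv {N : Subgroup G} (hN : N = GA x z) {w : Q N} (hw : w ∈ im N N)
    (hc : ∀ v ∈ im N N, w * v = v * w) : w = 1 := by
  classical
  have hxN : x ∈ normalizer (N : Set G) := hN ▸ x_norm C
  have hzN : z ∈ normalizer (N : Set G) := hN ▸ z_norm C
  set I := im N N with hI
  have hIN : ∀ {s : G}, s ∈ normalizer (N : Set G) → ∀ v ∈ I, q N s * v * (q N s)⁻¹ ∈ I := by
    intro s hs v hv
    obtain ⟨n, hn, rfl⟩ := (mem_im le_normalizer).mp hv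
    rw [← q_conj hs (le_normalizer hn)]
    exact q_mem_im le_normalizer ((mem_normalizer_iff.mp hs n).mp hn)
  have hIN' : ∀ {s : G}, s ∈ normalizer (N : Set G) → ∀ v ∈ I, (q N s)⁻¹ * v * q N s ∈ I := by
    intro s hs v hv
    have h1 := hIN (inv_mem hs) v hv
    rwa [q_inv, inv_inv] at h1
  let Z : Subgroup (Q N) := I ⊓ centralizer (I : Set (Q N))
  have hZc : ∀ u ∈ Z, ∀ v ∈ I, u * v = v * u := fun u hu v hv => (mem_centralizer_iff.mp hu.2 v hv).symm
  have hZn : ∀ {s : G}, s ∈ normalizer (N : Set G) → ∀ u ∈ Z, q N s * u * (q N s)⁻¹ ∈ Z := by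
    intro s hs u hu
    refine Subgroup.mem_inf.mpr ⟨hIN hs u hu.1, ?_⟩
    rw [mem_centralizer_iff]
    intro v hv
    have h1 := hZc u hu _ (hIN' hs v hv)
    have h2 := congrArg (fun t => q N s * t * (q N s)⁻¹) h1
    simp only [mul_assoc, mul_inv_cancel_left, mul_inv_cancel, mul_one] at h2 ⊢
    simpa only [mul_assoc] using h2.symm
  have hwZ : w ∈ Z := ⟨hw, mem_centralizer_iff.mpr fun v hv => (hc v hv).symm⟩
  by_cases ho : Odd (Nat.card ↥Z)
  · have h1 : Z = ⊥ := no_odd inf_le_left (fun u hu r hr => by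
      rw [← hZc r hr u hu, mul_inv_cancel_right]
      exact hr) ho
    rw [h1] at hwZ
    exact mem_bot.mp hwZ
  · exfalso
    -- an involution of `Z`
    obtain ⟨w0, hw0, ww0, w01⟩ : ∃ w0 ∈ Z, w0 * w0 = 1 ∧ w0 ≠ 1 := by
      rw [Nat.not_odd_iff_even] at ho
      obtain ⟨y, hy⟩ := exists_prime_orderOf_dvd_card' (G := ↥Z) 2 ho.two_dvd
      refine ⟨y, y.2, ?_, ?_⟩
      · have := pow_orderOf_eq_one y
        rw [hy, pow_two] at this
        exact congrArg Subtype.val this
      · intro h1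
        have : y = 1 := Subtype.ext h1
        rw [this, orderOf_one] at hy
        exact absurd hy (by norm_num)
    have hZZ : ∀ u ∈ Z, ∀ v ∈ Z, u * v = v * u := fun u hu v hv => hZc u hu v hv.1
    have hxx : q N x * q N x = 1 := by rw [← q_mul hxN hxN, C.xx, q_one]
    have hzz : q N z * q N z = 1 := by rw [← q_mul hzN hzN, C.zz, q_one]
    obtain ⟨w1, hw1, ww1, w11, hw1x, -⟩ := exists_fix hZZ hxx (hZn hxN) hw0 ww0 w01
    obtain ⟨w2, hw2, ww2, w21, hw2z, hw2'⟩ := exists_fix hZZ hzz (hZn hzN) hw1 ww1 w11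
    have hxz : q N x * q N z = q N z * q N x := by
      rw [← q_mul hxN hzN, C.xz, q_mul hzN hxN]
    have hw2x := hw2' (q N x) hxz hw1x
    -- lift
    obtain ⟨g0, hg0, rfl⟩ := (mem_im le_normalizer).mp hw2.1
    have hcl : ∀ t ∈ closure ({x, z} : Set G), q N t * q N g0 = q N g0 * q N t := by
      intro t ht
      have h1 : closure ({x, z} : Set G) ≤ pre N (centralizer {q N g0}) := by
        rw [closure_le]
        rintro s hs
        rw [Set.mem_insert_iff, Set.mem_singleton_iff] at hs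
        rcases hs with rfl | rfl
        · exact mem_pre.mpr ⟨hxN, mem_cen.mpr hw2x⟩
        · exact mem_pre.mpr ⟨hzN, mem_cen.mpr hw2z⟩
      exact mem_cen.mp (mem_pre.mp (h1 ht)).2
    have hclN : closure ({x, z} : Set G) ≤ normalizer (N : Set G) := by
      rw [closure_le]
      rintro s hs
      rw [Set.mem_insert_iff, Set.mem_singleton_iff] at hs
      rcases hs with rfl | rfl
      · exact hxN
      · exact hzN
    have hcp : IsPGroup 2 ↥(closure ({x, z} : Set G)) := by
      refine Cfsg.Agent.UGT.TT.isPGroup_closure ?_ ?_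
      · rintro s hs
        rw [Set.mem_insert_iff, Set.mem_singleton_iff] at hs
        rcases hs with rfl | rfl
        · exact C.xx
        · exact C.zz
      · rintro s hs t ht
        rw [Set.mem_insert_iff, Set.mem_singleton_iff] at hs ht
        rcases hs with rfl | rfl <;> rcases ht with rfl | rfl
        · rfl
        · exact C.xz
        · exact C.xz.symm
        · rfl
    obtain ⟨k, hk, hk'⟩ := lift_coset hcp hclN (le_normalizer hg0) hcl
    set g1 := g0 * k with hg1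
    have hg1N : g1 ∈ N := N.mul_mem hg0 (core_le N hk)
    have hq1 : q N g1 = q N g0 := by
      rw [hg1, q_mul (le_normalizer hg0) (le_normalizer (core_le N hk)), q_core hk, mul_one]
    have hx1 : x * g1 = g1 * x := hk' x (subset_closure (by simp))
    have hz1 : z * g1 = g1 * z := hk' z (subset_closure (by simp))
    obtain ⟨m, hm⟩ := odd_card_core N
    have hsq : g1 * g1 ∈ core N := by
      rw [← q_eq_one (mul_mem (le_normalizer hg1N) (le_normalizer hg1N)), q_mul (le_normalizer hg1N) (le_normalizer hg1N),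
        hq1, ww2]
    set g2 := g1 ^ (Nat.card ↥(core N)) with hg2
    have hg22 : g2 * g2 = 1 := by
      rw [hg2, ← (Commute.refl g1).mul_pow]
      have h1 : (⟨g1 * g1, hsq⟩ : ↥(core N)) ^ Nat.card ↥(core N) = 1 := pow_card_eq_one'
      exact congrArg Subtype.val h1
    have hq2 : q N g2 = q N g0 := by
      rw [hg2, q_pow (le_normalizer hg1N), hq1, hm, pow_succ, pow_mul, pow_two, ww2, one_pow, one_mul]
    have h2 : g2 = 1 := by
      subst hN
      refine ker_q Γ ?_ ?_ ⟨1, by rw [pow_one, pow_two, hg22]⟩ ?_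
      · exact ((show Commute x g1 from hx1).pow_right _).symm
      · exact ((show Commute z g1 from hz1).pow_right _).symm
      · rw [hq2]
        exact hZc _ hw2
    rw [h2, q_one] at hq2
    exact w21 hq2.symm

end conf

end Cfsg.Agent.UGT.PQ.CQ
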