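import Mathlib

/-!
# Counting modulo four on a conjugacy class; the sign of a group on a conjugacy class
-/

set_option autoImplicit false

namespace Cfsg.Agent.UGT.PQ

open Subgroup MulAction

/-- If all orbit lengths are divisible by `n`, so is the number of points. -/
theorem dvd_card_of_orbits {P Y : Type*} [Group P] [Finite P] [MulAction P Y] [Finite Y] {n : ℕ}
    (h : ∀ y : Y, n ∣ (stabilizer P y).index) : n ∣ Nat.card Y := by
  classical
  cases nonempty_fintype Y
  have : Fintype (Quotient (MulAction.orbitRel P Y)) := Fintype.ofFinite _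
  rw [Nat.card_congr (MulAction.selfEquivSigmaOrbits P Y), Nat.card_sigma]
  refine Finset.dvd_sum fun ω _ => ?_
  have h1 := h ω.out
  rw [MulAction.index_stabilizer] at h1
  exact h1

/-- A permutation whose square has no fixed points and whose fourth power is trivial. -/
theorem four_dvd {Y : Type*} [Finite Y] (f : Equiv.Perm Y) (h4 : f * f * (f * f) = 1) (h : ∀ y, f (f y) ≠ y) :
    4 ∣ Nat.card Y := by
  have h1 : ∀ y : Y, 4 ∣ (stabilizer ↥(zpowers f) y).index := by
    intro y
    have h2 : stabilizer ↥(zpowers f) y = ⊥ := by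
      rw [eq_bot_iff]
      rintro ⟨g, k, rfl⟩ hg
      have hg' : (f ^ k) y = y := hg
      rw [mem_bot]
      apply Subtype.ext
      change f ^ k = 1
      have h4' : f ^ (4 : ℤ) = 1 := by
        rw [show (4 : ℤ) = ((4 : ℕ) : ℤ) by norm_num, zpow_natCast, show (4 : ℕ) = 2 * 2 by norm_num, pow_mul, pow_two,
          pow_two]
        exact h4
      have h2' : ∀ y, (f ^ (2 : ℤ)) y ≠ y := by
        intro y
        rw [show (2 : ℤ) = ((2 : ℕ) : ℤ) by norm_num, zpow_natCast, pow_two]
        exact h y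
      obtain ⟨q, r, hr⟩ : ∃ q r : ℤ, k = 4 * q + r ∧ 0 ≤ r ∧ r < 4 := ⟨k / 4, k % 4, by omega, by omega, by omega⟩
      obtain ⟨rfl, hr0, hr4⟩ := hr
      rw [zpow_add, zpow_mul, h4', one_zpow, one_mul] at hg' ⊢
      have h5 : ∀ j : ℤ, (f ^ (r * j)) y = y := by
        intro j
        have h6 : f ^ (r * j) = (f ^ r) ^ j := zpow_mul _ _ _
        rw [h6]
        exact (Equiv.Perm.zpow_apply_eq_self_of_apply_eq_self hg' j)
      interval_cases r
      · exact zpow_zero f
      · exact absurd (h5 2) (by rw [one_mul]; exact h2' y)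
      · exact absurd (h5 1) (by rw [mul_one]; exact h2' y)
      · exfalso
        have h6 := h5 2
        have h7 : f ^ (3 * 2 : ℤ) = f ^ (2 : ℤ) := by
          rw [show (3 * 2 : ℤ) = 4 + 2 by norm_num, zpow_add, h4', one_mul]
        rw [h7] at h6
        exact h2' y h6
    rw [h2, index_bot]
    by_cases hY : Nonempty Y
    · have h5 : orderOf f = 4 := by
        have h6 : orderOf f ∣ 2 ^ 2 := orderOf_dvd_of_pow_eq_one (by
          rw [show (2 ^ 2 : ℕ) = 2 * 2 by norm_num, pow_mul, pow_two, pow_two]; exact h4)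
        rw [Nat.dvd_prime_pow Nat.prime_two] at h6
        obtain ⟨k, hk, hk'⟩ := h6
        have h7 : f * f ≠ 1 := fun h0 => h y (congrArg (fun g : Equiv.Perm Y => g y) h0)
        interval_cases k
        · rw [pow_zero, orderOf_eq_one_iff] at hk'
          exact absurd (by rw [hk', one_mul]) h7
        · rw [pow_one] at hk'
          exact absurd (by rw [← pow_two, ← hk']; exact pow_orderOf_eq_one f) h7
        · exact hk'
      rw [Nat.card_zpowers, h5]
    · exact (hY ⟨y⟩).elim
  exact dvd_card_of_orbits h1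

/-- the sign of an involutory permutation -/
theorem sign_of_sq {Y : Type*} [Fintype Y] [DecidableEq Y] (f : Equiv.Perm Y) (h : f * f = 1) :
    ∃ k : ℕ, Nat.card Y = Nat.card {y // f y = y} + 2 * k ∧ Equiv.Perm.sign f = (-1) ^ k := by
  have hcard : Nat.card Y = Nat.card {y // f y = y} + f.support.card := by
    have h1 : Nat.card {y // f y = y} = (f.support)ᶜ.card := by
      rw [Nat.card_eq_fintype_card, Fintype.card_subtype]
      congr 1
      ext y
      simp
    rw [h1, Finset.card_compl, Nat.card_eq_fintype_card]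
    have := Finset.card_le_univ f.support
    omega
  by_cases h1 : f = 1
  · subst h1
    refine ⟨0, ?_, ?_⟩
    · rw [hcard, Equiv.Perm.support_one]
      simp
    · simp
  · have h2 : orderOf f = 2 := orderOf_eq_prime (by rw [pow_two, h]) h1
    obtain ⟨n, hn⟩ := Equiv.Perm.cycleType_prime_order (σ := f) (by rw [h2]; exact Nat.prime_two)
    rw [h2] at hn
    refine ⟨n + 1, ?_, ?_⟩
    · rw [hcard, ← Equiv.Perm.sum_cycleType, hn, Multiset.sum_replicate, smul_eq_mul]
      ring
    · rw [Equiv.Perm.sign_of_cycleType, hn, Multiset.sum_replicate, Multiset.card_replicate, smul_eq_mul]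
      have e : (n + 1) * 2 + (n + 1) = 2 * (n + 1) + (n + 1) := by ring
      rw [e, pow_add, pow_mul]
      simp

/-- conjugation on the conjugacy class -/
def conjHom {G : Type*} [Group G] (x : G) : G →* Equiv.Perm {t : G // ∃ y : G, y * x * y⁻¹ = t} where
  toFun g :=
    { toFun := fun t => ⟨g * t.1 * g⁻¹, by
        obtain ⟨t, y, rfl⟩ := t
        exact ⟨g * y, by group⟩⟩
      invFun := fun t => ⟨g⁻¹ * t.1 * g, by
        obtain ⟨t, y, rfl⟩ := t
        exact ⟨g⁻¹ * y, by group⟩⟩
      left_inv := fun t => Subtype.ext (by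
        change g⁻¹ * (g * t.1 * g⁻¹) * g = t.1
        group)
      right_inv := fun t => Subtype.ext (by
        change g * (g⁻¹ * t.1 * g) * g⁻¹ = t.1
        group) }
  map_one' := by
    ext t
    change 1 * t.1 * 1⁻¹ = t.1
    group
  map_mul' := by
    intro g h
    ext t
    change g * h * t.1 * (g * h)⁻¹ = g * (h * t.1 * h⁻¹) * g⁻¹
    group

/-- the sign of `G` on the conjugacy class of `x` -/
theorem exists_sign {G : Type*} [Group G] [Finite G] (x : G) : ∃ f : G →* ℤˣ, ∀ u : G, u * u = 1 →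
    ∃ k : ℕ, Nat.card {t : G // ∃ y : G, y * x * y⁻¹ = t} =
      Nat.card {t : G // (∃ y : G, y * x * y⁻¹ = t) ∧ t * u = u * t} + 2 * k ∧ f u = (-1) ^ k := by
  classical
  have : Fintype {t : G // ∃ y : G, y * x * y⁻¹ = t} := Fintype.ofFinite _
  refine ⟨Equiv.Perm.sign.comp (conjHom x), fun u hu => ?_⟩
  obtain ⟨k, hk, hk'⟩ := sign_of_sq (conjHom x u) (by rw [← map_mul, hu, map_one])
  refine ⟨k, ?_, hk'⟩
  rw [hk]
  congr 1
  refine Nat.card_congr ⟨fun t => ⟨t.1.1, t.1.2, ?_⟩, fun t => ⟨⟨t.1, t.2.1⟩, ?_⟩, fun t => rfl, fun t => rfl⟩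
  · have h1 : u * t.1.1 * u⁻¹ = t.1.1 := congrArg Subtype.val t.2
    exact (mul_inv_eq_iff_eq_mul.mp h1).symm
  · apply Subtype.ext
    change u * t.1 * u⁻¹ = t.1
    rw [← t.2.2, mul_inv_cancel_right]

/-- a subgroup acting by conjugation on a set of elements of `G` -/
theorem dvd_card_conj {G : Type*} [Group G] [Finite G] (A : Subgroup G) (S : Set G)
    (hS : ∀ a ∈ A, ∀ s ∈ S, a * s * a⁻¹ ∈ S) {n : ℕ}
    (h : ∀ s ∈ S, n ∣ (A ⊓ centralizer ({s} : Set G)).relIndex A) : n ∣ Nat.card ↥S := by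
  let act : MulAction ↥A ↥S :=
    { smul := fun a s => ⟨a.1 * s.1 * a.1⁻¹, hS a a.2 s s.2⟩
      one_smul := fun s => Subtype.ext (by
        change (1 : G) * s.1 * (1 : G)⁻¹ = s.1
        group)
      mul_smul := fun a b s => Subtype.ext (by
        change (a.1 * b.1) * s.1 * (a.1 * b.1)⁻¹ = a.1 * (b.1 * s.1 * b.1⁻¹) * a.1⁻¹
        group) }
  refine dvd_card_of_orbits (P := ↥A) fun s => ?_
  have h1 : stabilizer ↥A s = (A ⊓ centralizer ({(s : G)} : Set G)).subgroupOf A := by
    ext a
    rw [mem_stabilizer_iff, mem_subgroupOf, mem_inf, mem_centralizer_singleton_iff]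
    constructor
    · intro h2
      have h3 : a.1 * s.1 * a.1⁻¹ = s.1 := congrArg Subtype.val h2
      exact ⟨a.2, mul_inv_eq_iff_eq_mul.mp h3⟩
    · rintro ⟨-, h2⟩
      apply Subtype.ext
      change a.1 * s.1 * a.1⁻¹ = s.1
      rw [h2, mul_inv_cancel_right]
  rw [h1]
  exact h s s.2

end Cfsg.Agent.UGT.PQ
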