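import Cfsg.Agent.UGT.Nodes
import Cfsg.Agent.UGT.Res.Base

/-!
# (Q2): triples of type `L₂(q)`, `x` of `PGL₂` type, `C_T(L/O(L)) = ⟨a⟩`: the interface

Text: bb UGT, helper808, two posts "(Q2) IS DEAD" (P1-P18). `O_u = Oc u = O(C(u))`; `AT t`: `t` is the centre of a
triple ("a-type"); `High t`: `t` lies in an elementary abelian group of order 16.

* `Conf x a z c i g L P U M W`: what P1-P7 give for a triple `(x, a, L)`. `P = T ∩ L ∋ c`, `c² = z`,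
  `c x c⁻¹ = x z`, `U = C_T(x)` a Sylow 2-subgroup of `C(a, x)`, `i ∈ U`, `i² = z`, `g a g⁻¹ = a z`.
* `CaseB x a z h U`: case (B).
* `GA x z = ⟨O_x, O_xz, O_z⟩`, `Gam`: the output of P10-P13; `Fus`: the output of P14.
-/

set_option autoImplicit false

open Cfsg Subgroup
open Cfsg.Agent.SignalizersComponents Cfsg.Agent.Lib
open Cfsg.Agent.SignalizersComponents.IntrinsicBasic
open Cfsg.Agent.Intrinsic.Basic Cfsg.Agent.Intrinsic.Cen
open Cfsg.Agent.McLLyComp.Act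
open Cfsg.Agent.UGT.Triple Cfsg.Agent.UGT.TriBase
open scoped commutatorElement

namespace Cfsg.Agent.UGT.PQ.Defs

variable {G : Type*} [Group G]

/-- `O(C(u))` -/
abbrev Oc (u : G) : Subgroup G := core (centralizer ({u} : Set G))

/-- `t` is the centre of a triple -/
def AT (t : G) : Prop := ∃ (u : G) (J : Subgroup G), IsTriple u t J

/-- `t` lies in an elementary abelian group of order 16 -/
def High (t : G) : Prop := ∃ E : Subgroup G, (∀ e ∈ E, e * e = 1) ∧ Nat.card ↥E = 16 ∧ t ∈ E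

/-- `[O_x ∩ C(a), z]` -/
def YY (x a z : G) : Subgroup G := ⁅Oc x ⊓ centralizer ({a} : Set G), zpowers z⁆

/-- `⟨O_x, O_xz, O_z⟩` -/
def GA (x z : G) : Subgroup G := Oc x ⊔ Oc (x * z) ⊔ Oc z

/-- The configuration (P1-P7), see the header. -/
structure Conf (x a z c i g : G) (L P U M W : Subgroup G) : Prop where
  tri : IsTriple x a L
  xx : x * x = 1
  x1 : x ≠ 1
  aa : a * a = 1
  a1 : a ≠ 1
  zz : z * z = 1
  z1 : z ≠ 1
  ax : a * x = x * a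
  az : a * z = z * a
  xz : x * z = z * x
  nax : a ≠ x
  naz : a ≠ z
  nxz : x ≠ z
  naxz : a * x ≠ z
  /-- `L` is normal in `C(a)` -/
  LN : centralizer ({a} : Set G) ≤ normalizer (L : Set G)
  simp : IsSimpleGroup (↥L ⧸ oddCore ↥L)
  nab : ¬ ∀ u v : ↥L ⧸ oddCore ↥L, u * v = v * u
  zL : z ∈ L
  /-- `z` acts non-trivially on `L / O(L)` -/
  nfz : ¬ Fixes z L
  PL : P ≤ L
  Ptwo : IsPGroup 2 ↥P
  zP : z ∈ P
  Pz : ∀ p ∈ P, p * z = z * p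
  Pnab : ∃ p ∈ P, ∃ p' ∈ P, p * p' ≠ p' * p
  cP : c ∈ P
  cc : c * c = z
  cx : c * x * c⁻¹ = x * z
  /-- `U = C_T(x)` -/
  U2 : IsSyl (centralizer ({a} : Set G) ⊓ centralizer ({x} : Set G)) U
  Uc : ∀ u ∈ U, ∀ v ∈ U, u * v = v * u
  Ui : ∀ u ∈ U, u * u = 1 → u = 1 ∨ u = a ∨ u = x ∨ u = z ∨ u = a * x ∨ u = a * z ∨ u = x * z ∨
    u = a * x * z
  Ua : a ∈ U
  Ux : x ∈ U
  Uz : z ∈ U
  /-- `⟨z⟩ = ℧ᵏ(U)` -/
  Uch : ∀ n ∈ normalizer (U : Set G), n * z * n⁻¹ = z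
  iU : i ∈ U
  ii : i * i = z
  /-- `z` and `x` are not centres of triples -/
  nAz : ¬ AT z
  nAx : ¬ AT x
  /-- a Sylow 2-subgroup of `C(z)` (a Sylow 2-subgroup of `G`) has the only central involution `z` -/
  Zz : ∀ S : Subgroup G, IsSyl (centralizer ({z} : Set G)) S → ∀ s ∈ S, s * s = 1 →
    (∀ t ∈ S, s * t = t * s) → s = 1 ∨ s = z
  /-- the functor -/
  Wodd : Odd (Nat.card ↥W)
  MW : M = normalizer (W : Set G)
  WO : ∀ u : G, u = a ∨ u = z ∨ u = a * z → W ⊓ centralizer ({u} : Set G) = Oc u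
  azM : centralizer ({a} : Set G) ⊓ centralizer ({z} : Set G) ≤ M
  LM : L ≤ M
  OxM : Oc x ≤ M
  gM : g ∈ M
  ga : g * a * g⁻¹ = a * z
  gz : g * z * g⁻¹ = z
  gU : g ∈ normalizer (U : Set G)
  gx : g * x * g⁻¹ = x ∨ g * x * g⁻¹ = x * a
  /-- (J1) -/
  J1 : ∀ R : Subgroup G, Odd (Nat.card ↥R) → Oc x ≤ R → ¬ Oc (x * z) ≤ R
  noE : ∀ E : Subgroup G, (∀ e ∈ E, e * e = 1) → Nat.card ↥E = 16 → x ∈ E → z ∉ E
  YL : ¬ YY x a z ≤ core L
  Yodd : ∀ R : Subgroup G, R ≤ L → Odd (Nat.card ↥R) → c ∈ normalizer (R : Set G) →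
    YY x a z ≤ normalizer (R : Set G) → R ≤ core L
  /-- (T2) a 2-element of `C(a, x)` trivial on the images of `YY x a z` and its conjugate under `c` -/
  two : ∀ t : G, t * a = a * t → t * x = x * t → (∃ n : ℕ, t ^ 2 ^ n = 1) →
    (∀ y ∈ YY x a z, ⁅t, y⁆ ∈ core L ∧ ⁅t, c * y * c⁻¹⁆ ∈ core L) → t = 1 ∨ t = a
  /-- (GEN) -/
  gen : ∀ H : Subgroup G, core L ≤ H → (∀ w ∈ L, w * x = x * w → ⁅w, z⁆ ∈ H) →
    (∀ w ∈ L, w * (x * z) = x * z * w → ⁅w, z⁆ ∈ H) → L ≤ H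
  /-- P16 -/
  cnt : ∀ b : G, AT b → ∀ t : G, t * b = b * t → t * t = 1 → t ≠ 1 →
    AT t ∨ (∃ y : G, y * z * y⁻¹ = t) ∨ High t ∨
      4 ∣ (centralizer ({b} : Set G) ⊓ centralizer ({t} : Set G)).relIndex (centralizer ({b} : Set G))
  /-- a non-abelian 2-subgroup of `C(e)`, `e` the centre of a triple, has solvable centralizer in `C(e)` -/
  solv : ∀ e : G, AT e → ∀ B : Subgroup G, IsPGroup 2 ↥B → B ≤ centralizer ({e} : Set G) →
    (∃ b ∈ B, ∃ b' ∈ B, b * b' ≠ b' * b) →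
    Group.IsSolvable ↥(centralizer ({e} : Set G) ⊓ centralizer (B : Set G))
  /-- `G = X⟨x⟩` -/
  sg : ∀ f : G →* ℤˣ, f x = 1 → ∀ y : G, f y = 1

/-- case (B) -/
structure CaseB (x a z h : G) (U : Subgroup G) : Prop where
  hx : h * x = x * h
  hU : h ∈ normalizer (U : Set G)
  ha : h * a * h⁻¹ = a * z
  h2 : ∃ n : ℕ, h ^ 2 ^ n = 1

/-- output of P10-P13 -/
structure Gam (x a z c h : G) (L U M W : Subgroup G) : Prop extends CaseB x a z h U where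
  hz : h * z * h⁻¹ = z
  /-- P12 -/
  star : ∀ w : G, w * x = x * w → ⁅w, z⁆ ∈ Oc x
  /-- P11 -/
  ker : ∀ t : G, t * x = x * t → t * z = z * t → (∃ n : ℕ, t ^ 2 ^ n = 1) →
    (∀ y ∈ GA x z, ⁅t, y⁆ ∈ core (GA x z)) → t = 1
  /-- P13 -/
  le : L ≤ GA x z
  GAM : GA x z ≤ M
  Ozle : Oc z ≤ core (GA x z)
  Wle : W ≤ core (GA x z)
  nxz' : ∀ y : G, y * x * y⁻¹ ≠ z
  nHigh : ¬ High x

/-- output of P14 -/
def Fus (x z : G) : Prop := ∀ y : G, y * x * y⁻¹ * x = x * (y * x * y⁻¹) →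
  y * x * y⁻¹ = x ∨ ∃ k : G, k * x = x * k ∧ y * x * y⁻¹ = k * (x * z) * k⁻¹

section basic

theorem AT.conj {t : G} (h : AT t) (g : G) : AT (g * t * g⁻¹) := by
  obtain ⟨u, J, hJ⟩ := h
  exact ⟨g * u * g⁻¹, cj g J, hJ.cj g⟩

theorem not_AT_conj {t : G} (h : ¬ AT t) (g : G) : ¬ AT (g * t * g⁻¹) := by
  intro h1
  have h2 := h1.conj g⁻¹
  have e : g⁻¹ * (g * t * g⁻¹) * g⁻¹⁻¹ = t := by group
  rw [e] at h2
  exact h h2

theorem order_two {t : G} (h : t * t = 1) (h1 : t ≠ 1) : orderOf t = 2 :=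
  orderOf_eq_prime (by rw [pow_two, h]) h1

/-- **balance**: `t` not the centre of a triple ⇒ `O_u ∩ C(t) ≤ O_t` -/
theorem bal [Finite G] {u t : G} (hu : u * u = 1) (hu1 : u ≠ 1) (ht : t * t = 1) (ht1 : t ≠ 1)
    (hut : u * t = t * u) (hn : ¬ AT t) : Oc u ⊓ centralizer ({t} : Set G) ≤ Oc t := by
  rintro y ⟨hy, hyt⟩
  by_contra h
  obtain ⟨J, hJ, -⟩ := Cfsg.Agent.UGT.Res.Base.exists_triple (order_two hu hu1) (order_two ht ht1)
    hut.symm hy hyt h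
  exact hn ⟨u, J, hJ⟩

end basic

end Cfsg.Agent.UGT.PQ.Defs
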