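import Cfsg.Agent.UGT.PQ.ConfQ

/-!
# (Q2), P14: the splitting `⟨s₁, s₂'⟩ × ⟨s₂, s₁'⟩`, abstract
-/

set_option autoImplicit false

open Cfsg Subgroup
open Cfsg.Agent.Lib.KleinGen
open Cfsg.Agent.UGT.PQ.GT Cfsg.Agent.UGT.PQ.CQ
open scoped commutatorElement

namespace Cfsg.Agent.UGT.PQ.Split

variable {H : Type*} [Group H]

/-- the data of P14 modulo `O(GA)` -/
structure Spl (x z t : H) (A A' B B' : Subgroup H) : Prop where
  zz : z * z = 1
  tt : t * t = 1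
  tz : t * z = z * t
  oA : Odd (Nat.card ↥A)
  oA' : Odd (Nat.card ↥A')
  xA : ∀ a ∈ A, x * a = a * x
  xA' : ∀ a ∈ A', x * z * a = a * (x * z)
  tA : ∀ a ∈ A, t * a * t⁻¹ ∈ A
  tA' : ∀ a ∈ A', t * a * t⁻¹ ∈ A'
  zA : ∀ a ∈ A, z * a * z⁻¹ = a⁻¹
  zA' : ∀ a ∈ A', z * a * z⁻¹ = a⁻¹
  zB : ∀ a ∈ B, z * a * z⁻¹ = a⁻¹
  zB' : ∀ a ∈ B', z * a * z⁻¹ = a⁻¹
  AB : ∀ a ∈ A, a * t = t * a → a ∈ B
  AB' : ∀ a ∈ A, a * (t * z) = t * z * a → a ∈ B'
  A'B : ∀ a ∈ A', a * t = t * a → a ∈ B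
  A'B' : ∀ a ∈ A', a * (t * z) = t * z * a → a ∈ B'

/-- `⟨C_A(t), C_A'(tz)⟩` -/
def k1 (t z : H) (A A' : Subgroup H) : Subgroup H :=
  (A ⊓ centralizer ({t} : Set H)) ⊔ (A' ⊓ centralizer ({t * z} : Set H))

/-- `⟨C_A(tz), C_A'(t)⟩` -/
def k2 (t z : H) (A A' : Subgroup H) : Subgroup H :=
  (A ⊓ centralizer ({t * z} : Set H)) ⊔ (A' ⊓ centralizer ({t} : Set H))

theorem sup_comm_of {A B : Subgroup H} {v : H} (hA : ∀ a ∈ A, a * v = v * a) (hB : ∀ b ∈ B, b * v = v * b) :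
    ∀ u ∈ A ⊔ B, u * v = v * u := by
  have h : A ⊔ B ≤ centralizer ({v} : Set H) :=
    sup_le (fun a ha => mem_cen.mpr (hA a ha)) (fun b hb => mem_cen.mpr (hB b hb))
  exact fun u hu => mem_cen.mp (h hu)

namespace Spl

variable {x z t : H} {A A' B B' : Subgroup H} (S : Spl x z t A A' B B')

include S

theorem inter_A : A ≤ (A ⊓ centralizer ({t} : Set H)) ⊔ (A ⊓ centralizer ({t * z} : Set H)) := by
  intro a ha
  obtain ⟨c, hc, d, hd, h1, h2, rfl⟩ := exists_centralizer_mul_inverted A S.oA t S.tt S.tA ha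
  refine mul_mem (mem_sup_left (mem_inf.mpr ⟨hc, mem_cen.mpr h1.symm⟩))
    (mem_sup_right (mem_inf.mpr ⟨hd, mem_cen.mpr ?_⟩))
  have h3 : t * z * d * (t * z)⁻¹ = d := by
    calc t * z * d * (t * z)⁻¹ = t * (z * d * z⁻¹) * t⁻¹ := by group
      _ = (t * d * t⁻¹)⁻¹ := by rw [S.zA d hd]; group
      _ = d := by rw [h2, inv_inv]
  exact (mul_inv_eq_iff_eq_mul.mp h3).symm

theorem inter_A' : A' ≤ (A' ⊓ centralizer ({t} : Set H)) ⊔ (A' ⊓ centralizer ({t * z} : Set H)) := by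
  intro a ha
  obtain ⟨c, hc, d, hd, h1, h2, rfl⟩ := exists_centralizer_mul_inverted A' S.oA' t S.tt S.tA' ha
  refine mul_mem (mem_sup_left (mem_inf.mpr ⟨hc, mem_cen.mpr h1.symm⟩))
    (mem_sup_right (mem_inf.mpr ⟨hd, mem_cen.mpr ?_⟩))
  have h3 : t * z * d * (t * z)⁻¹ = d := by
    calc t * z * d * (t * z)⁻¹ = t * (z * d * z⁻¹) * t⁻¹ := by group
      _ = (t * d * t⁻¹)⁻¹ := by rw [S.zA' d hd]; group
      _ = d := by rw [h2, inv_inv]
  exact (mul_inv_eq_iff_eq_mul.mp h3).symm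

theorem sup_eq : k1 t z A A' ⊔ k2 t z A A' = A ⊔ A' := by
  refine le_antisymm (sup_le (sup_le ?_ ?_) (sup_le ?_ ?_)) (sup_le (S.inter_A.trans ?_) (S.inter_A'.trans ?_))
  · exact inf_le_left.trans le_sup_left
  · exact inf_le_left.trans le_sup_right
  · exact inf_le_left.trans le_sup_left
  · exact inf_le_left.trans le_sup_right
  · exact sup_le (le_sup_left.trans le_sup_left) (le_sup_left.trans le_sup_right)
  · exact sup_le (le_sup_right.trans le_sup_right) (le_sup_right.trans le_sup_left)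

/-- `K₁` and `K₂` commute -/
theorem comm : ∀ u ∈ k1 t z A A', ∀ v ∈ k2 t z A A', u * v = v * u := by
  intro u hu v hv
  have cA := comm_of_inv S.zA
  have cA' := comm_of_inv S.zA'
  have cB := comm_of_inv S.zB
  have cB' := comm_of_inv S.zB'
  refine (sup_comm_of (v := u) ?_ ?_ v hv).symm
  · -- `v ∈ C_A(tz)`
    intro v hv
    refine (sup_comm_of (v := v) ?_ ?_ u hu).symm
    · intro u hu
      exact cA u hu.1 v hv.1
    · intro u hu
      exact cB' u (S.A'B' u hu.1 (mem_cen.mp hu.2)) v (S.AB' v hv.1 (mem_cen.mp hv.2))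
  · intro v hv
    refine (sup_comm_of (v := v) ?_ ?_ u hu).symm
    · intro u hu
      exact cB u (S.AB u hu.1 (mem_cen.mp hu.2)) v (S.A'B v hv.1 (mem_cen.mp hv.2))
    · intro u hu
      exact cA' u hu.1 v hv.1

theorem ztz : (x * z) * (t * z) = x * t := by
  calc (x * z) * (t * z) = x * ((z * t) * z) := by group
    _ = x * t * (z * z) := by rw [← S.tz]; group
    _ = x * t := by rw [S.zz, mul_one]

theorem xt_k1 : ∀ u ∈ k1 t z A A', u * (x * t) = x * t * u := by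
  refine sup_comm_of ?_ ?_
  · intro a ha
    rw [← mul_assoc, ← S.xA a ha.1, mul_assoc, mem_cen.mp ha.2, mul_assoc]
  · intro a ha
    rw [← S.ztz, ← mul_assoc, ← S.xA' a ha.1, mul_assoc, mem_cen.mp ha.2, mul_assoc (x * z)]

theorem xtz_k2 : ∀ u ∈ k2 t z A A', u * (x * t * z) = x * t * z * u := by
  refine sup_comm_of ?_ ?_
  · intro a ha
    rw [mul_assoc x, ← mul_assoc, ← S.xA a ha.1, mul_assoc, mem_cen.mp ha.2, mul_assoc x]
  · intro a ha
    have e : x * t * z = x * z * t := by rw [mul_assoc, S.tz, mul_assoc]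
    rw [e, ← mul_assoc, ← S.xA' a ha.1, mul_assoc, mem_cen.mp ha.2, mul_assoc (x * z)]

/-- a subgroup of `A` or `A'` centralised by `z` is trivial -/
theorem triv {a : H} (ha : a ∈ A ∨ a ∈ A') (hz : a * z = z * a) : a = 1 := by
  have h1 : z * a * z⁻¹ = a := by rw [← hz, mul_inv_cancel_right]
  rcases ha with ha | ha
  · rw [S.zA a ha] at h1
    refine eq_of_mul_self_eq S.oA ha (one_mem _) ?_
    rw [one_mul]
    nth_rw 1 [← h1]
    exact inv_mul_cancel _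
  · rw [S.zA' a ha] at h1
    refine eq_of_mul_self_eq S.oA' ha (one_mem _) ?_
    rw [one_mul]
    nth_rw 1 [← h1]
    exact inv_mul_cancel _

theorem k1_bot (h : ∀ u ∈ k1 t z A A', u * z = z * u) : k1 t z A A' = ⊥ := by
  rw [eq_bot_iff]
  refine sup_le ?_ ?_
  · intro a ha
    exact mem_bot.mpr (S.triv (Or.inl ha.1) (h a (mem_sup_left ha)))
  · intro a ha
    exact mem_bot.mpr (S.triv (Or.inr ha.1) (h a (mem_sup_right ha)))

theorem k2_bot (h : ∀ u ∈ k2 t z A A', u * z = z * u) : k2 t z A A' = ⊥ := by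
  rw [eq_bot_iff]
  refine sup_le ?_ ?_
  · intro a ha
    exact mem_bot.mpr (S.triv (Or.inl ha.1) (h a (mem_sup_left ha)))
  · intro a ha
    exact mem_bot.mpr (S.triv (Or.inr ha.1) (h a (mem_sup_right ha)))

theorem z_k2 : ∀ u ∈ k2 t z A A', z * u * z⁻¹ ∈ k2 t z A A' := by
  intro u hu
  have h : k2 t z A A' ≤ (k2 t z A A').comap (MulAut.conj z).toMonoidHom := by
    refine sup_le ?_ ?_
    · intro a ha
      have ha' := mem_inf.mp ha
      rw [mem_comap]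
      change z * a * z⁻¹ ∈ _
      rw [S.zA a ha'.1]
      exact inv_mem (mem_sup_left ha)
    · intro a ha
      have ha' := mem_inf.mp ha
      rw [mem_comap]
      change z * a * z⁻¹ ∈ _
      rw [S.zA' a ha'.1]
      exact inv_mem (mem_sup_right ha)
  exact h hu

theorem z_k1 : ∀ u ∈ k1 t z A A', z * u * z⁻¹ ∈ k1 t z A A' := by
  intro u hu
  have h : k1 t z A A' ≤ (k1 t z A A').comap (MulAut.conj z).toMonoidHom := by
    refine sup_le ?_ ?_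
    · intro a ha
      have ha' := mem_inf.mp ha
      rw [mem_comap]
      change z * a * z⁻¹ ∈ _
      rw [S.zA a ha'.1]
      exact inv_mem (mem_sup_left ha)
    · intro a ha
      have ha' := mem_inf.mp ha
      rw [mem_comap]
      change z * a * z⁻¹ ∈ _
      rw [S.zA' a ha'.1]
      exact inv_mem (mem_sup_right ha)
  exact h hu

end Spl

section pair

variable {K₁ K₂ L : Subgroup H} (comm : ∀ u ∈ K₁, ∀ v ∈ K₂, u * v = v * u)

include comm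

theorem exists_mul {l : H} (hl : l ∈ K₁ ⊔ K₂) : ∃ u ∈ K₁, ∃ v ∈ K₂, u * v = l := by
  let R : Subgroup H :=
    { carrier := {w | ∃ u ∈ K₁, ∃ v ∈ K₂, u * v = w}
      one_mem' := ⟨1, one_mem _, 1, one_mem _, mul_one 1⟩
      mul_mem' := by
        rintro _ _ ⟨u, hu, v, hv, rfl⟩ ⟨u', hu', v', hv', rfl⟩
        refine ⟨u * u', mul_mem hu hu', v * v', mul_mem hv hv', ?_⟩
        calc u * u' * (v * v') = u * (u' * v) * v' := by group
          _ = u * (v * u') * v' := by rw [comm u' hu' v hv]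
          _ = u * v * (u' * v') := by group
      inv_mem' := by
        rintro _ ⟨u, hu, v, hv, rfl⟩
        refine ⟨u⁻¹, inv_mem hu, v⁻¹, inv_mem hv, ?_⟩
        rw [comm u hu v hv, mul_inv_rev] }
  have h1 : K₁ ⊔ K₂ ≤ R := by
    refine sup_le ?_ ?_
    · intro u hu
      exact ⟨u, hu, 1, one_mem _, mul_one u⟩
    · intro v hv
      exact ⟨1, one_mem _, v, hv, one_mul v⟩
  exact h1 hl

/-- the projection of `P` to the second factor -/
def proj₂ (P : Subgroup H) : Subgroup H where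
  carrier := {v | v ∈ K₂ ∧ ∃ u ∈ K₁, u * v ∈ P}
  one_mem' := ⟨one_mem _, 1, one_mem _, by rw [one_mul]; exact one_mem _⟩
  mul_mem' := by
    rintro v v' ⟨hv, u, hu, h⟩ ⟨hv', u', hu', h'⟩
    refine ⟨mul_mem hv hv', u * u', mul_mem hu hu', ?_⟩
    have e : u * u' * (v * v') = u * v * (u' * v') := by
      calc u * u' * (v * v') = u * (u' * v) * v' := by group
        _ = u * (v * u') * v' := by rw [comm u' hu' v hv]
        _ = u * v * (u' * v') := by group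
    rw [e]
    exact mul_mem h h'
  inv_mem' := by
    rintro v ⟨hv, u, hu, h⟩
    refine ⟨inv_mem hv, u⁻¹, inv_mem hu, ?_⟩
    have e : u⁻¹ * v⁻¹ = (u * v)⁻¹ := by rw [comm u hu v hv, mul_inv_rev]
    rw [e]
    exact inv_mem h

theorem mem_proj₂ {P : Subgroup H} {v : H} : v ∈ proj₂ comm P ↔ v ∈ K₂ ∧ ∃ u ∈ K₁, u * v ∈ P := Iff.rfl

theorem proj₂_le (P : Subgroup H) : proj₂ comm P ≤ K₂ := fun _ hv => hv.1

theorem isPGroup_proj₂ (hint : K₁ ⊓ K₂ = ⊥) {P : Subgroup H} (hP : IsPGroup 2 ↥P) : IsPGroup 2 ↥(proj₂ comm P) := by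
  rintro ⟨v, hv, u, hu, h⟩
  obtain ⟨n, hn⟩ := hP ⟨u * v, h⟩
  have hn' : (u * v) ^ 2 ^ n = 1 := congrArg Subtype.val hn
  rw [(show Commute u v from comm u hu v hv).mul_pow] at hn'
  refine ⟨n, Subtype.ext ?_⟩
  change v ^ 2 ^ n = 1
  have h1 : v ^ 2 ^ n ∈ K₁ ⊓ K₂ := by
    refine mem_inf.mpr ⟨?_, pow_mem hv _⟩
    rw [eq_inv_of_mul_eq_one_right hn']
    exact inv_mem (pow_mem hu _)
  rw [hint] at h1
  exact mem_bot.mp h1

/-- `π₂(P)` is non-abelian -/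
theorem proj₂_nab (h1 : K₁ ⊓ L = ⊥) (hL : L ≤ K₁ ⊔ K₂) {P : Subgroup H} (hP : P ≤ L)
    (hn : ∃ p ∈ P, ∃ p' ∈ P, p * p' ≠ p' * p) : ∃ v ∈ proj₂ comm P, ∃ v' ∈ proj₂ comm P, v * v' ≠ v' * v := by
  obtain ⟨p, hp, p', hp', hne⟩ := hn
  obtain ⟨u, hu, v, hv, rfl⟩ := exists_mul comm (hL (hP hp))
  obtain ⟨u', hu', v', hv', rfl⟩ := exists_mul comm (hL (hP hp'))
  refine ⟨v, ⟨hv, u, hu, hp⟩, v', ⟨hv', u', hu', hp'⟩, fun hvv => hne ?_⟩
  have e1 : ⁅u * v, u' * v'⁆ = ⁅u, u'⁆ := by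
    rw [commutatorElement_def, commutatorElement_def]
    calc u * v * (u' * v') * (u * v)⁻¹ * (u' * v')⁻¹ = u * (v * u') * v' * v⁻¹ * u⁻¹ * v'⁻¹ * u'⁻¹ := by group
      _ = u * u' * (v * v') * v⁻¹ * u⁻¹ * v'⁻¹ * u'⁻¹ := by rw [← comm u' hu' v hv]; group
      _ = u * u' * v' * (u⁻¹ * v'⁻¹) * u'⁻¹ := by rw [hvv]; group
      _ = u * u' * u⁻¹ * u'⁻¹ := by rw [comm u⁻¹ (inv_mem hu) v'⁻¹ (inv_mem hv')]; group
  have h2 : ⁅u * v, u' * v'⁆ ∈ K₁ ⊓ L := by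
    refine mem_inf.mpr ⟨?_, ?_⟩
    · rw [e1, commutatorElement_def]
      exact mul_mem (mul_mem (mul_mem hu hu') (inv_mem hu)) (inv_mem hu')
    · rw [commutatorElement_def]
      exact mul_mem (mul_mem (mul_mem (hP hp) (hP hp')) (inv_mem (hP hp))) (inv_mem (hP hp'))
  rw [h1, mem_bot, commutatorElement_eq_one_iff_mul_comm] at h2
  exact h2

/-- `L` embeds in `K₁` -/
theorem solvable_of (hint : K₁ ⊓ K₂ = ⊥) (h2 : L ⊓ K₂ = ⊥) (hL : L ≤ K₁ ⊔ K₂) (hs : Group.IsSolvable ↥K₁) :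
    Group.IsSolvable ↥L := by
  let φ : ↥K₁ × ↥K₂ →* H := MonoidHom.noncommCoprod K₁.subtype K₂.subtype
    (fun u v => comm u u.2 v v.2)
  have hφ : ∀ p : ↥K₁ × ↥K₂, φ p = p.1 * p.2 := fun p => rfl
  let L' : Subgroup (↥K₁ × ↥K₂) := L.comap φ
  have hs' : Group.IsSolvable ↥L' := by
    let f : ↥L' →* ↥K₁ := (MonoidHom.fst ↥K₁ ↥K₂).comp L'.subtype
    refine Group.isSolvable_of_isSolvable_injective (f := f) ?_
    rw [injective_iff_map_eq_one]
    rintro ⟨⟨u, v⟩, hp⟩ hf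
    have hu : u = 1 := hf
    subst hu
    have h3 : (v : H) ∈ L ⊓ K₂ := by
      refine ⟨?_, v.2⟩
      have h4 : φ (1, v) ∈ L := hp
      rw [hφ] at h4
      simpa using h4
    rw [h2, mem_bot] at h3
    apply Subtype.ext
    apply Prod.ext
    · rfl
    · exact Subtype.ext h3
  let g : ↥L' →* ↥L := (φ.comp L'.subtype).codRestrict L (fun p => p.2)
  refine Group.isSolvable_of_surjective (f := g) ?_
  rintro ⟨l, hl⟩
  obtain ⟨u, hu, v, hv, rfl⟩ := exists_mul comm (hL hl)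
  exact ⟨⟨(⟨u, hu⟩, ⟨v, hv⟩), hl⟩, rfl⟩

/-- `K₁` is normal in `K₁K₂` -/
theorem conj_k1 {w u : H} (hw : w ∈ K₁ ⊔ K₂) (hu : u ∈ K₁) : w * u * w⁻¹ ∈ K₁ := by
  obtain ⟨u', hu', v', hv', rfl⟩ := exists_mul comm hw
  have e : u' * v' * u * (u' * v')⁻¹ = u' * u * u'⁻¹ := by
    calc u' * v' * u * (u' * v')⁻¹ = u' * (v' * u) * v'⁻¹ * u'⁻¹ := by group
      _ = u' * (u * v') * v'⁻¹ * u'⁻¹ := by rw [comm u hu v' hv']
      _ = u' * u * u'⁻¹ := by group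
  rw [e]
  exact mul_mem (mul_mem hu' hu) (inv_mem hu')

theorem conj_k2 {w u : H} (hw : w ∈ K₁ ⊔ K₂) (hu : u ∈ K₂) : w * u * w⁻¹ ∈ K₂ := by
  obtain ⟨u', hu', v', hv', rfl⟩ := exists_mul comm hw
  have h1 := mul_mem (mul_mem hv' hu) (inv_mem hv')
  have e : u' * v' * u * (u' * v')⁻¹ = v' * u * v'⁻¹ := by
    calc u' * v' * u * (u' * v')⁻¹ = u' * (v' * u * v'⁻¹) * u'⁻¹ := by group
      _ = v' * u * v'⁻¹ := by rw [comm u' hu' _ h1, mul_inv_cancel_right]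
  rw [e]
  exact h1

end pair

end Cfsg.Agent.UGT.PQ.Split
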