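import Cfsg.Agent.UGT.PQ.ConfQ
import Cfsg.Agent.UGT.PQ.Split
import Cfsg.Agent.UGT.PQ.Count

/-!
# (Q2), P15-P18: the end

The permutations induced by `x`, `a`, `xa` on `x^G` have signs with `sgn(a) = sgn(xa) = -1 = - sgn(x)`.
-/

set_option autoImplicit false

open Cfsg Subgroup
open Cfsg.Agent.SignalizersComponents Cfsg.Agent.Lib
open Cfsg.Agent.SignalizersComponents.IntrinsicBasic
open Cfsg.Agent.Intrinsic.Basic Cfsg.Agent.Intrinsic.Cen
open Cfsg.Agent.Lib.KleinGen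
open Cfsg.Agent.UGT.Triple Cfsg.Agent.UGT.TriBase
open Cfsg.Agent.UGT.PQ.Defs Cfsg.Agent.UGT.PQ.GT Cfsg.Agent.UGT.PQ.Quo Cfsg.Agent.UGT.PQ.CQ
open Cfsg.Agent.UGT.PQ.Split
open scoped commutatorElement

namespace Cfsg.Agent.UGT.PQ

variable {G : Type*} [Group G] [Finite G] {x a z c i g h : G} {L P U M W : Subgroup G}

/-- **P15** -/
theorem card_x (C : Conf x a z c i g L P U M W) (Γ : Gam x a z c h L U M W) (F : Fus x z) :
    ∃ k : ℕ, Nat.card {t : G // (∃ y : G, y * x * y⁻¹ = t) ∧ t * x = x * t} = 4 * k + 2 := by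
  classical
  have hix : i * x = x * i := C.Uc i C.iU x C.Ux
  have hiz : i * z = z * i := by rw [← C.ii, mul_assoc]
  have hixz : i * (x * z) = x * z * i := by rw [← mul_assoc, hix, mul_assoc, hiz, ← mul_assoc]
  have hxxz : x * z * x = x * (x * z) := by rw [mul_assoc, ← C.xz]
  have hz1 : x * z ≠ x := by
    intro h1
    exact C.z1 (mul_eq_left.mp h1)
  -- `z` fixes no further point
  have hfix : ∀ t : G, (∃ y : G, y * x * y⁻¹ = t) → t * x = x * t → z * t * z⁻¹ = t → t = x ∨ t = x * z := by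
    rintro t ⟨y, rfl⟩ h1 h2
    rcases F y h1 with h3 | ⟨k, hk, h3⟩
    · exact Or.inl h3
    · right
      rw [h3] at h2 ⊢
      have h4 := Γ.star k hk
      have e1 : k * (x * z) * k⁻¹ = x * (k * z * k⁻¹) := by
        rw [← mul_assoc, hk]
        group
      rw [e1] at h2 ⊢
      have h5 : z * (k * z * k⁻¹) = k * z * k⁻¹ * z := by
        have h6 : x * (z * (k * z * k⁻¹)) = x * (k * z * k⁻¹ * z) := by
          have h7 := mul_inv_eq_iff_eq_mul.mp h2
          calc x * (z * (k * z * k⁻¹)) = (x * z) * (k * z * k⁻¹) := by group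
            _ = z * (x * (k * z * k⁻¹)) := by rw [C.xz]; group
            _ = x * (k * z * k⁻¹ * z) := by rw [h7]; group
        exact mul_left_cancel h6
      have h6 : ⁅k, z⁆ = k * z * k⁻¹ * z := by rw [commutatorElement_def, inv_self C.zz]
      have h7 : ⁅k, z⁆ * ⁅k, z⁆ = 1 := by
        rw [h6]
        calc (k * z * k⁻¹ * z) * (k * z * k⁻¹ * z) = k * z * k⁻¹ * (z * (k * z * k⁻¹)) * z := by group
          _ = k * (z * z) * k⁻¹ * (z * z) := by rw [h5]; group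
          _ = 1 := by rw [C.zz]; group
      have h8 := eq_one_of_mem_core_sq h4 h7
      rw [h6] at h8
      have h9 : k * z * k⁻¹ = z := by
        rw [eq_inv_of_mul_eq_one_left h8, inv_self C.zz]
      rw [h9]
  -- the set
  let S : Type _ := {t : G // (∃ y : G, y * x * y⁻¹ = t) ∧ t * x = x * t}
  let S' : Type _ := {t : G // ((∃ y : G, y * x * y⁻¹ = t) ∧ t * x = x * t) ∧ t ≠ x ∧ t ≠ x * z}
  have hconj : ∀ u t : G, u * x = x * u → u * (x * z) = x * z * u →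
      (((∃ y : G, y * x * y⁻¹ = t) ∧ t * x = x * t) ∧ t ≠ x ∧ t ≠ x * z) →
      (((∃ y : G, y * x * y⁻¹ = u * t * u⁻¹) ∧ u * t * u⁻¹ * x = x * (u * t * u⁻¹)) ∧ u * t * u⁻¹ ≠ x ∧
        u * t * u⁻¹ ≠ x * z) := by
    rintro u t hu hu' ⟨⟨⟨y, hy⟩, htx⟩, ht1, ht2⟩
    have hu1 : u⁻¹ * x = x * u⁻¹ := by rw [inv_mul_eq_iff_eq_mul, ← mul_assoc, hu, mul_inv_cancel_right]
    refine ⟨⟨⟨u * y, by rw [← hy]; group⟩, ?_⟩, ?_, ?_⟩
    · calc u * t * u⁻¹ * x = u * (t * x) * u⁻¹ := by rw [mul_assoc, hu1]; group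
        _ = (u * x) * t * u⁻¹ := by rw [htx]; group
        _ = x * (u * t * u⁻¹) := by rw [hu]; group
    · intro h1
      apply ht1
      have e : t = u⁻¹ * (u * t * u⁻¹) * u := by group
      rw [e, h1, hu1, inv_mul_cancel_right]
    · intro h1
      apply ht2
      have e : t = u⁻¹ * (u * t * u⁻¹) * u := by group
      rw [e, h1, mul_assoc, ← hu', inv_mul_cancel_left]
  have hi' : i⁻¹ * x = x * i⁻¹ := by rw [inv_mul_eq_iff_eq_mul, ← mul_assoc, hix, mul_inv_cancel_right]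
  have hi'' : i⁻¹ * (x * z) = x * z * i⁻¹ := by
    rw [inv_mul_eq_iff_eq_mul, ← mul_assoc, hixz, mul_inv_cancel_right]
  let f : Equiv.Perm S' :=
    { toFun := fun t => ⟨i * t.1 * i⁻¹, hconj i t.1 hix hixz t.2⟩
      invFun := fun t => ⟨i⁻¹ * t.1 * i⁻¹⁻¹, hconj i⁻¹ t.1 hi' hi'' t.2⟩
      left_inv := fun t => Subtype.ext (by
        change i⁻¹ * (i * t.1 * i⁻¹) * i⁻¹⁻¹ = t.1
        group)
      right_inv := fun t => Subtype.ext (by
        change i * (i⁻¹ * t.1 * i⁻¹⁻¹) * i⁻¹ = t.1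
        group) }
  have hf2 : ∀ t : S', (f (f t)).1 = z * t.1 * z⁻¹ := by
    intro t
    have e : ∀ w : G, i * (i * w * i⁻¹) * i⁻¹ = z * w * z⁻¹ := by
      intro w
      rw [← C.ii]
      group
    exact e t.1
  have h4 : 4 ∣ Nat.card S' := by
    refine four_dvd f ?_ ?_
    · ext t
      change (f (f (f (f t)))).1 = t.1
      rw [hf2, hf2]
      calc z * (z * t.1 * z⁻¹) * z⁻¹ = (z * z) * t.1 * (z * z)⁻¹ := by group
        _ = t.1 := by rw [C.zz]; group
    · intro t ht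
      have h1 : z * t.1 * z⁻¹ = t.1 := by rw [← hf2, ht]
      rcases hfix t.1 t.2.1.1 t.2.1.2 h1 with h2 | h2
      · exact t.2.2.1 h2
      · exact t.2.2.2 h2
  obtain ⟨k, hk⟩ := h4
  refine ⟨k, ?_⟩
  rw [← hk]
  -- `S = S' ∪ {x, xz}`
  let e : S ≃ Option (Option S') :=
    { toFun := fun t => if h1 : t.1 = x then none else if h2 : t.1 = x * z then some none else
        some (some ⟨t.1, t.2, h1, h2⟩)
      invFun := fun o => match o with
        | none => ⟨x, ⟨1, by group⟩, rfl⟩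
        | some none => ⟨x * z, ⟨c, C.cx⟩, hxxz⟩
        | some (some t) => ⟨t.1, t.2.1⟩
      left_inv := by
        intro t
        by_cases h1 : t.1 = x
        · simp only [h1, dite_true]
          exact Subtype.ext h1.symm
        · by_cases h2 : t.1 = x * z
          · simp only [h1, h2, dite_true, dite_false]
            split
            · rename_i h3
              simp_all
            · rename_i h3
              simp_all
              exact Subtype.ext h2.symm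
            · rename_i h3
              simp_all
          · simp only [h1, h2, dite_false]
            rfl
      right_inv := by
        rintro (_ | _ | t)
        · simp
        · simp [hz1]
        · simp [t.2.2.1, t.2.2.2] }
  rw [Nat.card_congr e]
  have := Fintype.ofFinite S'
  rw [Nat.card_eq_fintype_card, Fintype.card_option, Fintype.card_option, Nat.card_eq_fintype_card]

/-- **P16** -/
theorem card_AT (C : Conf x a z c i g L P U M W) (Γ : Gam x a z c h L U M W) {b : G} (hb : AT b) :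
    4 ∣ Nat.card {t : G // (∃ y : G, y * x * y⁻¹ = t) ∧ t * b = b * t} := by
  refine dvd_card_conj (centralizer ({b} : Set G)) {t : G | (∃ y : G, y * x * y⁻¹ = t) ∧ t * b = b * t} ?_ ?_
  · rintro u hu t ⟨⟨y, hy⟩, ht⟩
    have hu' := mem_cen.mp hu
    have hu1 : u⁻¹ * b = b * u⁻¹ := by rw [inv_mul_eq_iff_eq_mul, ← mul_assoc, hu', mul_inv_cancel_right]
    refine ⟨⟨u * y, by rw [← hy]; group⟩, ?_⟩
    calc u * t * u⁻¹ * b = u * (t * b) * u⁻¹ := by rw [mul_assoc, hu1]; group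
      _ = (u * b) * t * u⁻¹ := by rw [ht]; group
      _ = b * (u * t * u⁻¹) := by rw [hu']; group
  · rintro t ⟨⟨y, rfl⟩, ht⟩
    rcases C.cnt b hb _ ht (sq_conj C.xx) (ne_one_conj C.x1) with h1 | ⟨w, hw⟩ | h1 | h1
    · exact absurd h1 (not_AT_conj C.nAx y)
    · exfalso
      apply Γ.nxz' (w⁻¹ * y)
      have e : w⁻¹ * y * x * (w⁻¹ * y)⁻¹ = w⁻¹ * (y * x * y⁻¹) * w := by group
      rw [e, ← hw]
      group
    · exfalso
      apply Γ.nHigh
      obtain ⟨E, hE, hE16, hxE⟩ := h1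
      refine ⟨cj y⁻¹ E, ?_, ?_, ?_⟩
      · intro e he
        rw [mem_cj] at he
        have h2 := hE _ he
        have h3 : e = y⁻¹ * (y⁻¹⁻¹ * e * y⁻¹) * y⁻¹⁻¹ := by group
        rw [h3]
        exact sq_conj h2
      · rw [card_cj]
        exact hE16
      · rw [mem_cj]
        have e : y⁻¹⁻¹ * x * y⁻¹ = y * x * y⁻¹ := by group
        rw [e]
        exact hxE
    · exact h1

/-- **P17** -/
theorem AT_xa (C : Conf x a z c i g L P U M W) (Γ : Gam x a z c h L U M W) : AT (x * a) := by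
  by_contra hn
  obtain ⟨N, hN⟩ : ∃ N, N = GA x z := ⟨_, rfl⟩
  have xN : x ∈ normalizer (N : Set G) := hN ▸ x_norm C
  have zN : z ∈ normalizer (N : Set G) := hN ▸ z_norm C
  have cN : c ∈ normalizer (N : Set G) := hN ▸ c_norm C
  have hN' : h ∈ normalizer (N : Set G) := hN ▸ GA_norm Γ.hx (comm_of_conj_eq Γ.hz)
  have cz := cz C
  have hLa : ∀ l ∈ L, l * a = a * l := fun l hl => mem_cen.mp (C.tri.comp.le hl)
  have ca : c * a = a * c := hLa c (C.PL C.cP)
  -- `u = x a`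
  have uu : (x * a) * (x * a) = 1 := by
    calc (x * a) * (x * a) = x * (a * x) * a := by group
      _ = (x * x) * (a * a) := by rw [C.ax]; group
      _ = 1 := by rw [C.xx, C.aa, one_mul]
  have u1 : x * a ≠ 1 := by
    intro h1
    apply C.nax
    rw [eq_inv_of_mul_eq_one_right h1, inv_self C.xx]
  have ux : x * a * x = x * (x * a) := by rw [mul_assoc, C.ax]
  have uz : x * a * z = z * (x * a) := by rw [mul_assoc, C.az, ← mul_assoc, C.xz, mul_assoc]
  have hOu : Oc (x * a) ≤ N := hN ▸ gen_le C uu u1 ux uz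
  have u_xz : x * a * (x * z) = x * z * (x * a) := by rw [← mul_assoc, ux, mul_assoc, uz, ← mul_assoc]
  have bx : Oc x ⊓ centralizer ({x * a} : Set G) ≤ Oc (x * a) := bal C.xx C.x1 uu u1 ux.symm hn
  have bxz : Oc (x * z) ⊓ centralizer ({x * a} : Set G) ≤ Oc (x * a) :=
    bal (xzxz C) (xz1 C) uu u1 u_xz.symm hn
  have hOx : Oc x ≤ N := hN ▸ Oc_le_GA x z
  have hOx' : Oc (x * z) ≤ N := hN ▸ Oc'_le_GA x z
  have hLN : L ≤ N := hN ▸ Γ.le
  have hOz : Oc z ≤ core N := hN ▸ Γ.Ozle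
  have cu := comm_of_inv (inv_of C.zz C.z1 uu u1 uz.symm C.nAz hOz zN hOu)
  have cx := comm_of_inv (inv_of C.zz C.z1 C.xx C.x1 C.xz.symm C.nAz hOz zN hOx)
  have cxz := comm_of_inv (inv_of C.zz C.z1 (xzxz C) (xz1 C) (by rw [← mul_assoc, ← C.xz]) C.nAz hOz zN hOx')
  have bz : h * a * h⁻¹ = a * z := Γ.ha
  -- `A₁ = L ∩ O_x`, ..
  set A₁ := L ⊓ Oc x with hA₁
  set A₂ := L ⊓ Oc (x * z) with hA₂
  set B₁ := cj h L ⊓ Oc x with hB₁
  set B₂ := cj h L ⊓ Oc (x * z) with hB₂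
  have hLb : ∀ l ∈ cj h L, l * (a * z) = a * z * l := by
    intro l hl
    have h1 := hLa _ (mem_cj.mp hl)
    rw [← bz]
    calc l * (h * a * h⁻¹) = h * ((h⁻¹ * l * h) * a) * h⁻¹ := by group
      _ = h * a * h⁻¹ * l := by rw [h1]; group
  have hA₁u : A₁ ≤ Oc (x * a) := by
    intro l hl
    obtain ⟨hl1, hl2⟩ := mem_inf.mp hl
    refine bx (mem_inf.mpr ⟨hl2, mem_cen.mpr ?_⟩)
    rw [← mul_assoc, oc_comm hl2, mul_assoc, hLa l hl1, ← mul_assoc]
  have exz : x * a = x * z * (a * z) := by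
    calc x * a = x * (z * z) * a := by rw [C.zz, mul_one]
      _ = x * z * (z * a) := by group
      _ = x * z * (a * z) := by rw [C.az]
  have hB₂u : B₂ ≤ Oc (x * a) := by
    intro l hl
    obtain ⟨hl1, hl2⟩ := mem_inf.mp hl
    refine bxz (mem_inf.mpr ⟨hl2, mem_cen.mpr ?_⟩)
    rw [exz, ← mul_assoc, oc_comm hl2, mul_assoc (x * z), hLb l hl1, ← mul_assoc]
  have hA₁n : A₁ ≤ normalizer (N : Set G) := (inf_le_right.trans hOx).trans le_normalizer
  have hA₂n : A₂ ≤ normalizer (N : Set G) := (inf_le_right.trans hOx').trans le_normalizer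
  have hB₁n : B₁ ≤ normalizer (N : Set G) := (inf_le_right.trans hOx).trans le_normalizer
  have hB₂n : B₂ ≤ normalizer (N : Set G) := (inf_le_right.trans hOx').trans le_normalizer
  -- they commute
  have c12 : ∀ u ∈ im N A₁, ∀ v ∈ im N B₂, u * v = v * u := fun u hu v hv =>
    cu u (im_mono hA₁u hu) v (im_mono hB₂u hv)
  have c11 : ∀ u ∈ im N A₁, ∀ v ∈ im N B₁, u * v = v * u := fun u hu v hv =>
    cx u (im_mono inf_le_right hu) v (im_mono inf_le_right hv)
  have c22 : ∀ u ∈ im N A₂, ∀ v ∈ im N B₂, u * v = v * u := fun u hu v hv =>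
    cxz u (im_mono inf_le_right hu) v (im_mono inf_le_right hv)
  have cL : ∀ l ∈ L, c * l * c⁻¹ ∈ L := fun l hl => mul_mem (mul_mem (C.PL C.cP) hl) (inv_mem (C.PL C.cP))
  have cL' : ∀ l ∈ L, c⁻¹ * l * c ∈ L := fun l hl => mul_mem (mul_mem (inv_mem (C.PL C.cP)) hl) (C.PL C.cP)
  have cLb : ∀ l ∈ cj h L, c⁻¹ * l * c ∈ cj h L := by
    intro l hl
    -- `c` centralises `a z`, so `h⁻¹ c h` centralises `a`
    have h1 : h⁻¹ * c⁻¹ * h ∈ normalizer (L : Set G) := by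
      refine C.LN (mem_cen.mpr ?_)
      have h2 : c⁻¹ * (a * z) = a * z * c⁻¹ := by
        rw [inv_mul_eq_iff_eq_mul, ← mul_assoc, ← mul_assoc, ca, mul_assoc a, cz, ← mul_assoc, mul_inv_cancel_right]
      have h3 : a = h⁻¹ * (a * z) * h := by rw [← bz]; group
      calc h⁻¹ * c⁻¹ * h * a = h⁻¹ * c⁻¹ * (h * a * h⁻¹) * h := by group
        _ = h⁻¹ * (c⁻¹ * (a * z)) * h := by rw [bz]; group
        _ = h⁻¹ * (a * z) * h * (h⁻¹ * c⁻¹ * h) := by rw [h2]; group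
        _ = a * (h⁻¹ * c⁻¹ * h) := by rw [← h3]
    rw [mem_cj] at hl ⊢
    have h2 := (mem_normalizer_iff.mp h1 _).mp hl
    have e : h⁻¹ * c⁻¹ * h * (h⁻¹ * l * h) * (h⁻¹ * c⁻¹ * h)⁻¹ = h⁻¹ * (c⁻¹ * l * c) * h := by group
    rwa [e] at h2
  have cx' : c⁻¹ * x * c = x * z := by
    have h1 := C.cx
    have h2 : x = c⁻¹ * (x * z) * c := by rw [← h1]; group
    have h3 : c⁻¹ * z * c = z := by rw [mul_assoc, ← cz, inv_mul_cancel_left]
    have h4 : c⁻¹ * (x * z) * c = (c⁻¹ * x * c) * (c⁻¹ * z * c) := by group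
    rw [h4, h3] at h2
    calc c⁻¹ * x * c = c⁻¹ * x * c * (z * z) := by rw [C.zz, mul_one]
      _ = c⁻¹ * x * c * z * z := by group
      _ = x * z := by rw [← h2]
  have cxz' : c⁻¹ * (x * z) * c = x := by
    rw [← C.cx]
    group
  have cOx : ∀ w ∈ Oc x, c⁻¹ * w * c ∈ Oc (x * z) := by
    intro w hw
    have h1 := oc_conj_mem c⁻¹ hw
    rwa [inv_inv, cx'] at h1
  have cOx' : ∀ w ∈ Oc (x * z), c⁻¹ * w * c ∈ Oc x := by
    intro w hw
    have h1 := oc_conj_mem c⁻¹ hw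
    rwa [inv_inv, cxz'] at h1
  have c21 : ∀ u ∈ im N A₂, ∀ v ∈ im N B₁, u * v = v * u := by
    intro u hu v hv
    obtain ⟨l, hl, rfl⟩ := (mem_im hA₂n).mp hu
    obtain ⟨m, hm, rfl⟩ := (mem_im hB₁n).mp hv
    have h1 : c⁻¹ * l * c ∈ A₁ := mem_inf.mpr ⟨cL' l (mem_inf.mp hl).1, cOx' l (mem_inf.mp hl).2⟩
    have h2 : c⁻¹ * m * c ∈ B₂ := mem_inf.mpr ⟨cLb m (mem_inf.mp hm).1, cOx m (mem_inf.mp hm).2⟩
    have h3 := c12 _ (q_mem_im hA₁n h1) _ (q_mem_im hB₂n h2)
    have cN' := inv_mem cN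
    have e1 : ∀ w ∈ normalizer (N : Set G), q N (c⁻¹ * w * c) = (q N c)⁻¹ * q N w * q N c := by
      intro w hw
      rw [q_mul (mul_mem cN' hw) cN, q_mul cN' hw, q_inv]
    rw [e1 l (hA₂n hl), e1 m (hB₁n hm)] at h3
    have h4 : (q N c)⁻¹ * (q N l * q N m) * q N c = (q N c)⁻¹ * (q N m * q N l) * q N c := by
      calc (q N c)⁻¹ * (q N l * q N m) * q N c = (q N c)⁻¹ * q N l * q N c * ((q N c)⁻¹ * q N m * q N c) := by group
        _ = (q N c)⁻¹ * (q N m * q N l) * q N c := by rw [h3]; group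
    exact mul_left_cancel (mul_right_cancel h4)
  -- generation
  have hstar' : ∀ w : G, w * (x * z) = x * z * w → ⁅w, z⁆ ∈ Oc (x * z) := by
    intro w hw
    have h1 : (c⁻¹ * w * c) * x = x * (c⁻¹ * w * c) := by
      have h2 : (c⁻¹ * w * c) * (c⁻¹ * (x * z) * c) = c⁻¹ * (x * z) * c * (c⁻¹ * w * c) := by
        calc (c⁻¹ * w * c) * (c⁻¹ * (x * z) * c) = c⁻¹ * (w * (x * z)) * c := by group
          _ = c⁻¹ * (x * z) * c * (c⁻¹ * w * c) := by rw [hw]; group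
      rwa [cxz'] at h2
    have h2 := oc_conj_mem c (Γ.star _ h1)
    rw [C.cx] at h2
    have e : c * ⁅c⁻¹ * w * c, z⁆ * c⁻¹ = ⁅w, z⁆ := by
      have h3 : c * z * c⁻¹ = z := by rw [cz, mul_inv_cancel_right]
      have h4 : c * z⁻¹ * c⁻¹ = z⁻¹ := by rw [inv_self C.zz]; exact h3
      rw [commutatorElement_def, commutatorElement_def]
      calc c * (c⁻¹ * w * c * z * (c⁻¹ * w * c)⁻¹ * z⁻¹) * c⁻¹ = w * (c * z * c⁻¹) * w⁻¹ * (c * z⁻¹ * c⁻¹) := by group
        _ = w * z * w⁻¹ * z⁻¹ := by rw [h3, h4]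
    rwa [e] at h2
  have hgen : L ≤ core N ⊔ (A₁ ⊔ A₂) := by
    refine C.gen _ ?_ ?_ ?_
    · rw [hN]
      exact le_trans (le_trans (le_core ((core_le L).trans C.tri.comp.le)
        (C.LN.trans (normalizer_le_normalizer_core L)) (odd_card_core L))
        (((C.WO a (Or.inl rfl)).symm.le.trans inf_le_left).trans Γ.Wle)) le_sup_left
    · intro w hw hwx
      refine mem_sup_right (mem_sup_left (mem_inf.mpr ⟨?_, Γ.star w hwx⟩))
      rw [commutatorElement_def]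
      exact mul_mem (mul_mem (mul_mem hw C.zL) (inv_mem hw)) (inv_mem C.zL)
    · intro w hw hwx
      refine mem_sup_right (mem_sup_right (mem_inf.mpr ⟨?_, hstar' w hwx⟩))
      rw [commutatorElement_def]
      exact mul_mem (mul_mem (mul_mem hw C.zL) (inv_mem hw)) (inv_mem C.zL)
  have hz := comm_of_conj_eq Γ.hz
  have hxz : h * (x * z) = x * z * h := by rw [← mul_assoc, Γ.hx, mul_assoc, hz, ← mul_assoc]
  have hcoreN : cj h (core N) = core N := by
    rw [← core_cj, mem_normalizer_iff_cj.mp hN']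
  have hgen' : cj h L ≤ core N ⊔ (B₁ ⊔ B₂) := by
    have h1 := cj_mono (g := h) hgen
    rw [cj_sup, cj_sup, hcoreN] at h1
    have h2 : cj h A₁ = B₁ := by rw [hA₁, cj_inf, cj_Oc, conj_eq_of_comm Γ.hx]
    have h3 : cj h A₂ = B₂ := by rw [hA₂, cj_inf, cj_Oc, conj_eq_of_comm hxz]
    rwa [h2, h3] at h1
  -- `z` acts trivially on `L`
  have hcoreNn : core N ≤ normalizer (N : Set G) := (core_le N).trans le_normalizer
  have hzLb : z ∈ cj h L := by
    rw [mem_cj]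
    have e : h⁻¹ * z * h = z := by rw [mul_assoc, ← hz, inv_mul_cancel_left]
    rw [e]
    exact C.zL
  have him : im N (core N ⊔ (A₁ ⊔ A₂)) = im N A₁ ⊔ im N A₂ := by
    rw [im_sup hcoreNn (sup_le hA₁n hA₂n), im_core, bot_sup_eq, im_sup hA₁n hA₂n]
  have him' : im N (core N ⊔ (B₁ ⊔ B₂)) = im N B₁ ⊔ im N B₂ := by
    rw [im_sup hcoreNn (sup_le hB₁n hB₂n), im_core, bot_sup_eq, im_sup hB₁n hB₂n]
  have hqz : q N z ∈ im N B₁ ⊔ im N B₂ := by
    rw [← him']
    exact q_mem_im (sup_le hcoreNn (sup_le hB₁n hB₂n)) (hgen' hzLb)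
  have hcomm : ∀ u ∈ im N A₁ ⊔ im N A₂, u * q N z = q N z * u := by
    refine sup_comm_of ?_ ?_
    · intro u hu
      exact ((sup_comm_of (v := u) (fun v hv => (c11 u hu v hv).symm) (fun v hv => (c12 u hu v hv).symm)) _ hqz).symm
    · intro u hu
      exact ((sup_comm_of (v := u) (fun v hv => (c21 u hu v hv).symm) (fun v hv => (c22 u hu v hv).symm)) _ hqz).symm
  apply C.nfz
  rw [fixes_iff_conj]
  refine ⟨le_normalizer C.zL, fun l hl => ?_⟩
  have h1 : q N l ∈ im N A₁ ⊔ im N A₂ := by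
    rw [← him]
    exact q_mem_im (sup_le hcoreNn (sup_le hA₁n hA₂n)) (hgen hl)
  have h2 := hcomm _ h1
  have hl' := le_normalizer (hLN hl)
  have h3 : l⁻¹ * (z * l * z⁻¹) ∈ core N := by
    rw [← q_eq hl' (mul_mem (mul_mem zN hl') (inv_mem zN)), q_conj zN hl', ← h2, mul_inv_cancel_right]
  refine le_core (X := L) (N := L ⊓ core N) inf_le_left ?_ ?_ (mem_inf.mpr ⟨?_, h3⟩)
  · intro m hm
    rw [mem_normalizer_iff]
    have h0 : ∀ m ∈ L, ∀ n ∈ L ⊓ core N, m * n * m⁻¹ ∈ L ⊓ core N := by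
      intro m hm n hn
      exact mem_inf.mpr ⟨mul_mem (mul_mem hm hn.1) (inv_mem hm), conj_mem_core (le_normalizer (hLN hm)) hn.2⟩
    intro n
    refine ⟨h0 m hm n, fun hn => ?_⟩
    have h4 := h0 m⁻¹ (inv_mem hm) _ hn
    have e : m⁻¹ * (m * n * m⁻¹) * m⁻¹⁻¹ = n := by group
    rwa [e] at h4
  · exact Odd.of_dvd_nat (odd_card_core N) (Subgroup.card_dvd_of_le inf_le_right)
  · exact mul_mem (inv_mem hl) (mul_mem (mul_mem C.zL hl) (inv_mem C.zL))

/-- **P18** -/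
theorem false_of (C : Conf x a z c i g L P U M W) (Γ : Gam x a z c h L U M W) (F : Fus x z) : False := by
  obtain ⟨f, hf⟩ := exists_sign x
  obtain ⟨k, hk⟩ := card_x C Γ F
  obtain ⟨ka, hka⟩ := card_AT C Γ (b := a) ⟨x, L, C.tri⟩
  obtain ⟨kb, hkb⟩ := card_AT C Γ (AT_xa C Γ)
  have uu : (x * a) * (x * a) = 1 := by
    calc (x * a) * (x * a) = x * (a * x) * a := by group
      _ = (x * x) * (a * a) := by rw [C.ax]; group
      _ = 1 := by rw [C.xx, C.aa, one_mul]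
  obtain ⟨m, hm, hm'⟩ := hf x C.xx
  obtain ⟨ma, hma, hma'⟩ := hf a C.aa
  obtain ⟨mb, hmb, hmb'⟩ := hf (x * a) uu
  rw [hk] at hm
  rw [hka] at hma
  rw [hkb] at hmb
  have h1 : ((-1 : ℤˣ)) ^ (m + ma) = (-1) ^ mb := by rw [pow_add, ← hm', ← hma', ← hmb', map_mul]
  have key : ∀ n : ℕ, ((-1 : ℤˣ)) ^ n = 1 ↔ Even n := fun n => neg_one_pow_eq_one_iff_even (by decide)
  have h2 : Even (m + ma + mb) := by
    rw [← key, pow_add, h1, ← pow_add, key]
    exact ⟨mb, rfl⟩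
  obtain ⟨r, hr⟩ := h2
  have hme : Even m := by
    rw [Nat.even_iff]
    omega
  have hmo : ¬ Even ma := by
    rw [Nat.even_iff]
    omega
  have h3 := C.sg f (by rw [hm', key]; exact hme) a
  rw [hma', key] at h3
  exact hmo h3

end Cfsg.Agent.UGT.PQ
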