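import Cfsg.Agent.UGT.PQ.SylDefs
import Cfsg.Agent.UGT.Res.KFacts
import Cfsg.Agent.GH.L2AutD
import Cfsg.Agent.GH.L2AutField
import Cfsg.Agent.LieRecognition.FieldSemilinear
import Cfsg.Agent.UGT.PQ.FldEx

/-!
# (Q2): the frame of a triple

* `Q2 G`: for every triple `(x, a, L)` the only 2-elements of `C(a)` trivial on `L / O(L)` are `1` and `a`.
* `normal`: `L` is normal in `C(a)`.
* `exists_frame`: `SylDefs.Fr` for a triple.
-/

set_option autoImplicit false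

open Cfsg Subgroup
open Cfsg.Agent.SignalizersComponents Cfsg.Agent.Lib
open Cfsg.Agent.SignalizersComponents.IntrinsicBasic
open Cfsg.Agent.SignalizersComponents.PLayerAut
open Cfsg.Agent.Intrinsic.Basic Cfsg.Agent.Intrinsic.Cen Cfsg.Agent.Intrinsic.Diag
open Cfsg.Agent.McLLyComp.Act
open Cfsg.Agent.UGT.Triple Cfsg.Agent.UGT.TriBase Cfsg.Agent.UGT.Iface
open Cfsg.Agent.UGT.Res.KFacts (Pgl exists_lift)
open Cfsg.Agent.UGT.PQ.Defs Cfsg.Agent.UGT.PQ.SylDefs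
open Cfsg.Agent.GH.L2Aut (Dih Inn)
open scoped commutatorElement

namespace Cfsg.Agent.UGT.PQ.Frame

universe u

variable {G : Type u} [Group G]

/-- the only 2-elements of `C(a)` trivial on `L / O(L)` are `1` and `a` -/
def Q2 (G : Type u) [Group G] : Prop := ∀ (x a : G) (L : Subgroup G), IsTriple x a L →
  ∀ w : G, w * a = a * w → (∃ n : ℕ, w ^ 2 ^ n = 1) → Fixes w L → w = 1 ∨ w = a

variable [Finite G] {x a : G} {L : Subgroup G}

/-- `L` is normal in `C(a)` -/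
theorem normal (hQ : Q2 G) (T : IsTriple x a L) :
    centralizer ({a} : Set G) ≤ normalizer (L : Set G) := by
  intro g hg
  rw [mem_normalizer_iff_cj]
  by_contra hne
  have hM : IsComp (centralizer ({a} : Set G)) (cj g L) := isComp_cj_of_mem T.comp hg
  have h1 : cj g L ≤ zpowers a := by
    refine hM.le_of_two fun k hk n hn => ?_
    have h2 : Fixes k L := T.comp.fixes_of_mem hM (Ne.symm hne) hk
    rcases hQ x a L T k (comm_c (hM.le hk)) ⟨n, hn⟩ h2 with h3 | h3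
    · rw [h3]; exact one_mem _
    · rw [h3]; exact mem_zpowers a
  apply hM.ne_bot
  rw [← hM.perfect, commutator_eq_bot_iff_le_centralizer]
  intro k hk
  rw [mem_centralizer_iff]
  intro l hl
  obtain ⟨i, rfl⟩ := mem_zpowers_iff.mp (h1 hk)
  obtain ⟨j, rfl⟩ := mem_zpowers_iff.mp (h1 hl)
  exact (Commute.refl a).zpow_zpow j i

/-- the field part of the action of `T` on `L / O(L)` -/
noncomputable def fl {L T : Subgroup G} {F : Type} [Field F] [Finite F]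
    (R : Cfsg.Agent.GH.L2Aut.Rep F (↥L ⧸ oddCore ↥L)) (hT : T ≤ normalizer (L : Set G)) :
    ↥T →* (F ≃+* F) := R.fld.comp ((act L).comp (inclusion hT))

/-- the class of the determinant of the action of `T` on `L / O(L)` -/
noncomputable def oo {L T : Subgroup G} {F : Type} [Field F] [Finite F]
    (R : Cfsg.Agent.GH.L2Aut.Rep F (↥L ⧸ oddCore ↥L)) (hT : T ≤ normalizer (L : Set G)) :
    ↥T →* ℤˣ := R.o1.comp ((act L).comp (inclusion hT))

omit [Finite G] in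
theorem fl_apply {L T : Subgroup G} {F : Type} [Field F] [Finite F]
    (R : Cfsg.Agent.GH.L2Aut.Rep F (↥L ⧸ oddCore ↥L)) (hT : T ≤ normalizer (L : Set G)) (t : G)
    (ht : t ∈ T) : fl R hT ⟨t, ht⟩ = R.fld (act L ⟨t, hT ht⟩) := rfl

omit [Finite G] in
theorem oo_apply {L T : Subgroup G} {F : Type} [Field F] [Finite F]
    (R : Cfsg.Agent.GH.L2Aut.Rep F (↥L ⧸ oddCore ↥L)) (hT : T ≤ normalizer (L : Set G)) (t : G)
    (ht : t ∈ T) : oo R hT ⟨t, ht⟩ = R.o1 (act L ⟨t, hT ht⟩) := rfl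

set_option maxHeartbeats 1000000 in
theorem exists_frame (hQ : Q2 G) (T₀ : IsTriple x a L) {F : Type} [Field F] [Finite F]
    (R : Cfsg.Agent.GH.L2Aut.Rep F (↥L ⧸ oddCore ↥L)) (ho : R.o1 (act L ⟨x, T₀.x_mem⟩) = -1) :
    ∃ (T P : Subgroup G) (d r : G) (hT : T ≤ normalizer (L : Set G)),
      (∀ t, t ∈ P ↔ t ∈ T ∧ t ∈ L) ∧ Fr x a d r T P (fl R hT) (oo R hT) := by
  have h2 : Fact (Nat.Prime 2) := ⟨Nat.prime_two⟩
  have hxx := sq_of_order T₀.invx
  have haa := sq_of_order T₀.inva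
  have ha1 := ne_one_of_order T₀.inva
  have hax := T₀.comm
  have hLN := normal hQ T₀
  have hxL := T₀.x_mem
  -- Sylow subgroups
  have hpx : IsPGroup 2 ↥(zpowers x) := by
    apply BalanceAux.isPGroup_zpowers_of_orderOf
    exact T₀.invx
  obtain ⟨U, hU, hxU⟩ := exists_isSyl (E := centralizer ({a} : Set G) ⊓ centralizer ({x} : Set G))
    hpx (by
      rw [zpowers_le]
      exact ⟨mem_c hax.symm, mem_c rfl⟩)
  obtain ⟨T, hT, hUT⟩ := exists_isSyl (E := centralizer ({a} : Set G)) hU.two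
    (hU.le.trans inf_le_left)
  have hTN : T ≤ normalizer (L : Set G) := hT.le.trans hLN
  have hTx : T ⊓ centralizer ({x} : Set G) = U := by
    refine hU.max _ (hT.two.to_le inf_le_left) (inf_le_inf_right _ hT.le)
      (le_inf hUT (hU.le.trans inf_le_right))
  have hxT : x ∈ T := hUT (hxU (mem_zpowers x))
  have hmemT : ∀ V : Subgroup G, IsPGroup 2 ↥V → T ≤ V → V ≤ centralizer ({a} : Set G) → V ≤ T :=
    fun V hV hTV hVa => (hT.max V hV hVa hTV).le
  have haT : a ∈ T := by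
    have hpa : IsPGroup 2 ↥(zpowers a) := BalanceAux.isPGroup_zpowers_of_orderOf T₀.inva
    have h3 : T ≤ normalizer (zpowers a : Set G) := by
      intro t ht
      have h4 : t * a = a * t := comm_c (hT.le ht)
      have h5 : ∀ y, y ∈ zpowers a → t * y * t⁻¹ = y := by
        intro y hy
        obtain ⟨k, rfl⟩ := mem_zpowers_iff.mp hy
        rw [(show Commute t a from h4).zpow_right k]
        group
      rw [mem_normalizer_iff]
      intro y
      constructor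
      · intro hy
        rw [h5 y hy]
        exact hy
      · intro hy
        have h6 := h5 _ hy
        have h7 : t * y * t⁻¹ = y := by
          have h8 : t * (t * y * t⁻¹) * t⁻¹ = t * y * t⁻¹ := h6
          exact mul_left_cancel (mul_right_cancel h8)
        rw [← h7]
        exact hy
    have h4 : IsPGroup 2 ↥(T ⊔ zpowers a : Subgroup G) := IsPGroup.to_sup_of_normal_right' hT.two hpa h3
    exact hmemT _ h4 le_sup_left (sup_le hT.le (by rw [zpowers_le]; exact mem_c rfl))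
      (mem_sup_right (mem_zpowers a))
  have hpow : ∀ t ∈ T, ∃ n, t ^ 2 ^ n = 1 := by
    intro t ht
    obtain ⟨n, hn⟩ := hT.two ⟨t, ht⟩
    exact ⟨n, congrArg Subtype.val hn⟩
  have hcore : ∀ t ∈ T, t ∈ core L → t = 1 := by
    intro t ht htc
    obtain ⟨n, hn⟩ := hpow t ht
    exact eq_one_of_mem_core htc hn
  have hfix : ∀ t ∈ T, Fixes t L → t = 1 ∨ t = a := fun t ht hf =>
    hQ x a L T₀ t (comm_c (hT.le ht)) (hpow t ht) hf
  -- `P`
  obtain ⟨P, hP⟩ : ∃ P : Subgroup G, ∀ t, t ∈ P ↔ t ∈ T ∧ t ∈ L := ⟨T ⊓ L, fun t => mem_inf⟩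
  have hPe : P = T ⊓ L := by ext t; rw [hP, mem_inf]
  have hPL : ∀ t ∈ P, t ∈ L := fun t ht => ((hP t).mp ht).2
  have hPT : P ≤ T := fun t ht => ((hP t).mp ht).1
  have hPsyl : IsSyl L P := hPe ▸ hT.inf T₀.comp.le hLN
  let π : ↥L →* ↥L ⧸ oddCore ↥L := QuotientGroup.mk' _
  have hinj : ∀ (u v : G) (hu : u ∈ P) (hv : v ∈ P), π ⟨u, hPL u hu⟩ = π ⟨v, hPL v hv⟩ → u = v := by
    intro u v hu hv h
    have h1 := (mk_eq_iff (hPL u hu) (hPL v hv)).mp h
    have h3 := hcore _ (mul_mem (inv_mem (hPT hu)) (hPT hv)) h1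
    rwa [inv_mul_eq_one] at h3
  obtain ⟨P', hP'⟩ := hPsyl.exists_sylow
  have hP'' : ∀ (t : G) (ht : t ∈ L), (⟨t, ht⟩ : ↥L) ∈ P' ↔ t ∈ P := by
    intro t ht
    rw [← hP']
    constructor
    · intro h
      exact ⟨⟨t, ht⟩, h, rfl⟩
    · rintro ⟨⟨s, hs⟩, h, rfl⟩
      exact h
  let S : Sylow 2 (↥L ⧸ oddCore ↥L) := P'.mapSurjective (QuotientGroup.mk'_surjective (oddCore ↥L))
  have hS : ∀ y, y ∈ S ↔ ∃ (p : G) (hp : p ∈ P), π ⟨p, hPL p hp⟩ = y := by
    intro y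
    constructor
    · rintro ⟨⟨p, hpL⟩, hp, rfl⟩
      exact ⟨p, (hP'' p hpL).mp hp, rfl⟩
    · rintro ⟨p, hp, rfl⟩
      exact ⟨⟨p, hPL p hp⟩, (hP'' p (hPL p hp)).mpr hp, rfl⟩
  -- the action of `x`
  obtain ⟨φ, hφ⟩ : ∃ φ, φ = act L ⟨x, hxL⟩ := ⟨_, rfl⟩
  have hφ2 : φ * φ = 1 := by rw [hφ]; exact Cfsg.Agent.UGT.Res.KFacts.act_sq T₀
  have hφo : R.o1 φ = -1 := by rw [hφ]; exact ho
  have hφf : R.fld φ = 1 := by
    by_contra h
    have h3 := R.o1_of_sq hφ2 h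
    rw [hφo] at h3
    exact absurd h3 (by decide)
  have hφP : φ ∈ R.PGL := R.mem_PGL_iff_fld.mpr hφf
  have hφI : φ ∉ Inn (↥L ⧸ oddCore ↥L) := by
    intro h
    have h3 := (R.mem_inn_iff.mp h).2
    rw [hφo] at h3
    exact absurd h3 (by decide)
  have hconjP : ∀ t ∈ T, ∀ p ∈ P, t * p * t⁻¹ ∈ P := fun t ht p hp =>
    (hP _).mpr ⟨mul_mem (mul_mem ht (hPT hp)) (inv_mem ht), conj_mem (hTN ht) (hPL p hp)⟩
  have hφS : ∀ y ∈ S, φ y ∈ S := by
    intro y hy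
    obtain ⟨p, hp, rfl⟩ := (hS y).mp hy
    rw [hφ]
    exact (hS _).mpr ⟨x * p * x⁻¹, hconjP x hxT p hp, rfl⟩
  obtain ⟨d', r', hdih, hφd, hφr⟩ := R.dtype_frame S hφP hφI hφ2 hφS
  obtain ⟨d, hd, hd'⟩ := (hS _).mp hdih.d_mem
  obtain ⟨r, hr, hr'⟩ := (hS _).mp hdih.r_mem
  let f : P →* ↥L ⧸ oddCore ↥L := π.comp (inclusion hPL)
  have hf : Function.Injective f := by
    rintro ⟨u, hu⟩ ⟨v, hv⟩ h
    exact Subtype.ext (hinj u v hu hv h)
  have hdihP : Dih P d r := by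
    have h3 : Dih ((⊤ : Subgroup P).map f) (f ⟨d, hd⟩) (f ⟨r, hr⟩) := by
      have e : (⊤ : Subgroup P).map f = (S : Subgroup (↥L ⧸ oddCore ↥L)) := by
        ext y
        constructor
        · rintro ⟨⟨p, hp⟩, -, rfl⟩
          exact (hS _).mpr ⟨p, hp, rfl⟩
        · intro hy
          obtain ⟨p, hp, rfl⟩ := (hS y).mp hy
          exact ⟨⟨p, hp⟩, mem_top _, rfl⟩
      rw [e]
      have e1 : f ⟨d, hd⟩ = d' := hd'
      have e2 : f ⟨r, hr⟩ = r' := hr'
      rw [e1, e2]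
      exact hdih
    have h4 := Dih.comap f hf h3
    have h5 := Dih.map P.subtype P.subtype_injective h4
    have h6 : (⊤ : Subgroup P).map P.subtype = P := by
      rw [← MonoidHom.range_eq_map, range_subtype]
    rw [h6] at h5
    exact h5
  -- elements of `T`
  have hact : ∀ p (hp : p ∈ P), act L ⟨p, hTN (hPT hp)⟩ = MulAut.conj (π ⟨p, hPL p hp⟩) := by
    intro p hp
    exact act_of_mem (hPL p hp)
  have hact1 : ∀ (t : G) (ht : t ∈ T), (t = 1 ∨ t = a) → act L ⟨t, hTN ht⟩ = 1 := by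
    intro t ht h
    rw [act_eq_one_iff]
    rcases h with rfl | rfl
    · exact fixes_one L
    · exact fixes_self' T₀.comp.le
  let A : Subgroup (MulAut (↥L ⧸ oddCore ↥L)) := (T.subgroupOf (normalizer (L : Set G))).map (act L)
  have hA : IsPGroup 2 A :=
    (hT.two.comap_of_injective (H := T) (normalizer (L : Set G)).subtype (subtype_injective _)).map _
  have hSA : (S : Subgroup (↥L ⧸ oddCore ↥L)).map MulAut.conj ≤ A := by
    rintro _ ⟨y, hy, rfl⟩
    obtain ⟨p, hp, rfl⟩ := (hS y).mp hy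
    exact ⟨⟨p, hTN (hPT hp)⟩, hPT hp, hact p hp⟩
  have hinn : ∀ t (ht : t ∈ T), act L ⟨t, hTN ht⟩ ∈ Inn (↥L ⧸ oddCore ↥L) →
      ∃ q : G, (q = 1 ∨ q = a) ∧ ∃ p ∈ P, t = q * p := by
    rintro t ht ⟨y, hy⟩
    have h3 : MulAut.conj y ∈ A := by
      rw [hy]
      exact ⟨⟨t, hTN ht⟩, ht, rfl⟩
    have h4 : y ∈ S := R.mem_of_conj_mem S hA hSA h3
    obtain ⟨p, hp, rfl⟩ := (hS y).mp h4
    have h5 : Fixes (t * p⁻¹) L := by
      rw [← act_eq_iff (hTN ht) (hTN (hPT hp)), hact p hp]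
      exact hy.symm
    exact ⟨t * p⁻¹, hfix _ (mul_mem ht (inv_mem (hPT hp))) h5, p, hp, by group⟩
  have hPGL : ∀ t (ht : t ∈ T), R.fld (act L ⟨t, hTN ht⟩) = 1 → act L ⟨t, hTN ht⟩ ∈ R.PGL :=
    fun t ht h => R.mem_PGL_iff_fld.mpr h
  have hcomm : ∀ t (ht : t ∈ T) (p : G) (hp : p ∈ P),
      act L ⟨t, hTN ht⟩ (π ⟨p, hPL p hp⟩) = π ⟨p, hPL p hp⟩ → t * p = p * t := by
    intro t ht p hp h
    have h3 : π ⟨t * p * t⁻¹, hPL _ (hconjP t ht p hp)⟩ = π ⟨p, hPL p hp⟩ := h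
    have h4 := hinj _ _ (hconjP t ht p hp) hp h3
    calc t * p = t * p * t⁻¹ * t := by group
      _ = p * t := by rw [h4]
  have hcomm' : ∀ t (ht : t ∈ T) (p : G) (hp : p ∈ P), t * p = p * t →
      act L ⟨t, hTN ht⟩ (π ⟨p, hPL p hp⟩) = π ⟨p, hPL p hp⟩ := by
    intro t ht p hp h
    have h3 : act L ⟨t, hTN ht⟩ (π ⟨p, hPL p hp⟩) = π ⟨t * p * t⁻¹, hPL _ (hconjP t ht p hp)⟩ := rfl
    rw [h3]
    congr 1
    apply Subtype.ext
    change t * p * t⁻¹ = p
    rw [h]; group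
  refine ⟨T, P, d, r, hTN, hP,
    { xx := hxx
      aa := haa
      a1 := ha1
      T2 := hT
      Tx := hTx ▸ hU
      aT := haT
      xT := hxT
      PT := hPT
      norm := ?_
      aP := ?_
      dih := hdihP
      xd := ?_
      xr := ?_
      cyc := ?_
      fla := ?_
      flx := ?_
      flP := ?_
      oa := ?_
      ox := ?_
      oP := ?_
      cov := ?_
      f1 := ?_
      f2 := ?_
      f3 := ?_ }⟩
  · intro n hn hnT p hp
    exact (hP _).mpr ⟨hnT p (hPT hp), conj_mem (hLN (mem_c hn)) (hPL p hp)⟩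
  · intro haP
    have h3 := hact a haP
    rw [hact1 a (hPT haP) (Or.inr rfl)] at h3
    have h5 : π ⟨a, hPL a haP⟩ = 1 := R.conj_injective (by rw [← h3, map_one])
    exact ha1 (hcore a haT ((mk_eq_one_iff (hPL a haP)).mp h5))
  · refine hinj _ _ (hconjP x hxT d hd) (inv_mem hd) ?_
    have h3 : φ (π ⟨d, hPL d hd⟩) = π ⟨x * d * x⁻¹, hPL _ (hconjP x hxT d hd)⟩ := by
      rw [hφ]; rfl
    rw [← h3, hd', hφd, ← hd', ← map_inv]
    rfl
  · refine hinj _ _ (hconjP x hxT r hr) (mul_mem hd hr) ?_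
    have h3 : φ (π ⟨r, hPL r hr⟩) = π ⟨x * r * x⁻¹, hPL _ (hconjP x hxT r hr)⟩ := by
      rw [hφ]; rfl
    rw [← h3, hr', hφr, ← hd', ← hr', ← map_mul]
    rfl
  · have hc : IsCyclic (F ≃+* F) := LieRecognition.FieldSemilinear.isCyclic_ringAut F
    infer_instance
  · intro h
    rw [fl_apply, hact1 a h (Or.inr rfl), map_one]
  · intro h
    rw [fl_apply, ← hφ]; exact hφf
  · intro p h hp
    rw [fl_apply, hact p hp]
    exact R.mem_PGL_iff_fld.mp (R.conj_mem_PGL _)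
  · intro h
    rw [oo_apply, hact1 a h (Or.inr rfl), map_one]
  · intro h
    rw [oo_apply, ← hφ]; exact hφo
  · intro p h hp
    rw [oo_apply, hact p hp]
    exact R.o1_conj _
  · intro t ht h
    have h' : R.fld (act L ⟨t, hTN ht⟩) = 1 := by rw [← fl_apply R hTN t ht]; exact h
    by_cases h3 : act L ⟨t, hTN ht⟩ ∈ Inn (↥L ⧸ oddCore ↥L)
    · obtain ⟨q, hq, p, hp, h4⟩ := hinn t ht h3
      exact ⟨q, hq, p, hp, Or.inl h4⟩
    · have h5 : act L ⟨t * x, hTN (mul_mem ht hxT)⟩ ∈ Inn (↥L ⧸ oddCore ↥L) := by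
        rw [act_mul (hTN ht) hxL, ← hφ]
        exact R.mul_mem_inn (hPGL t ht h') h3 hφP hφI
      obtain ⟨q, hq, p, hp, h4⟩ := hinn (t * x) (mul_mem ht hxT) h5
      refine ⟨q, hq, p, hp, Or.inr ?_⟩
      rw [← h4, mul_assoc, hxx, mul_one]
  · intro t ht h htt s hs hst
    have h' : R.fld (act L ⟨t, hTN ht⟩) ≠ 1 := by rw [← fl_apply R hTN t ht]; exact h
    rw [oo_apply]
    refine R.o1_of_comm (α := act L ⟨t, hTN ht⟩) ?_ h' ?_
    · rw [← act_mul (hTN ht) (hTN ht)]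
      exact hact1 _ (mul_mem ht ht) htt
    · have hst' : ⁅s, t⁆ ∈ T := by
        rw [commutatorElement_def]
        exact mul_mem (mul_mem (mul_mem hs ht) (inv_mem hs)) (inv_mem ht)
      have h3 : act L ⟨⁅s, t⁆, hTN hst'⟩ = 1 := hact1 _ hst' hst
      have h4 : act L ⟨s * t, hTN (mul_mem hs ht)⟩ =
          act L ⟨⁅s, t⁆ * (t * s), hTN (mul_mem hst' (mul_mem ht hs))⟩ := by
        apply act_congr
        rw [commutatorElement_def]; group
      rw [act_mul (hTN hs) (hTN ht)] at h4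
      rw [h4, act_mul (hTN hst') (hTN (mul_mem ht hs)), h3, one_mul, act_mul (hTN ht) (hTN hs)]
  · rintro ⟨⟨t, ht⟩, htf⟩
    have h3 : IsSyl (((centralizer ({a} : Set G)).subgroupOf (normalizer (L : Set G))).map (act L)) A :=
      FldEx.isSyl_map hT hLN (act L)
    have hφA : φ ∈ ((centralizer ({a} : Set G)).subgroupOf (normalizer (L : Set G))).map (act L) := by
      rw [hφ]
      exact ⟨⟨x, hxL⟩, mem_c hax.symm, rfl⟩
    have hInn : Inn (↥L ⧸ oddCore ↥L) ≤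
        ((centralizer ({a} : Set G)).subgroupOf (normalizer (L : Set G))).map (act L) := by
      rintro _ ⟨y, rfl⟩
      obtain ⟨⟨l, hl⟩, rfl⟩ := QuotientGroup.mk_surjective y
      exact ⟨⟨l, le_normalizer hl⟩, T₀.comp.le hl, act_of_mem hl⟩
    obtain ⟨β, ⟨⟨b, hbN⟩, hbT, rfl⟩, hββ, hβf, hβS⟩ := FldEx.exists_field R h3 (by
      intro γ hγ
      by_cases h4 : γ ∈ Inn (↥L ⧸ oddCore ↥L)
      · exact hInn h4
      · have h5 := mul_mem (hInn (R.mul_mem_inn hγ h4 hφP hφI)) hφA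
        rwa [mul_assoc, hφ2, mul_one] at h5) S (by
      rintro _ ⟨⟨t, htN⟩, ht, rfl⟩ s hs
      obtain ⟨p, hp, rfl⟩ := (hS s).mp hs
      exact (hS _).mpr ⟨t * p * t⁻¹, hconjP t ht p hp, rfl⟩)
      ⟨act L ⟨t, hTN ht⟩, ⟨⟨t, hTN ht⟩, ht, rfl⟩, by rw [← fl_apply R hTN t ht]; exact htf⟩
    have hbT' : b ∈ T := hbT
    refine ⟨b, hbT', by rw [fl_apply]; exact hβf, ?_, fun p hp => hcomm b hbT' p hp
      (hβS _ ((hS _).mpr ⟨p, hp, rfl⟩))⟩
    have h6 : act L ⟨b * b, hTN (mul_mem hbT' hbT')⟩ = 1 := by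
      rw [act_mul (hTN hbT') (hTN hbT')]; exact hββ
    rw [act_eq_one_iff] at h6
    exact hfix _ (mul_mem hbT' hbT') h6
  · intro t ht htp
    obtain ⟨n, hn⟩ := hpow t ht
    have h3 : act L ⟨t, hTN ht⟩ * act L ⟨t, hTN ht⟩ = 1 := by
      refine Cfsg.Agent.GH.L2AutField.sq_eq_one R ⟨n, ?_⟩ S ?_
      · rw [← map_pow, ← map_one (act L)]
        congr 1
        exact Subtype.ext hn
      · intro s hs
        obtain ⟨p, hp, rfl⟩ := (hS s).mp hs
        exact hcomm' t ht p hp (htp p hp)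
    rw [← act_mul (hTN ht) (hTN ht), act_eq_one_iff] at h3
    exact hfix _ (mul_mem ht ht) h3

end Cfsg.Agent.UGT.PQ.Frame
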