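import Cfsg.Agent.UGT.PQ.FunA

/-!
# (Q2), P5-P7 (helper285)

`fun_of`: the functor `W = W E₁`, `E₁ = ⟨a, φ, z, v⟩`, `M = N(W)`, (J1), `noE`, P7.
-/

set_option autoImplicit false
set_option linter.unusedSectionVars false

open Cfsg Subgroup
open Cfsg.Agent.SignalizersComponents Cfsg.Agent.Lib
open Cfsg.Agent.SignalizersComponents.IntrinsicBasic
open Cfsg.Agent.Intrinsic.Basic Cfsg.Agent.Intrinsic.Cen
open Cfsg.Agent.Intrinsic.Functor (W le_W W_le OddSol)
open Cfsg.Agent.UGT.Triple Cfsg.Agent.UGT.TriBase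
open Cfsg.Agent.UGT.PQ.Defs Cfsg.Agent.UGT.PQ.SylDefs Cfsg.Agent.UGT.PQ.FunDefs
open Cfsg.Agent.GH.L2Aut (Four)
open scoped commutatorElement

namespace Cfsg.Agent.UGT.PQ.Fun

universe u

variable {G : Type u} [Group G]

theorem conj_Oc {g t d : G} (h : g * t = t * g) (hd : d ∈ Oc t) : g * d * g⁻¹ ∈ Oc t :=
  conj_core (mem_c h) hd

theorem Oc_cj (g t : G) : Oc (g * t * g⁻¹) = cj g (Oc t) := by
  unfold Oc
  rw [← cj_centralizer, core_cj]

theorem comm_of_conj {g t : G} (h : g * t * g⁻¹ = t) : g * t = t * g := by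
  calc g * t = (g * t * g⁻¹) * g := by group
    _ = t * g := by rw [h]

/-- an element inverted by `z ∈ L`, of odd order and normalizing `L`, is in `L` -/
theorem mem_of_inverted {L : Subgroup G} {z k : G} (hz : z ∈ L) (hk : k ∈ normalizer (L : Set G))
    (ho : Odd (orderOf k)) (hi : z * k * z⁻¹ = k⁻¹) : k ∈ L := by
  have h1 : k * k ∈ L := by
    have e1 : k * k = k * (z * k⁻¹ * z⁻¹) := by
      have h2 : z * k⁻¹ * z⁻¹ = k := by
        have h3 := congrArg (fun y => y⁻¹) hi
        simpa [mul_assoc] using h3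
      rw [h2]
    have e2 : k * (z * k⁻¹ * z⁻¹) = (k * z * k⁻¹) * z⁻¹ := by group
    rw [e1, e2]
    exact L.mul_mem ((mem_normalizer_iff.1 hk z).1 hz) (L.inv_mem hz)
  obtain ⟨n, hn⟩ := ho
  have e3 : k = (k * k)⁻¹ ^ n := by
    have h4 := pow_orderOf_eq_one k
    rw [hn, pow_succ, pow_mul, sq] at h4
    rw [inv_pow]
    exact (inv_eq_of_mul_eq_one_right h4).symm
  rw [e3]
  exact L.pow_mem (L.inv_mem h1) n

variable [Finite G]

theorem odd_of_mem {N : Subgroup G} (h : Odd (Nat.card ↥N)) {k : G} (hk : k ∈ N) : Odd (orderOf k) := by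
  refine Odd.of_dvd_nat h ?_
  have h6 : orderOf (⟨k, hk⟩ : ↥N) ∣ _ := orderOf_dvd_natCard _
  rwa [Subgroup.orderOf_mk] at h6

/-- `N` odd, normalized by the involution `z ∈ L`, `N ≤ N(L)`, `L ≤ H`, `C_N(z) ≤ H` ⇒ `N ≤ H` -/
theorem le_of_inverted {N L H : Subgroup G} (hN : Odd (Nat.card ↥N)) {z : G} (hzz : z * z = 1)
    (hzN : ∀ n ∈ N, z * n * z⁻¹ ∈ N) (hz : z ∈ L) (hNL : N ≤ normalizer (L : Set G)) (hL : L ≤ H)
    (hc : ∀ n ∈ N, n * z = z * n → n ∈ H) : N ≤ H := by
  intro n hn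
  obtain ⟨c, hcN, k, hkN, h1, h2, rfl⟩ := Cfsg.Agent.Lib.KleinGen.exists_fixed_mul_inverted N hN
    (MulAut.conj z).toMonoidHom (fun g => by
      change z * (z * g * z⁻¹) * z⁻¹ = g
      calc z * (z * g * z⁻¹) * z⁻¹ = (z * z) * g * (z * z)⁻¹ := by group
        _ = g := by rw [hzz]; group) (fun g hg => hzN g hg) hn
  have h1' : z * c * z⁻¹ = c := h1
  have h2' : z * k * z⁻¹ = k⁻¹ := h2
  exact H.mul_mem (hc c hcN (comm_of_conj h1').symm)
    (hL (mem_of_inverted hz (hNL hkN) (odd_of_mem hN hkN) h2'))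

section main

variable {A : Type*} [Group A] {x a z c i g φ : G} {T P L : Subgroup G} {k : ℕ} {fl : ↥T →* A}

/-- (J1) -/
theorem J1 (T₀ : IsTriple x a L) (LN : centralizer ({a} : Set G) ≤ normalizer (L : Set G)) (hPL : P ≤ L)
    (O : Out x a z c i g φ T P k fl) (K : KF x a z c φ L) (R : Subgroup G) (hR : Odd (Nat.card ↥R))
    (hx : Oc x ≤ R) : ¬ Oc (x * z) ≤ R := by
  intro hxz
  have hzL : z ∈ L := hPL O.zP
  have hcL : c ∈ L := hPL O.cP
  have hLa : ∀ l ∈ L, l * a = a * l := fun l hl => comm_c (T₀.comp.le hl)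
  have hzx : z * x = x * z := by
    have h1 : z * x * z⁻¹ = x := by
      have h2 : c * z * c⁻¹ = z := by rw [← O.cc]; group
      calc z * x * z⁻¹ = c * (c * x * c⁻¹) * c⁻¹ := by rw [← O.cc]; group
        _ = c * (x * z) * c⁻¹ := by rw [O.cx]
        _ = (c * x * c⁻¹) * (c * z * c⁻¹) := by group
        _ = x * (z * z) := by rw [O.cx, h2]; group
        _ = x := by rw [O.zz, mul_one]
    exact comm_of_conj h1
  have hYx : YY x a z ≤ Oc x := by
    unfold YY
    rw [commutator_le]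
    intro n hn s hs
    obtain ⟨m, rfl⟩ := mem_zpowers_iff.1 hs
    have h1 : (z ^ m) * x = x * z ^ m := by
      have h2 : Commute z x := hzx
      exact (h2.zpow_left m).eq
    have e : ⁅n, z ^ m⁆ = n * (z ^ m * n⁻¹ * (z ^ m)⁻¹) := by rw [commutatorElement_def]; group
    rw [e]
    exact mul_mem hn.1 (conj_Oc h1 (inv_mem hn.1))
  have hYL : YY x a z ≤ L := by
    unfold YY
    rw [commutator_le]
    intro n hn s hs
    have h1 : s ∈ L := (zpowers_le.2 hzL) hs
    rw [commutatorElement_def]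
    exact mul_mem ((mem_normalizer_iff.1 (LN hn.2) s).1 h1) (inv_mem h1)
  have hzY : cj z (YY x a z) = YY x a z := by
    rw [← mem_normalizer_iff_cj]
    have h1 : z ∈ normalizer ((Oc x ⊓ centralizer ({a} : Set G) : Subgroup G) : Set G) := by
      have h2 : z ∈ normalizer ((Oc x : Subgroup G) : Set G) := by
        rw [mem_normalizer_iff_cj, ← Oc_cj, hzx, mul_inv_cancel_right]
      have h3 : z ∈ normalizer ((centralizer ({a} : Set G) : Subgroup G) : Set G) :=
        le_normalizer (mem_c (hLa z hzL))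
      rw [mem_normalizer_iff_cj] at h2 h3 ⊢
      rw [cj_inf, h2, h3]
    have h4 : z ∈ normalizer ((zpowers z : Subgroup G) : Set G) := le_normalizer (mem_zpowers z)
    rw [mem_normalizer_iff_cj] at h1 h4 ⊢
    unfold YY
    rw [cj_def, Subgroup.map_commutator, ← cj_def, ← cj_def, h1, h4]
  have hcY : cj c (YY x a z) ≤ Oc (x * z) := by
    have h1 := cj_mono (g := c) hYx
    rwa [← Oc_cj, O.cx] at h1
  have hcYL : cj c (YY x a z) ≤ L := by
    have h1 := cj_mono (g := c) hYL
    rwa [mem_normalizer_iff_cj.1 (le_normalizer hcL)] at h1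
  obtain ⟨R1, hR1⟩ : ∃ R1, R1 = YY x a z ⊔ cj c (YY x a z) := ⟨_, rfl⟩
  have h1 : R1 ≤ R := by
    rw [hR1]
    exact sup_le (hYx.trans hx) (hcY.trans hxz)
  have h2 : cj c R1 = R1 := by
    rw [hR1, cj_def, Subgroup.map_sup, ← cj_def, ← cj_def, ← cj_mul, O.cc, hzY, sup_comm]
  have h3 := K.Yodd R1 (by rw [hR1]; exact sup_le hYL hcYL) (hR.of_dvd_nat (card_dvd_of_le h1))
    (mem_normalizer_iff_cj.2 h2) (le_trans (by rw [hR1]; exact le_sup_left) le_normalizer)
  exact K.YL (le_trans (by rw [hR1]; exact le_sup_left) h3)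

/-- no elementary abelian group of order 16 contains `x` and `z` -/
theorem noE (FT : OddSol G) (hAll : AllOut G) (T₀ : IsTriple x a L)
    (LN : centralizer ({a} : Set G) ≤ normalizer (L : Set G)) (hPL : P ≤ L)
    (O : Out x a z c i g φ T P k fl) (K : KF x a z c φ L) (E : Subgroup G) (h2 : ∀ e ∈ E, e * e = 1)
    (h16 : Nat.card ↥E = 16) (hx : x ∈ E) : z ∉ E := by
  intro hz
  obtain ⟨h1, -⟩ := WE_spec FT hAll h2 h16
  have hxx := sq_of_order T₀.invx
  refine J1 T₀ LN hPL O K (W E) h1 (le_W hx (ne_one_of_order T₀.invx)) (le_W (E.mul_mem hx hz) ?_)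
  intro h3
  apply O.nxz
  rw [eq_inv_of_mul_eq_one_left h3, inv_eq_of_mul_eq_one_left O.zz]

/-- **P7** -/
theorem nAx (FT : OddSol G) (hAll : AllOut G) (T₀ : IsTriple x a L)
    (LN : centralizer ({a} : Set G) ≤ normalizer (L : Set G)) (hPL : P ≤ L)
    (hU : IsSyl (centralizer ({a} : Set G) ⊓ centralizer ({x} : Set G)) (T ⊓ centralizer ({x} : Set G)))
    (O : Out x a z c i g φ T P k fl) (K : KF x a z c φ L) : ¬ AT x := by
  rintro ⟨u, J, hJ⟩
  obtain ⟨A', iA', T', P', fl', z', c', i', g', φ', k', hT', -, -, hxT', hP', O'⟩ := hAll u x J hJ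
  have haa := sq_of_order T₀.inva
  have ha1 := ne_one_of_order T₀.inva
  -- `a ∈ U`
  have haU : a ∈ T ⊓ centralizer ({x} : Set G) := by
    obtain ⟨y, hy, h1⟩ := hU.conj (R' := zpowers a)
      (isPGroup_of_sq' (by
        intro e he
        obtain ⟨m, rfl⟩ := mem_zpowers_iff.1 he
        rw [← zpow_add, ← two_mul, zpow_mul, zpow_two, haa, one_zpow]))
      (by
        rw [zpowers_le]
        exact ⟨mem_c rfl, mem_c T₀.comm⟩)
    have h2 := mem_cj.1 (h1 (mem_zpowers a))
    have h3 : a * y = y * a := (comm_c hy.1).symm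
    rwa [mul_assoc, h3, inv_mul_cancel_left] at h2
  -- `h ∈ C(x)` with `h⁻¹ U h ≤ T'`
  obtain ⟨h, hh, hUT⟩ := hT'.conj hU.two inf_le_right
  have hhx : h * x = x * h := comm_c hh
  have ha'T : h⁻¹ * a * h ∈ T' := mem_cj.1 (hUT haU)
  have hUT' : cj h⁻¹ (T ⊓ centralizer ({x} : Set G)) ≤ T' := by
    rw [← cj_inv_cj h T']
    exact cj_mono hUT
  -- `T' ∩ C(a') = h⁻¹ U h`
  have hcap : cj h (T' ⊓ centralizer ({h⁻¹ * a * h} : Set G)) = T ⊓ centralizer ({x} : Set G) := by
    refine hU.max _ (isPGroup_cj (hT'.two.to_le inf_le_left)) ?_ ?_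
    · refine le_inf ?_ ?_
      · refine (cj_mono inf_le_right).trans ?_
        rw [cj_centralizer]
        have e : h * (h⁻¹ * a * h) * h⁻¹ = a := by group
        rw [e]
      · refine (cj_mono (inf_le_left.trans hT'.le)).trans ?_
        rw [cj_centralizer, hhx, mul_inv_cancel_right]
    · rw [cj_inf, cj_centralizer]
      refine le_inf hUT ?_
      have e : h * (h⁻¹ * a * h) * h⁻¹ = a := by group
      rw [e]
      exact hU.le.trans inf_le_left
  have hno : ∀ E : Subgroup G, E ≤ T' ⊓ centralizer ({h⁻¹ * a * h} : Set G) → (∀ e ∈ E, e * e = 1) →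
      Nat.card ↥E ≠ 16 := by
    intro E hE h2 h16
    refine no_sixteen O (E := cj h E) (hcap ▸ cj_mono hE) ?_ (by rw [card_cj, h16])
    rintro _ ⟨e, he, rfl⟩
    change h * e * h⁻¹ * (h * e * h⁻¹) = 1
    calc h * e * h⁻¹ * (h * e * h⁻¹) = h * (e * e) * h⁻¹ := by group
      _ = 1 := by rw [h2 e he]; group
  have haa' : h⁻¹ * a * h * (h⁻¹ * a * h) = 1 := by
    calc h⁻¹ * a * h * (h⁻¹ * a * h) = h⁻¹ * (a * a) * h := by group
      _ = 1 := by rw [haa]; group
  have ha1' : h⁻¹ * a * h ≠ 1 := by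
    intro h1
    apply ha1
    calc a = h * (h⁻¹ * a * h) * h⁻¹ := by group
      _ = 1 := by rw [h1]; group
  obtain ⟨v', hv', hvv', hv1', hvz'⟩ := O'.exv
  obtain ⟨hE2, hE16⟩ := O'.E16 v' hv' hvv' hv1' hvz'
  have hP'T' : P' ≤ T' := fun p hp => ((hP' p).1 hp).1
  obtain ⟨E', hE'⟩ : ∃ E', E' = closure ({x, φ', z', v'} : Set G) := ⟨_, rfl⟩
  rw [← hE'] at hE2 hE16
  have hE'T : E' ≤ T' := by
    rw [hE', closure_le]
    rintro y (rfl | rfl | rfl | rfl)
    · exact hxT'
    · exact O'.φT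
    · exact hP'T' O'.zP
    · exact hP'T' hv'
  have hxE : x ∈ E' := by rw [hE']; exact subset_closure (by simp)
  have hzE : z' ∈ E' := by rw [hE']; exact subset_closure (by simp)
  have hxT : ∀ t ∈ T', t * x = x * t := fun t ht => comm_c (hT'.le ht)
  rcases O'.inv _ ha'T haa' ha1' with hc | ⟨E, hET, h2, h16, haE, -, -⟩ | ⟨hpw, -⟩
  · -- `a'` is central in `T'`
    have hcen : ∀ t ∈ T', t * (h⁻¹ * a * h) = h⁻¹ * a * h * t := by
      intro t ht
      rcases hc with hc | hc | hc
      · rw [hc]; exact hxT t ht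
      · rw [hc]; exact O'.zT t ht
      · rw [hc]
        have h1 : Commute t x := hxT t ht
        have h2 : Commute t z' := O'.zT t ht
        exact (h1.mul_right h2).eq
    exact hno E' (le_inf hE'T fun e he => mem_c (hcen e (hE'T he))) hE2 hE16
  · exact hno E (le_inf hET fun e he => mem_c (comm_of_sq h2 he haE)) h2 h16
  · -- `z' = h⁻¹ z h`
    have hz' : h * z' * h⁻¹ = z := by
      have hmem : ∀ t ∈ T' ⊓ centralizer ({h⁻¹ * a * h} : Set G), h * t * h⁻¹ ∈
          T ⊓ centralizer ({x} : Set G) := fun t ht => hcap ▸ conj_mem_cj ht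
      rcases le_total k k' with hkk | hkk
      · obtain ⟨t, ht, h1⟩ := hpw.ex
        obtain ⟨m, rfl⟩ := Nat.exists_eq_add_of_le hkk
        have h3 : h * z' * h⁻¹ = ((h * t * h⁻¹) ^ 2 ^ m) ^ 2 ^ k := by
          rw [← pow_mul, ← pow_add, add_comm m k, conj_pow, h1]
        rcases O.pw.all _ (pow_mem (hmem t ht) _) with h4 | h4
        · exfalso
          rw [← h3] at h4
          apply hpw.z1
          calc z' = h⁻¹ * (h * z' * h⁻¹) * h := by group
            _ = 1 := by rw [h4]; group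
        · rw [h3, h4]
      · obtain ⟨t, ht, h1⟩ := O.pw.ex
        obtain ⟨m, rfl⟩ := Nat.exists_eq_add_of_le hkk
        have ht' : h⁻¹ * t * h ∈ T' ⊓ centralizer ({h⁻¹ * a * h} : Set G) := by
          rw [← hcap] at ht
          exact mem_cj.1 ht
        have h3 : h⁻¹ * z * h = ((h⁻¹ * t * h) ^ 2 ^ m) ^ 2 ^ k' := by
          rw [← pow_mul, ← pow_add, add_comm m k', ← h1]
          have e1 : ∀ n : ℕ, (h⁻¹ * t * h) ^ n = h⁻¹ * t ^ n * h := by
            intro n
            have := conj_pow (a := h⁻¹) (b := t) (i := n)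
            rwa [inv_inv] at this
          rw [e1]
        rcases hpw.all _ (pow_mem ht' _) with h4 | h4
        · exfalso
          rw [← h3] at h4
          apply O.pw.z1
          calc z = h * (h⁻¹ * z * h) * h⁻¹ := by group
            _ = 1 := by rw [h4]; group
        · rw [← h4, ← h3]; group
    refine noE FT hAll T₀ LN hPL O K (cj h E') ?_ (by rw [card_cj, hE16]) ?_ ?_
    · rintro _ ⟨e, he, rfl⟩
      change h * e * h⁻¹ * (h * e * h⁻¹) = 1
      calc h * e * h⁻¹ * (h * e * h⁻¹) = h * (e * e) * h⁻¹ := by group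
        _ = 1 := by rw [hE2 e he]; group
    · have h1 := conj_mem_cj (g := h) hxE
      rwa [hhx, mul_inv_cancel_right] at h1
    · have h1 := conj_mem_cj (g := h) hzE
      rwa [hz'] at h1

omit [Finite G] in
/-- `φ ∉ {1, a, z, az}` -/
theorem phi_not {v : G} (haz : Four a z) (h2 : ∀ e ∈ closure ({a, φ, z, v} : Set G), e * e = 1)
    (h16 : Nat.card ↥(closure ({a, φ, z, v} : Set G)) = 16) : φ ∉ haz.sub := by
  intro hφ
  have ha : a ∈ closure ({a, φ, z, v} : Set G) := subset_closure (by simp)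
  have hz : z ∈ closure ({a, φ, z, v} : Set G) := subset_closure (by simp)
  have hv : v ∈ closure ({a, φ, z, v} : Set G) := subset_closure (by simp)
  have hvv := h2 v hv
  have hva := comm_of_sq h2 hv ha
  have hvz := comm_of_sq h2 hv hz
  have h1 : closure ({a, φ, z, v} : Set G) ≤ OddHalf.D6.eight haz hvv hva hvz := by
    rw [closure_le]
    rintro y (rfl | rfl | rfl | rfl)
    · exact OddHalf.D6.eight_mem.1
    · exact Or.inl hφ
    · exact OddHalf.D6.eight_mem.2.1
    · exact OddHalf.D6.eight_mem.2.2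
  have h3 := card_le_of_list (E := closure ({a, φ, z, v} : Set G))
    [1, a, z, a * z, v, a * v, z * v, a * z * v] (fun e he => by
      obtain ⟨w, hw, h | h⟩ := OddHalf.D6.eight_cases (h1 he) <;>
        rcases hw with hw | hw | hw | hw <;> rw [h, hw] <;> simp)
  rw [h16] at h3
  norm_num at h3

/-- **P5-P7** -/
theorem fun_of (FT : OddSol G) (hAll : AllOut G) (nAz : ¬ AT z) (T₀ : IsTriple x a L)
    (LN : centralizer ({a} : Set G) ≤ normalizer (L : Set G)) (hPL : P ≤ L)
    (_hT : IsSyl (centralizer ({a} : Set G)) T)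
    (hU : IsSyl (centralizer ({a} : Set G) ⊓ centralizer ({x} : Set G)) (T ⊓ centralizer ({x} : Set G)))
    (O : Out x a z c i g φ T P k fl) (K : KF x a z c φ L) : ∃ M W, FOut x a z g L M W := by
  obtain ⟨v, hv, hvv, hv1, hvz⟩ := O.exv
  obtain ⟨h2, h16⟩ := O.E16 v hv hvv hv1 hvz
  have ha1 := ne_one_of_order T₀.inva
  have hx1 := ne_one_of_order T₀.invx
  have hxx := sq_of_order T₀.invx
  have hzL : z ∈ L := hPL O.zP
  have haz' : ∀ h : Four a z, φ ∉ h.sub := fun h => phi_not h h2 h16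
  obtain ⟨E, hE⟩ : ∃ E, E = closure ({a, φ, z, v} : Set G) := ⟨_, rfl⟩
  rw [← hE] at h2 h16
  have ha : a ∈ E := by rw [hE]; exact subset_closure (by simp)
  have hφ : φ ∈ E := by rw [hE]; exact subset_closure (by simp)
  have hz : z ∈ E := by rw [hE]; exact subset_closure (by simp)
  have haz : Four a z := ⟨h2 a ha, O.zz, ha1, O.z1, O.naz, comm_of_sq h2 ha hz⟩
  have hφn := haz' haz
  have hφ1 : φ ≠ 1 := fun h => hφn (by rw [h]; exact one_mem _)
  have hφa : φ ≠ a := fun h => hφn (by rw [h]; exact Or.inr (Or.inl rfl))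
  have hφz : φ ≠ z := fun h => hφn (by rw [h]; exact Or.inr (Or.inr (Or.inl rfl)))
  have hφaz : φ ≠ a * z := fun h => hφn (by rw [h]; exact Or.inr (Or.inr (Or.inr rfl)))
  have haφ : Four a φ := ⟨h2 a ha, h2 φ hφ, ha1, hφ1, hφa.symm, comm_of_sq h2 ha hφ⟩
  have hφz1 : φ * z ≠ 1 := fun h => hφz (by
    rw [eq_inv_of_mul_eq_one_left h, inv_eq_of_mul_eq_one_left O.zz])
  have haφz : Four a (φ * z) := by
    refine ⟨h2 a ha, h2 _ (E.mul_mem hφ hz), ha1, hφz1, ?_, comm_of_sq h2 ha (E.mul_mem hφ hz)⟩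
    intro h
    apply hφaz
    rw [h, mul_assoc, O.zz, mul_one]
  obtain ⟨hWodd, hWO⟩ := WE_spec FT hAll h2 h16
  have hcent : ∀ {s t : G}, Four s t → s ∈ E → t ∈ E → ∀ {n : G}, n * s = s * n → n * t = t * n →
      n ∈ normalizer (W E : Set G) := fun hst hs ht _ hn hn' => cent_le FT hAll h2 h16 hst hs ht hn hn'
  have hOM : ∀ {s : G}, s ∈ E → s ≠ 1 → Oc s ≤ normalizer (W E : Set G) := fun hs hs1 =>
    (le_W hs hs1).trans le_normalizer
  have hLa : ∀ l ∈ L, l * a = a * l := fun l hl => comm_c (T₀.comp.le hl)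
  have hcoreL : core L ≤ normalizer (W E : Set G) :=
    (T₀.comp.core_le_core).trans (hOM ha ha1)
  have hLM : L ≤ normalizer (W E : Set G) := by
    refine K.genf _ hcoreL ?_ ?_ ?_
    · intro l hl h
      exact hcent haφ ha hφ (hLa l hl) h
    · intro l hl h
      exact hcent haz ha hz (hLa l hl) h
    · intro l hl h
      exact hcent haφz ha (E.mul_mem hφ hz) (hLa l hl) h
  have hazM : centralizer ({a} : Set G) ⊓ centralizer ({z} : Set G) ≤ normalizer (W E : Set G) :=
    fun n hn => hcent haz ha hz (comm_c hn.1) (comm_c hn.2)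
  -- `g ∈ M`
  have hFE : haz.sub ≤ E := by
    rintro f (rfl | rfl | rfl | rfl)
    · exact one_mem _
    · exact ha
    · exact hz
    · exact E.mul_mem ha hz
  have hWF : W E = W haz.sub := W_eq_of FT hAll h2 h16 hFE (by rw [OddHalf.D6.four_card])
  have hgM : g ∈ normalizer (W E : Set G) := by
    rw [hWF]
    apply Cfsg.Agent.Intrinsic.Functor.normalizer_le
    rw [mem_normalizer_iff_cj]
    have h1 : cj g haz.sub ≤ haz.sub := by
      have e1 : g * (a * z) * g⁻¹ = a := by
        calc g * (a * z) * g⁻¹ = (g * a * g⁻¹) * (g * z * g⁻¹) := by group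
          _ = a * z * z := by rw [O.ga, O.gz]
          _ = a := by rw [mul_assoc, O.zz, mul_one]
      rintro _ ⟨f, hf, rfl⟩
      change g * f * g⁻¹ ∈ _
      rcases hf with rfl | rfl | rfl | rfl
      · rw [mul_one, mul_inv_cancel]; exact one_mem _
      · rw [O.ga]; exact Or.inr (Or.inr (Or.inr rfl))
      · rw [O.gz]; exact Or.inr (Or.inr (Or.inl rfl))
      · rw [e1]; exact Or.inr (Or.inl rfl)
    exact Subgroup.eq_of_le_of_card_ge h1 (by rw [card_cj])
  have hzx : z * x = x * z := by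
    have h1 : z * x * z⁻¹ = x := by
      have h2 : c * z * c⁻¹ = z := by rw [← O.cc]; group
      calc z * x * z⁻¹ = c * (c * x * c⁻¹) * c⁻¹ := by rw [← O.cc]; group
        _ = c * (x * z) * c⁻¹ := by rw [O.cx]
        _ = (c * x * c⁻¹) * (c * z * c⁻¹) := by group
        _ = x * (z * z) := by rw [O.cx, h2]; group
        _ = x := by rw [O.zz, mul_one]
    exact comm_of_conj h1
  have haza : (a * z) * x = x * (a * z) := by
    rw [mul_assoc, hzx, ← mul_assoc, T₀.comm, mul_assoc]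
  have hzN : ∀ t : G, z * t = t * z → ∀ n ∈ Oc x ⊓ centralizer ({t} : Set G),
      z * n * z⁻¹ ∈ Oc x ⊓ centralizer ({t} : Set G) := by
    intro t ht n hn
    refine ⟨conj_Oc hzx hn.1, ?_⟩
    have h1 : z ∈ centralizer ({t} : Set G) := mem_c ht
    exact (centralizer ({t} : Set G)).mul_mem ((centralizer ({t} : Set G)).mul_mem h1 hn.2)
      ((centralizer ({t} : Set G)).inv_mem h1)
  have hNodd : ∀ t : G, Odd (Nat.card ↥(Oc x ⊓ centralizer ({t} : Set G) : Subgroup G)) := fun t =>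
    (odd_card_core (centralizer ({x} : Set G))).of_dvd_nat (card_dvd_of_le inf_le_left)
  have hOx : Oc x ≤ normalizer (W E : Set G) := by
    refine Cfsg.Agent.Intrinsic.Functor.gen_le (F := haz.sub)
      (fun s hs t ht => comm_of_sq h2 (hFE hs) (hFE ht)) (fun s hs => h2 s (hFE hs))
      (by rw [OddHalf.D6.four_card]) (odd_card_core _) ?_ ?_
    · intro f hf
      rw [mem_normalizer_iff_cj]
      have h1 : f * x = x * f :=
        (OddHalf.D6.four_comm haz T₀.comm.symm hzx.symm hf).symm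
      rw [← Oc_cj, h1, mul_inv_cancel_right]
    · rintro f (rfl | rfl | rfl | rfl) hf1
      · exact absurd rfl hf1
      · refine le_of_inverted (hNodd f) O.zz (hzN f haz.comm.symm) hzL
          (inf_le_right.trans LN) hLM ?_
        intro n hn hnz
        exact hazM ⟨hn.2, mem_c hnz⟩
      · exact (bal hxx hx1 O.zz O.z1 hzx.symm nAz).trans (hOM hz O.z1)
      · refine le_of_inverted (L := cj g L) (hNodd (a * z)) O.zz (hzN (a * z) ?_) ?_ ?_ ?_ ?_
        · exact comm_of_sq h2 hz (E.mul_mem ha hz)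
        · have h1 := conj_mem_cj (g := g) hzL
          rwa [O.gz] at h1
        · refine inf_le_right.trans ?_
          intro n hn
          have h3 : g⁻¹ * n * g ∈ normalizer (L : Set G) := by
            apply LN
            rw [← mem_cj, cj_centralizer, O.ga]
            exact hn
          rw [mem_normalizer_iff_cj] at h3 ⊢
          rw [← cj_mul]
          have e1 : n * g = g * (g⁻¹ * n * g) := by group
          rw [e1, cj_mul, h3]
        · have h1 := cj_mono (g := g) hLM
          rwa [mem_normalizer_iff_cj.1 (le_normalizer hgM)] at h1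
        · intro n hn hnz
          refine hazM ⟨?_, mem_c hnz⟩
          have h1 : Commute n (a * z) := comm_c hn.2
          have h3 : Commute n z := hnz
          have h4 := h1.mul_right h3
          rw [mul_assoc, O.zz, mul_one] at h4
          exact mem_c h4.eq
  refine ⟨normalizer (W E : Set G), W E, ?_⟩
  exact
    { Wodd := hWodd
      MW := rfl
      WO := by
        rintro u (rfl | rfl | rfl)
        · exact hWO _ ha ha1
        · exact hWO _ hz O.z1
        · refine hWO _ (E.mul_mem ha hz) fun h => O.naz ?_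
          rw [eq_inv_of_mul_eq_one_left h, inv_eq_of_mul_eq_one_left O.zz]
      azM := hazM
      LM := hLM
      OxM := hOx
      gM := hgM
      J1 := J1 T₀ LN hPL O K
      noE := noE FT hAll T₀ LN hPL O K
      nAx := nAx FT hAll T₀ LN hPL hU O K }

end main

end Cfsg.Agent.UGT.PQ.Fun
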