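import Cfsg.Agent.UGT.PQ.FunDefs
import Cfsg.Agent.Intrinsic.Functor
import Cfsg.Agent.OddHalf.D6.FieldInv
import Cfsg.Agent.Lib.KleinGen

/-!
# (Q2), P5: the functor on elementary abelian groups of order 16 (helper285)

* `no_triple_in`: no triple `(u, t, J)` has `u, t` in an elementary abelian group of order 16;
* `WE_spec`: `W E` is odd and `W E ∩ C(u) = O(C(u))`, `u ∈ E#`;
* `W_le_of`, `W_eq_of`: `W E = W F` for `F ≤ E`, `|F| ≥ 4`.
-/

set_option autoImplicit false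
set_option linter.unusedSectionVars false

open Cfsg Subgroup
open Cfsg.Agent.SignalizersComponents Cfsg.Agent.Lib
open Cfsg.Agent.SignalizersComponents.IntrinsicBasic
open Cfsg.Agent.Intrinsic.Basic Cfsg.Agent.Intrinsic.Cen
open Cfsg.Agent.Intrinsic.Functor (W le_W W_le OddSol)
open Cfsg.Agent.UGT.Triple Cfsg.Agent.UGT.TriBase
open Cfsg.Agent.UGT.PQ.Defs Cfsg.Agent.UGT.PQ.SylDefs Cfsg.Agent.UGT.PQ.FunDefs
open Cfsg.Agent.GH.L2Aut (Four)

namespace Cfsg.Agent.UGT.PQ.Fun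

universe u

variable {G : Type u} [Group G]

theorem comm_of_sq {E : Subgroup G} (h : ∀ e ∈ E, e * e = 1) {a b : G} (ha : a ∈ E) (hb : b ∈ E) :
    a * b = b * a := by
  have h1 := h _ (E.mul_mem ha hb)
  have h2 : a⁻¹ = a := inv_eq_of_mul_eq_one_left (h a ha)
  have h3 : b⁻¹ = b := inv_eq_of_mul_eq_one_left (h b hb)
  calc a * b = (a * b)⁻¹ := (inv_eq_of_mul_eq_one_left h1).symm
    _ = b⁻¹ * a⁻¹ := mul_inv_rev a b
    _ = b * a := by rw [h2, h3]

theorem isPGroup_of_sq' {E : Subgroup G} (h : ∀ e ∈ E, e * e = 1) : IsPGroup 2 ↥E := by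
  rintro ⟨e, he⟩
  exact ⟨1, Subtype.ext (by change e ^ 2 ^ 1 = 1; rw [pow_one, sq]; exact h e he)⟩

theorem card_le_of_list {E : Subgroup G} (l : List G) (h : ∀ e ∈ E, e ∈ l) :
    Nat.card ↥E ≤ l.length := by
  classical
  have h1 : Nat.card ↥E ≤ Nat.card ↥(l.toFinset : Finset G) :=
    Nat.card_le_card_of_injective (fun e : ↥E => (⟨e, List.mem_toFinset.2 (h e e.2)⟩ : l.toFinset))
      (fun a b hab => Subtype.ext (congrArg (fun y : ↥(l.toFinset : Finset G) => (y : G)) hab))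
  rw [Nat.card_eq_fintype_card (α := ↥(l.toFinset : Finset G)), Fintype.card_coe] at h1
  exact h1.trans (List.toFinset_card_le l)

/-- `T ∩ C(x)` contains no elementary abelian group of order 16 -/
theorem no_sixteen {A : Type*} [Group A] {x a z c i g φ : G} {T P : Subgroup G} {k : ℕ} {fl : ↥T →* A}
    (O : Out x a z c i g φ T P k fl) {E : Subgroup G} (hE : E ≤ T ⊓ centralizer ({x} : Set G))
    (h2 : ∀ e ∈ E, e * e = 1) : Nat.card ↥E ≠ 16 := by
  intro h16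
  have h1 := card_le_of_list (E := E) [1, a, x, z, a * x, a * z, x * z, a * x * z] (fun e he => by
    rcases O.Ui e (hE he) (h2 e he) with h | h | h | h | h | h | h | h <;> simp [h])
  rw [h16] at h1
  norm_num at h1

variable [Finite G]

theorem no_triple_in (hAll : AllOut G) {E : Subgroup G} (h2 : ∀ e ∈ E, e * e = 1)
    (h16 : Nat.card ↥E = 16) {u t : G} (hu : u ∈ E) (ht : t ∈ E) {J : Subgroup G} (hT : IsTriple u t J) :
    False := by
  obtain ⟨A, iA, T, P, fl, z, c, i, g, φ, k, -, hU, -, -, -, O⟩ := hAll u t J hT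
  obtain ⟨y, -, hy⟩ := hU.conj (isPGroup_of_sq' h2)
    (le_inf (fun e he => mem_c (comm_of_sq h2 he ht)) (fun e he => mem_c (comm_of_sq h2 he hu)))
  have h3 : cj y⁻¹ E ≤ T ⊓ centralizer ({u} : Set G) := by
    rw [← cj_inv_cj y (T ⊓ centralizer ({u} : Set G))]
    exact cj_mono hy
  refine no_sixteen O h3 ?_ (by rw [card_cj, h16])
  rintro _ ⟨e, he, rfl⟩
  change y⁻¹ * e * y⁻¹⁻¹ * (y⁻¹ * e * y⁻¹⁻¹) = 1
  have h4 := h2 e he
  calc y⁻¹ * e * y⁻¹⁻¹ * (y⁻¹ * e * y⁻¹⁻¹) = y⁻¹ * (e * e) * y := by group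
    _ = 1 := by rw [h4]; group

theorem bal_in (hAll : AllOut G) {E : Subgroup G} (h2 : ∀ e ∈ E, e * e = 1)
    (h16 : Nat.card ↥E = 16) {u t : G} (hu : u ∈ E) (hu1 : u ≠ 1) (ht : t ∈ E) (ht1 : t ≠ 1) :
    Oc u ⊓ centralizer ({t} : Set G) ≤ Oc t := by
  rintro y ⟨hy, hyt⟩
  by_contra h
  obtain ⟨J, hJ, -⟩ := Cfsg.Agent.UGT.Res.Base.exists_triple (order_two (h2 u hu) hu1)
    (order_two (h2 t ht) ht1) (comm_of_sq h2 ht hu) hy hyt h
  exact no_triple_in hAll h2 h16 hu ht hJ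

theorem WE_spec (FT : OddSol G) (hAll : AllOut G) {E : Subgroup G} (h2 : ∀ e ∈ E, e * e = 1)
    (h16 : Nat.card ↥E = 16) :
    Odd (Nat.card ↥(W E)) ∧ ∀ a ∈ E, a ≠ 1 → W E ⊓ centralizer ({a} : Set G) = Oc a :=
  Cfsg.Agent.Intrinsic.Functor.closure_of_rank FT (fun a ha b hb => comm_of_sq h2 ha hb)
    (fun a ha => by rw [sq]; exact h2 a ha) (by rw [h16]; norm_num)
    (fun a ha ha1 b hb hb1 => bal_in hAll h2 h16 ha ha1 hb hb1)

theorem W_le_of (FT : OddSol G) (hAll : AllOut G) {E F : Subgroup G} (h2 : ∀ e ∈ E, e * e = 1)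
    (h16 : Nat.card ↥E = 16) (hF : F ≤ E) (h4 : 4 ≤ Nat.card ↥F) {H : Subgroup G}
    (h : ∀ f ∈ F, f ≠ 1 → Oc f ≤ H) : W E ≤ H := by
  obtain ⟨h1, h3⟩ := WE_spec FT hAll h2 h16
  refine Cfsg.Agent.Intrinsic.Functor.gen_le (F := F) (fun a ha b hb => comm_of_sq h2 (hF ha) (hF hb))
    (fun a ha => h2 a (hF ha)) h4 h1 ?_ ?_
  · exact (hF.trans le_normalizer).trans (Cfsg.Agent.Intrinsic.Functor.normalizer_le E)
  · intro f hf hf1
    rw [h3 f (hF hf) hf1]
    exact h f hf hf1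

theorem W_eq_of (FT : OddSol G) (hAll : AllOut G) {E F : Subgroup G} (h2 : ∀ e ∈ E, e * e = 1)
    (h16 : Nat.card ↥E = 16) (hF : F ≤ E) (h4 : 4 ≤ Nat.card ↥F) : W E = W F :=
  le_antisymm (W_le_of FT hAll h2 h16 hF h4 fun _ hf hf1 => le_W hf hf1)
    (W_le fun _ hf hf1 => le_W (hF hf) hf1)

theorem centralizer_le_normalizer (F : Subgroup G) :
    centralizer (F : Set G) ≤ normalizer (F : Set G) := Subgroup.centralizer_le_normalizer _

/-- the centralizer of two independent involutions of `E` normalizes `W E` -/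
theorem cent_le (FT : OddSol G) (hAll : AllOut G) {E : Subgroup G} (h2 : ∀ e ∈ E, e * e = 1)
    (h16 : Nat.card ↥E = 16) {s t : G} (hst : Four s t) (hs : s ∈ E) (ht : t ∈ E) {n : G}
    (hn : n * s = s * n) (hn' : n * t = t * n) : n ∈ normalizer (W E : Set G) := by
  have hF : hst.sub ≤ E := by
    rintro f (rfl | rfl | rfl | rfl)
    · exact one_mem _
    · exact hs
    · exact ht
    · exact mul_mem hs ht
  rw [W_eq_of FT hAll h2 h16 hF (by rw [OddHalf.D6.four_card])]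
  apply Cfsg.Agent.Intrinsic.Functor.normalizer_le
  apply centralizer_le_normalizer
  rw [mem_centralizer_iff]
  intro f hf
  exact (OddHalf.D6.four_comm hst hn hn' hf).symm

end Cfsg.Agent.UGT.PQ.Fun
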