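import Cfsg.Agent.UGT.PQ.SylDefs

/-!
# (Q2), P5-P7: the functor level

* `KF x a z c φ L`: the facts on `L / O(L)`, `x` of PGL type.
* `AllOut G`: every triple has `SylDefs.Out`.
* `FOut x a z g L M W`: the output of P5-P7.

**Theorem wanted** (`fun_of`, file `Fun.lean`): `FT`, `AllOut G`, `¬ AT z`, `IsTriple x a L`, `C(a) ≤ N(L)`, `P ≤ L`,
`IsSyl (C(a)) T`, `IsSyl (C(a) ⊓ C(x)) (T ⊓ C(x))`, `Out x a z c i g φ T P k fl`, `KF x a z c φ L` imply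
`∃ M W, FOut x a z g L M W`.
-/

set_option autoImplicit false

open Cfsg Subgroup
open Cfsg.Agent.SignalizersComponents Cfsg.Agent.Lib
open Cfsg.Agent.SignalizersComponents.IntrinsicBasic
open Cfsg.Agent.Intrinsic.Basic Cfsg.Agent.Intrinsic.Cen
open Cfsg.Agent.McLLyComp.Act
open Cfsg.Agent.UGT.Triple Cfsg.Agent.UGT.TriBase
open Cfsg.Agent.UGT.PQ.Defs Cfsg.Agent.UGT.PQ.SylDefs
open scoped commutatorElement

namespace Cfsg.Agent.UGT.PQ.FunDefs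

variable {G : Type*} [Group G]

/-- facts on `L / O(L)` -/
structure KF (x a z c φ : G) (L : Subgroup G) : Prop where
  simp : IsSimpleGroup (↥L ⧸ oddCore ↥L)
  nab : ¬ ∀ u v : ↥L ⧸ oddCore ↥L, u * v = v * u
  nfz : ¬ Fixes z L
  YL : ¬ YY x a z ≤ core L
  Yodd : ∀ R : Subgroup G, R ≤ L → Odd (Nat.card ↥R) → c ∈ normalizer (R : Set G) →
    YY x a z ≤ normalizer (R : Set G) → R ≤ core L
  two : ∀ t : G, t * a = a * t → t * x = x * t → (∃ n : ℕ, t ^ 2 ^ n = 1) →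
    (∀ y ∈ YY x a z, ⁅t, y⁆ ∈ core L ∧ ⁅t, c * y * c⁻¹⁆ ∈ core L) → t = 1 ∨ t = a
  gen : ∀ H : Subgroup G, core L ≤ H → (∀ w ∈ L, w * x = x * w → ⁅w, z⁆ ∈ H) →
    (∀ w ∈ L, w * (x * z) = x * z * w → ⁅w, z⁆ ∈ H) → L ≤ H
  /-- `L` is generated by the centralizers of `φ`, `z`, `φ z` -/
  genf : ∀ H : Subgroup G, core L ≤ H → (∀ l ∈ L, l * φ = φ * l → l ∈ H) →
    (∀ l ∈ L, l * z = z * l → l ∈ H) → (∀ l ∈ L, l * (φ * z) = φ * z * l → l ∈ H) → L ≤ H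

/-- every triple has `Out` -/
def AllOut (G : Type*) [Group G] : Prop := ∀ (u t : G) (J : Subgroup G), IsTriple u t J →
  ∃ (A : Type) (_ : Group A) (T P : Subgroup G) (fl : ↥T →* A) (z c i g φ : G) (k : ℕ),
    IsSyl (centralizer ({t} : Set G)) T ∧
    IsSyl (centralizer ({t} : Set G) ⊓ centralizer ({u} : Set G)) (T ⊓ centralizer ({u} : Set G)) ∧
    u ∈ T ∧ t ∈ T ∧ (∀ p, p ∈ P ↔ p ∈ T ∧ p ∈ J) ∧ Out u t z c i g φ T P k fl

/-- output of P5-P7 -/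
structure FOut (x a z g : G) (L M W : Subgroup G) : Prop where
  Wodd : Odd (Nat.card ↥W)
  MW : M = normalizer (W : Set G)
  WO : ∀ u : G, u = a ∨ u = z ∨ u = a * z → W ⊓ centralizer ({u} : Set G) = Oc u
  azM : centralizer ({a} : Set G) ⊓ centralizer ({z} : Set G) ≤ M
  LM : L ≤ M
  OxM : Oc x ≤ M
  gM : g ∈ M
  J1 : ∀ R : Subgroup G, Odd (Nat.card ↥R) → Oc x ≤ R → ¬ Oc (x * z) ≤ R
  noE : ∀ E : Subgroup G, (∀ e ∈ E, e * e = 1) → Nat.card ↥E = 16 → x ∈ E → z ∉ E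
  nAx : ¬ AT x

end Cfsg.Agent.UGT.PQ.FunDefs
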