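import Cfsg.Agent.UGT.PQ.FusTools

/-!
# (Q2), P14: `x^G ∩ C(x)` is `{x} ∪ (xz)^{C(x)}`
-/

set_option autoImplicit false

open Cfsg Subgroup
open Cfsg.Agent.SignalizersComponents Cfsg.Agent.Lib
open Cfsg.Agent.SignalizersComponents.IntrinsicBasic
open Cfsg.Agent.Intrinsic.Basic Cfsg.Agent.Intrinsic.Cen
open Cfsg.Agent.Lib.KleinGen
open Cfsg.Agent.UGT.Triple Cfsg.Agent.UGT.TriBase
open Cfsg.Agent.UGT.PQ.Defs Cfsg.Agent.UGT.PQ.GT Cfsg.Agent.UGT.PQ.Quo Cfsg.Agent.UGT.PQ.CQ
open Cfsg.Agent.UGT.PQ.FusT Cfsg.Agent.UGT.PQ.Split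
open scoped commutatorElement

namespace Cfsg.Agent.UGT.PQ

variable {G : Type*} [Group G] [Finite G] {x a z c i g h : G} {L P U M W : Subgroup G}

section step4

variable (C : Conf x a z c i g L P U M W) (Γ : Gam x a z c h L U M W)

include C Γ

/-- `⟨x, z⟩ = ⟨x, z⟩^y`-type elements: `z^y = z` -/
theorem zy_eq {y : G} (h1 : (y * x * y⁻¹) * x = x * (y * x * y⁻¹)) (h2 : (y * x * y⁻¹) * z = z * (y * x * y⁻¹))
    (h3 : (y * z * y⁻¹) * x = x * (y * z * y⁻¹)) (h4 : (y * z * y⁻¹) * z = z * (y * z * y⁻¹)) :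
    y * z * y⁻¹ = z := by
  have hy := gen_GA C h1 h2 h3 h4
  obtain ⟨s, hs⟩ : ∃ s, s = y * z * y⁻¹ := ⟨_, rfl⟩
  rw [← hs] at h3 h4 ⊢
  have ss : s * s = 1 := by rw [hs]; exact sq_conj C.zz
  have s1 : s ≠ 1 := by rw [hs]; exact ne_one_conj C.z1
  have hAs : ¬ AT s := by rw [hs]; exact not_AT_conj C.nAz y
  have hsN : s ∈ normalizer (GA x z : Set G) := GA_norm h3 h4
  have hOs : Oc s ≤ core (GA x z) := by
    rw [hs, ← cj_Oc]
    have e : core (GA x z) = cj y (core (GA x z)) := by rw [← core_cj, hy]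
    rw [e]
    exact cj_mono Γ.Ozle
  have h5 : s * (x * z) = x * z * s := by rw [← mul_assoc, h3, mul_assoc, h4, ← mul_assoc]
  have i1 := inv_of ss s1 C.xx C.x1 h3 hAs hOs hsN (Oc_le_GA x z)
  have i2 := inv_of ss s1 (xzxz C) (xz1 C) h5 hAs hOs hsN (Oc'_le_GA x z)
  have j1 := inv_x C Γ
  have j2 := inv_xz C Γ
  have hzs : z * s = 1 := by
    refine ker_q Γ ?_ ?_ ⟨1, ?_⟩ ?_
    · rw [mul_assoc, h3, ← mul_assoc, ← C.xz, mul_assoc]
    · rw [mul_assoc, h4]
    · rw [pow_one, pow_two]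
      have e1 : z * (z * s) = s := by rw [← mul_assoc, C.zz, one_mul]
      calc (z * s) * (z * s) = z * (s * z) * s := by group
        _ = 1 := by rw [h4, e1, ss]
    · rw [im_GA Γ]
      have key : ∀ v ∈ im (GA x z) (Oc x) ⊔ im (GA x z) (Oc (x * z)),
          v * q (GA x z) (z * s) = q (GA x z) (z * s) * v := by
        refine sup_comm_of ?_ ?_
        · intro v hv
          rw [q_mul (z_norm C) hsN]
          have k1 := i1 v hv
          have k2 := j1 _ (inv_mem hv)
          rw [inv_inv] at k2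
          have k3 : q (GA x z) z * q (GA x z) s * v * (q (GA x z) z * q (GA x z) s)⁻¹ = v := by
            calc _ = q (GA x z) z * (q (GA x z) s * v * (q (GA x z) s)⁻¹) * (q (GA x z) z)⁻¹ := by group
              _ = v := by rw [k1, k2]
          exact (mul_inv_eq_iff_eq_mul.mp k3).symm
        · intro v hv
          rw [q_mul (z_norm C) hsN]
          have k1 := i2 v hv
          have k2 := j2 _ (inv_mem hv)
          rw [inv_inv] at k2
          have k3 : q (GA x z) z * q (GA x z) s * v * (q (GA x z) z * q (GA x z) s)⁻¹ = v := by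
            calc _ = q (GA x z) z * (q (GA x z) s * v * (q (GA x z) s)⁻¹) * (q (GA x z) z)⁻¹ := by group
              _ = v := by rw [k1, k2]
          exact (mul_inv_eq_iff_eq_mul.mp k3).symm
      exact fun v hv => (key v hv).symm
  have h6 := eq_inv_of_mul_eq_one_right hzs
  rw [h6, inv_self C.zz]

end step4

section main

variable (C : Conf x a z c i g L P U M W) (Γ : Gam x a z c h L U M W)

include C Γ

/-- the splitting for `t = x^y`, `z^y = z`, `t` commuting with `x` -/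
theorem spl_of {N : Subgroup G} (hN : N = GA x z) {y t : G} (ht : y * x * y⁻¹ = t) (hz : y * z * y⁻¹ = z)
    (tx : t * x = x * t) (tz : t * z = z * t) :
    Spl (q N x) (q N z) (q N t) (im N (Oc x)) (im N (Oc (x * z))) (im N (Oc t)) (im N (Oc (t * z))) := by
  subst hN
  have tt : t * t = 1 := by rw [← ht]; exact sq_conj C.xx
  have t1 : t ≠ 1 := by rw [← ht]; exact ne_one_conj C.x1
  have hAt : ¬ AT t := by rw [← ht]; exact not_AT_conj C.nAx y
  have e1 : t * z = y * (x * z) * y⁻¹ := by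
    rw [← ht]
    nth_rw 1 [← hz]
    group
  have tztz : (t * z) * (t * z) = 1 := by rw [e1]; exact sq_conj (xzxz C)
  have tz1 : t * z ≠ 1 := by rw [e1]; exact ne_one_conj (xz1 C)
  have hAtz : ¬ AT (t * z) := by rw [e1]; exact not_AT_conj (nAxz C) y
  have xN := x_norm C
  have zN := z_norm C
  have tN : t ∈ normalizer (GA x z : Set G) := GA_norm tx tz
  have t_xz : t * (x * z) = x * z * t := by rw [← mul_assoc, tx, mul_assoc, tz, ← mul_assoc]
  have tz_x : t * z * x = x * (t * z) := by rw [mul_assoc, ← C.xz, ← mul_assoc, tx, mul_assoc]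
  have tz_z : t * z * z = z * (t * z) := by rw [← mul_assoc, ← tz]
  have tz_xz : t * z * (x * z) = x * z * (t * z) := by
    rw [← mul_assoc, tz_x, mul_assoc, tz_z, ← mul_assoc]
  have hOt : Oc t ≤ GA x z := gen_le C tt t1 tx tz
  have hOtz : Oc (t * z) ≤ GA x z := gen_le C tztz tz1 tz_x tz_z
  have zz' : q (GA x z) z * q (GA x z) z = 1 := by rw [← q_mul zN zN, C.zz, q_one]
  have cross : ∀ {u v : G}, u * u = 1 → u ≠ 1 → v * v = 1 → v ≠ 1 → v * u = u * v → v ∈ normalizer (GA x z : Set G) →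
      ¬ AT v → Oc u ≤ GA x z → Oc v ≤ GA x z → ∀ b ∈ im (GA x z) (Oc u), b * q (GA x z) v = q (GA x z) v * b →
      b ∈ im (GA x z) (Oc v) := by
    intro u v uu u1 vv v1 vu vN hv hu hvN b hb hbv
    obtain ⟨w, hw, hwv, rfl⟩ := lift_fixed (hu.trans le_normalizer) (odd_card_core _) vv vN
      (fun a ha => oc_norm vu ha) hb hbv.symm
    exact q_mem_im (hvN.trans le_normalizer) (bal uu u1 vv v1 vu.symm hv (mem_inf.mpr ⟨hw, mem_cen.mpr hwv⟩))
  have conjin : ∀ {u v : G}, v * u = u * v → v ∈ normalizer (GA x z : Set G) → Oc u ≤ GA x z →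
      ∀ b ∈ im (GA x z) (Oc u), q (GA x z) v * b * (q (GA x z) v)⁻¹ ∈ im (GA x z) (Oc u) := by
    intro u v vu vN hu b hb
    obtain ⟨w, hw, rfl⟩ := (mem_im (hu.trans le_normalizer)).mp hb
    rw [← q_conj vN (le_normalizer (hu hw))]
    exact q_mem_im (hu.trans le_normalizer) (oc_norm vu hw)
  exact
    { zz := zz'
      tt := by rw [← q_mul tN tN, tt, q_one]
      tz := by rw [← q_mul tN zN, tz, q_mul zN tN]
      oA := odd_im Ox_norm (odd_card_core _)
      oA' := odd_im Ox'_norm (odd_card_core _)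
      xA := by
        intro b hb
        obtain ⟨w, hw, rfl⟩ := (mem_im Ox_norm).mp hb
        rw [← q_mul xN (Ox_norm hw), ← oc_comm hw, q_mul (Ox_norm hw) xN]
      xA' := by
        intro b hb
        obtain ⟨w, hw, rfl⟩ := (mem_im Ox'_norm).mp hb
        rw [← q_mul xN zN, ← q_mul (mul_mem xN zN) (Ox'_norm hw), ← oc_comm hw, q_mul (Ox'_norm hw) (mul_mem xN zN)]
      tA := conjin tx tN (Oc_le_GA x z)
      tA' := conjin t_xz tN (Oc'_le_GA x z)
      zA := inv_x C Γ
      zA' := inv_xz C Γ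
      zB := inv_of C.zz C.z1 tt t1 tz.symm C.nAz Γ.Ozle zN hOt
      zB' := inv_of C.zz C.z1 tztz tz1 tz_z.symm C.nAz Γ.Ozle zN hOtz
      AB := cross C.xx C.x1 tt t1 tx tN hAt (Oc_le_GA x z) hOt
      AB' := by
        intro b hb hc
        rw [← q_mul tN zN] at hc
        exact cross C.xx C.x1 tztz tz1 tz_x (mul_mem tN zN) hAtz (Oc_le_GA x z) hOtz b hb hc
      A'B := cross (xzxz C) (xz1 C) tt t1 t_xz tN hAt (Oc'_le_GA x z) hOt
      A'B' := by
        intro b hb hc
        rw [← q_mul tN zN] at hc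
        exact cross (xzxz C) (xz1 C) tztz tz1 tz_xz (mul_mem tN zN) hAtz (Oc'_le_GA x z) hOtz b hb hc }

/-- P14 for `t = x^y`, `z^y = z`, `t` commuting with `x` -/
theorem good_of {y t : G} (ht : y * x * y⁻¹ = t) (hz : y * z * y⁻¹ = z) (tx : t * x = x * t) (tz : t * z = z * t) :
    t = x ∨ t = x * z := by
  classical
  obtain ⟨N, hN⟩ : ∃ N, N = GA x z := ⟨_, rfl⟩
  have S := spl_of C Γ hN ht hz tx tz
  have tt : t * t = 1 := by rw [← ht]; exact sq_conj C.xx
  have t1 : t ≠ 1 := by rw [← ht]; exact ne_one_conj C.x1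
  have xN : x ∈ normalizer (N : Set G) := hN ▸ x_norm C
  have zN : z ∈ normalizer (N : Set G) := hN ▸ z_norm C
  have tN : t ∈ normalizer (N : Set G) := hN ▸ GA_norm tx tz
  have ker : ∀ {r : G}, r * x = x * r → r * z = z * r → (∃ n : ℕ, r ^ 2 ^ n = 1) →
      (∀ v ∈ im N N, q N r * v = v * q N r) → r = 1 := by
    subst hN
    exact ker_q Γ
  have hgen : im N N = im N (Oc x) ⊔ im N (Oc (x * z)) := by
    subst hN
    exact im_GA Γ
  set K₁ := k1 (q N t) (q N z) (im N (Oc x)) (im N (Oc (x * z))) with hK₁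
  set K₂ := k2 (q N t) (q N z) (im N (Oc x)) (im N (Oc (x * z))) with hK₂
  have hsup : K₁ ⊔ K₂ = im N N := by rw [hgen]; exact S.sup_eq
  have hcomm : ∀ u ∈ K₁, ∀ v ∈ K₂, u * v = v * u := S.comm
  have xt2 : (x * t) * (x * t) = 1 := by
    have e : (x * t) * (x * t) = x * (t * x) * t := by group
    rw [e, tx, ← mul_assoc, C.xx, one_mul, tt]
  have xtz2 : (x * t * z) * (x * t * z) = 1 := by
    have e : (x * t * z) * (x * t * z) = x * (t * z) * x * (t * z) := by group
    have e2 : x * (t * z) * x * (t * z) = (x * t * z) * (x * t * z) := by group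
    have e3 : x * t * z * x = x * x * (t * z) := by
      rw [mul_assoc (x * t), ← C.xz, ← mul_assoc, mul_assoc x t x, tx]
      group
    calc (x * t * z) * (x * t * z) = (x * t * z * x) * (t * z) := by group
      _ = (t * z) * (t * z) := by rw [e3, C.xx, one_mul]
      _ = t * (z * t) * z := by group
      _ = (t * t) * (z * z) := by rw [← tz]; group
      _ = 1 := by rw [tt, C.zz, one_mul]
  have xt_x : (x * t) * x = x * (x * t) := by rw [mul_assoc, tx]
  have xt_z : (x * t) * z = z * (x * t) := by rw [mul_assoc, tz, ← mul_assoc, C.xz, mul_assoc]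
  have xtz_x : (x * t * z) * x = x * (x * t * z) := by
    rw [mul_assoc, ← C.xz, ← mul_assoc, xt_x, mul_assoc, mul_assoc]
  have xtz_z : (x * t * z) * z = z * (x * t * z) := by rw [xt_z, mul_assoc, xt_z]
  have qxt : q N (x * t) = q N x * q N t := q_mul xN tN
  have qxtz : q N (x * t * z) = q N x * q N t * q N z := by rw [q_mul (mul_mem xN tN) zN, qxt]
  -- the cases `K₂ = 1`, `K₁ = 1`
  by_cases hK2 : K₂ = ⊥
  · left
    have h1 : x * t = 1 := by
      refine ker xt_x xt_z ⟨1, by rw [pow_one, pow_two, xt2]⟩ ?_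
      rw [← hsup, hK2, sup_bot_eq, qxt]
      exact fun v hv => (S.xt_k1 v hv).symm
    rw [eq_inv_of_mul_eq_one_right h1, inv_self C.xx]
  by_cases hK1 : K₁ = ⊥
  · right
    have h1 : x * t * z = 1 := by
      refine ker xtz_x xtz_z ⟨1, by rw [pow_one, pow_two, xtz2]⟩ ?_
      rw [← hsup, hK1, bot_sup_eq, qxtz]
      exact fun v hv => (S.xtz_k2 v hv).symm
    have h2 : x * t = z := by
      rw [eq_inv_of_mul_eq_one_left h1, inv_self C.zz]
    calc t = x * x * t := by rw [C.xx, one_mul]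
      _ = x * z := by rw [mul_assoc, h2]
  exfalso
  -- `K₁ ∩ K₂ = 1`
  have hint : K₁ ⊓ K₂ = ⊥ := by
    rw [eq_bot_iff]
    intro w hw
    rw [mem_bot]
    have h1 : w ∈ im N N := by rw [← hsup]; exact mem_sup_left hw.1
    refine cen_triv C Γ hN h1 ?_
    rw [← hsup]
    intro v hv
    refine (sup_comm_of (v := w) ?_ ?_ v hv).symm
    · intro u hu
      exact hcomm u hu w hw.2
    · intro u hu
      exact (hcomm w hw.1 u hu).symm
  -- the image of `L`
  have hLN : L ≤ N := hN ▸ Γ.le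
  have hLn : L ≤ normalizer (N : Set G) := hLN.trans le_normalizer
  have hLI : im N L ≤ K₁ ⊔ K₂ := by rw [hsup]; exact im_mono hLN
  have hzL : q N z ∈ im N L := q_mem_im hLn C.zL
  have hsimp : ∀ R : Subgroup (Q N), R ≤ im N L → (∀ u ∈ im N L, ∀ r ∈ R, u * r * u⁻¹ ∈ R) → R = ⊥ ∨ R = im N L := by
    subst hN
    exact fun R => im_simple C Γ
  have hnsolv : ¬ Group.IsSolvable ↥(im N L) := by
    subst hN
    exact im_not_solvable C Γ
  have hL1 : K₁ ⊓ im N L = ⊥ := by
    rcases hsimp (K₁ ⊓ im N L) inf_le_right (fun u hu r hr => mem_inf.mpr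
      ⟨conj_k1 hcomm (hLI hu) hr.1, mul_mem (mul_mem hu hr.2) (inv_mem hu)⟩) with h1 | h1
    · exact h1
    · exfalso
      apply hK2
      refine S.k2_bot fun u hu => ?_
      have h2 : q N z ∈ K₁ := by
        rw [← h1] at hzL
        exact (mem_inf.mp hzL).1
      exact (hcomm _ h2 u hu).symm
  have hL2 : im N L ⊓ K₂ = ⊥ := by
    rcases hsimp (im N L ⊓ K₂) inf_le_left (fun u hu r hr => mem_inf.mpr
      ⟨mul_mem (mul_mem hu hr.1) (inv_mem hu), conj_k2 hcomm (hLI hu) hr.2⟩) with h1 | h1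
    · exact h1
    · exfalso
      apply hK1
      refine S.k1_bot fun u hu => ?_
      have h2 : q N z ∈ K₂ := by
        rw [← h1] at hzL
        exact (mem_inf.mp hzL).2
      exact hcomm u hu _ h2
  -- `e = x t`
  obtain ⟨e, he⟩ : ∃ e, e = x * t := ⟨_, rfl⟩
  have e1 : e ≠ 1 := by
    intro h1
    apply hK2
    refine S.k2_bot fun u hu => ?_
    have h2 := S.xtz_k2 u hu
    rw [← qxt, ← he, h1, q_one, one_mul] at h2
    exact h2
  have ee : e * e = 1 := by rw [he]; exact xt2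
  have ex : e * x = x * e := by rw [he]; exact xt_x
  have ez : e * z = z * e := by rw [he]; exact xt_z
  have eN : e ∈ normalizer (N : Set G) := by rw [he]; exact mul_mem xN tN
  have qe : q N e = q N x * q N t := by rw [he]; exact qxt
  have hOe : Oc e ≤ N := by rw [hN]; exact gen_le C ee e1 ex ez
  have e_xz : e * (x * z) = x * z * e := by rw [← mul_assoc, ex, mul_assoc, ez, ← mul_assoc]
  have hcK1 : ∀ u ∈ K₁, u * q N e = q N e * u := by rw [qe]; exact S.xt_k1
  by_cases hAe : AT e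
  · -- `e` is the centre of a triple
    have hPN : P ≤ N := C.PL.trans hLN
    have hPn : P ≤ normalizer (N : Set G) := hPN.trans le_normalizer
    have hP2 : IsPGroup 2 ↥(im N P) := by
      rintro ⟨u, hu⟩
      obtain ⟨p, hp, rfl⟩ := (mem_im hPn).mp hu
      obtain ⟨n, hn⟩ := C.Ptwo ⟨p, hp⟩
      refine ⟨n, Subtype.ext ?_⟩
      change q N p ^ 2 ^ n = 1
      rw [← q_pow (hPn hp)]
      have h1 : p ^ 2 ^ n = 1 := congrArg Subtype.val hn
      rw [h1, q_one]
    have hPnab : ∃ p ∈ im N P, ∃ p' ∈ im N P, p * p' ≠ p' * p := by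
      obtain ⟨p, hp, p', hp', hne⟩ := C.Pnab
      refine ⟨q N p, q_mem_im hPn hp, q N p', q_mem_im hPn hp', fun h1 => hne ?_⟩
      rw [q_comm (hPn hp) (hPn hp')] at h1
      have h2 : ⁅p, p'⁆ ∈ P := by
        rw [commutatorElement_def]
        exact mul_mem (mul_mem (mul_mem hp hp') (inv_mem hp)) (inv_mem hp')
      obtain ⟨n, hn⟩ := C.Ptwo ⟨_, h2⟩
      have h3 := eq_one_of_mem_core h1 (n := n) (congrArg Subtype.val hn)
      exact commutatorElement_eq_one_iff_mul_comm.mp h3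
    set P₂ := proj₂ hcomm (im N P) with hP₂
    have hP₂2 : IsPGroup 2 ↥P₂ := isPGroup_proj₂ hcomm hint hP2
    have hP₂n := proj₂_nab hcomm hL1 hLI (im_mono C.PL) hPnab
    have hP₂z : ∀ v ∈ P₂, q N z * v = v * q N z := by
      rintro v ⟨hv, u, hu, huv⟩
      obtain ⟨p, hp, hpuv⟩ := (mem_im hPn).mp huv
      have h1 : q N z * (u * v) * (q N z)⁻¹ = u * v := by
        rw [← hpuv, ← q_conj zN (hPn hp), ← C.Pz p hp, mul_inv_cancel_right]
      have h2 := S.z_k1 u hu
      have h3 := S.z_k2 v hv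
      set u' := q N z * u * (q N z)⁻¹ with hu'
      set v' := q N z * v * (q N z)⁻¹ with hv'
      have h4 : u' * v' = u * v := by rw [← h1, hu', hv']; group
      have h5 : u⁻¹ * u' ∈ K₁ ⊓ K₂ := by
        refine mem_inf.mpr ⟨mul_mem (inv_mem hu) h2, ?_⟩
        have h6 : u⁻¹ * u' = v * v'⁻¹ := by
          rw [inv_mul_eq_iff_eq_mul, ← mul_assoc, ← h4, mul_inv_cancel_right]
        rw [h6]
        exact mul_mem hv (inv_mem h3)
      rw [hint, mem_bot, inv_mul_eq_one] at h5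
      rw [← h5] at h4
      have h6 := mul_left_cancel h4
      rw [hv'] at h6
      exact mul_inv_eq_iff_eq_mul.mp h6
    have hP₂e : ∀ v ∈ P₂, v * q N e = q N e * v := by
      intro v hv
      have h1 := S.xtz_k2 v (proj₂_le hcomm _ hv)
      have h2 := hP₂z v hv
      have h3 : q N e = q N x * q N t * q N z * q N z := by
        rw [mul_assoc _ (q N z), S.zz, mul_one, qe]
      rw [h3, ← mul_assoc, h1, mul_assoc _ v, ← h2, ← mul_assoc]
    -- the lift of `P₂` commuting with `e`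
    set D := pre N P₂ ⊓ centralizer ({e} : Set G) with hD
    have hDn : D ≤ normalizer (N : Set G) := fun d hd => (mem_pre.mp (mem_inf.mp hd).1).1
    have hep : IsPGroup 2 ↥(zpowers e) := by
      rw [zpowers_eq_closure]
      refine Cfsg.Agent.UGT.TT.isPGroup_closure ?_ ?_
      · intro s hs
        rw [Set.mem_singleton_iff.mp hs]
        exact ee
      · intro s hs s' hs'
        rw [Set.mem_singleton_iff.mp hs, Set.mem_singleton_iff.mp hs']
    have hezN : zpowers e ≤ normalizer (N : Set G) := by rw [zpowers_le]; exact eN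
    have hcenpre : ∀ {u : Q N}, u * q N e = q N e * u → zpowers e ≤ pre N (centralizer {u}) := by
      intro u hu
      rw [zpowers_le, mem_pre]
      exact ⟨eN, mem_cen.mpr hu.symm⟩
    have hDP : im N D = P₂ := by
      refine le_antisymm ?_ ?_
      · intro u hu
        obtain ⟨d, hd, rfl⟩ := (mem_im hDn).mp hu
        exact (mem_pre.mp (mem_inf.mp hd).1).2
      · intro v hv
        obtain ⟨g0, hg0, rfl⟩ := surj v
        obtain ⟨w, hw, hw'⟩ := lift_coset hep hezN hg0
          (fun t ht => mem_cen.mp (mem_pre.mp (hcenpre (hP₂e _ hv) ht)).2)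
        have hwN : w ∈ normalizer (N : Set G) := le_normalizer (core_le N hw)
        have hq : q N (g0 * w) = q N g0 := by rw [q_mul hg0 hwN, q_core hw, mul_one]
        refine (mem_im hDn).mpr ⟨g0 * w, mem_inf.mpr ⟨mem_pre.mpr ⟨mul_mem hg0 hwN, ?_⟩, ?_⟩, hq⟩
        · rw [hq]
          exact hv
        · exact mem_cen.mpr (hw' e (mem_zpowers e)).symm
    obtain ⟨B, hBD, hB2, hBP⟩ := exists_two_lift hDn hP₂2 hDP
    have hBn : B ≤ normalizer (N : Set G) := hBD.trans hDn
    have hBe : B ≤ centralizer ({e} : Set G) := hBD.trans inf_le_right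
    have hBnab : ∃ b ∈ B, ∃ b' ∈ B, b * b' ≠ b' * b := by
      obtain ⟨v, hv, v', hv', hne⟩ := hP₂n
      have hv2 : v ∈ im N B := by rw [hBP]; exact hv
      have hv2' : v' ∈ im N B := by rw [hBP]; exact hv'
      obtain ⟨b, hb, rfl⟩ := (mem_im hBn).mp hv2
      obtain ⟨b', hb', rfl⟩ := (mem_im hBn).mp hv2'
      refine ⟨b, hb, b', hb', fun h1 => hne ?_⟩
      rw [← q_mul (hBn hb) (hBn hb'), h1, q_mul (hBn hb') (hBn hb)]
    have hsolv := C.solv e hAe B hB2 hBe hBnab
    set Z := centralizer ({e} : Set G) ⊓ centralizer (B : Set G) with hZ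
    -- `C(e) ∩ C(B)` covers `K₁`
    have hcov : K₁ ≤ im N (Z ⊓ normalizer (N : Set G)) := by
      intro u hu
      obtain ⟨g0, hg0, rfl⟩ := surj u
      have hT2 : IsPGroup 2 ↥(zpowers e ⊔ B) := by
        refine IsPGroup.to_sup_of_normal_left' hep hB2 ?_
        intro b hb
        rw [mem_normalizer_iff_cj, cj_def, MonoidHom.map_zpowers]
        have h1 : (MulAut.conj b).toMonoidHom e = e := by
          change b * e * b⁻¹ = e
          rw [mem_cen.mp (hBe hb), mul_inv_cancel_right]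
        rw [h1]
      have hTN : zpowers e ⊔ B ≤ normalizer (N : Set G) := sup_le hezN hBn
      have hTc : zpowers e ⊔ B ≤ pre N (centralizer {q N g0}) := by
        refine sup_le (hcenpre (hcK1 _ hu)) ?_
        intro b hb
        refine mem_pre.mpr ⟨hBn hb, mem_cen.mpr ?_⟩
        have h1 : q N b ∈ P₂ := by rw [← hBP]; exact q_mem_im hBn hb
        exact (hcomm _ hu _ (proj₂_le hcomm _ h1)).symm
      obtain ⟨w, hw, hw'⟩ := lift_coset hT2 hTN hg0 (fun t ht => mem_cen.mp (mem_pre.mp (hTc ht)).2)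
      have hwN : w ∈ normalizer (N : Set G) := le_normalizer (core_le N hw)
      have hq : q N (g0 * w) = q N g0 := by rw [q_mul hg0 hwN, q_core hw, mul_one]
      refine (mem_im inf_le_right).mpr ⟨g0 * w, mem_inf.mpr ⟨mem_inf.mpr ⟨?_, ?_⟩, mul_mem hg0 hwN⟩, hq⟩
      · exact mem_cen.mpr (hw' e (mem_sup_left (mem_zpowers e))).symm
      · rw [mem_centralizer_iff]
        intro b hb
        exact hw' b (mem_sup_right hb)
    have hs1 : Group.IsSolvable ↥(im N (Z ⊓ normalizer (N : Set G))) := by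
      have hle : Z ⊓ normalizer (N : Set G) ≤ normalizer (N : Set G) := inf_le_right
      have h0 : Group.IsSolvable ↥(Z ⊓ normalizer (N : Set G)) :=
        Group.isSolvable_of_isSolvable_injective (f := Subgroup.inclusion (inf_le_left : Z ⊓ normalizer (N : Set G) ≤ Z))
          (Subgroup.inclusion_injective _)
      rw [← homL_range hle]
      exact Group.isSolvable_of_surjective (f := (homL hle).rangeRestrict) (MonoidHom.rangeRestrict_surjective _)
    have hs2 : Group.IsSolvable ↥K₁ :=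
      Group.isSolvable_of_isSolvable_injective (f := Subgroup.inclusion hcov) (Subgroup.inclusion_injective _)
    exact hnsolv (solvable_of hcomm hint hL2 hLI hs2)
  · -- `K₁` is odd
    apply hK1
    have hle : K₁ ≤ im N (Oc e) := by
      have key : ∀ {u : G}, u * u = 1 → u ≠ 1 → e * u = u * e → Oc u ≤ N → ∀ b ∈ im N (Oc u), b ∈ K₁ →
          b ∈ im N (Oc e) := by
        intro u uu u1 eu hu b hb hbK
        obtain ⟨w, hw, hwe, rfl⟩ := lift_fixed (hu.trans le_normalizer) (odd_card_core _) ee eN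
          (fun a ha => oc_norm eu ha) hb (hcK1 b hbK).symm
        exact q_mem_im (hOe.trans le_normalizer)
          (bal uu u1 ee e1 eu.symm hAe (mem_inf.mpr ⟨hw, mem_cen.mpr hwe⟩))
      refine sup_le ?_ ?_
      · intro b hb
        exact key C.xx C.x1 ex (hN ▸ Oc_le_GA x z) b (mem_inf.mp hb).1 (mem_sup_left hb)
      · intro b hb
        exact key (xzxz C) (xz1 C) e_xz (hN ▸ Oc'_le_GA x z) b (mem_inf.mp hb).1 (mem_sup_right hb)
    refine no_odd (N := N) ?_ ?_ (Odd.of_dvd_nat (odd_im (hOe.trans le_normalizer) (odd_card_core _))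
      (Subgroup.card_dvd_of_le hle))
    · rw [← hsup]; exact le_sup_left
    · rw [← hsup]
      exact fun u hu r hr => conj_k1 hcomm hu hr

/-- **P14** -/
theorem fus_of : Fus x z := by
  intro y hy
  -- w.l.o.g. `t = x^y` commutes with `z`
  have zx : z * x = x * z := C.xz.symm
  have hclp : ∀ {u v : G}, u * u = 1 → v * v = 1 → u * v = v * u → IsPGroup 2 ↥(closure ({u, v} : Set G)) := by
    intro u v uu vv uv
    refine Cfsg.Agent.UGT.TT.isPGroup_closure ?_ ?_
    · rintro s hs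
      rw [Set.mem_insert_iff, Set.mem_singleton_iff] at hs
      rcases hs with rfl | rfl
      · exact uu
      · exact vv
    · rintro s hs t ht
      rw [Set.mem_insert_iff, Set.mem_singleton_iff] at hs ht
      rcases hs with rfl | rfl <;> rcases ht with rfl | rfl
      · rfl
      · exact uv
      · exact uv.symm
      · rfl
  have hclc : ∀ {u v w : G}, u * w = w * u → v * w = w * v → ∀ r ∈ closure ({u, v} : Set G), r * w = w * r := by
    intro u v w uw vw r hr
    have h1 : closure ({u, v} : Set G) ≤ centralizer {w} := by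
      rw [closure_le]
      rintro s hs
      rw [Set.mem_insert_iff, Set.mem_singleton_iff] at hs
      rcases hs with rfl | rfl
      · exact mem_cen.mpr uw
      · exact mem_cen.mpr vw
    exact mem_cen.mp (h1 hr)
  have reduce : ∀ k : G, k * x = x * k →
      ((k * y) * x * (k * y)⁻¹ = x ∨ ∃ k' : G, k' * x = x * k' ∧ (k * y) * x * (k * y)⁻¹ = k' * (x * z) * k'⁻¹) →
      (y * x * y⁻¹ = x ∨ ∃ k' : G, k' * x = x * k' ∧ y * x * y⁻¹ = k' * (x * z) * k'⁻¹) := by
    intro k hk hh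
    have e1 : y * x * y⁻¹ = k⁻¹ * ((k * y) * x * (k * y)⁻¹) * k := by group
    have hk' : k⁻¹ * x = x * k⁻¹ := by
      rw [inv_mul_eq_iff_eq_mul, ← mul_assoc, hk, mul_inv_cancel_right]
    rcases hh with hh | ⟨k', hk'', hh⟩
    · left
      rw [e1, hh, hk', inv_mul_cancel_right]
    · right
      refine ⟨k⁻¹ * k', ?_, ?_⟩
      · rw [mul_assoc, hk'', ← mul_assoc, hk', mul_assoc]
      · rw [e1, hh]
        group
  obtain ⟨k, hk, hkz⟩ := frat C.zz zx Γ.star
    (hclp (sq_conj (g := y) C.xx) (sq_conj (g := y) C.xx) rfl)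
    (hclc (u := y * x * y⁻¹) (v := y * x * y⁻¹) hy hy)
  have hkx := oc_comm hk
  refine reduce k hkx ?_
  have h1 : k * (y * x * y⁻¹) * k⁻¹ * z = z * (k * (y * x * y⁻¹) * k⁻¹) := hkz _ (subset_closure (by simp))
  have e1 : k * (y * x * y⁻¹) * k⁻¹ = (k * y) * x * (k * y)⁻¹ := by group
  rw [e1] at h1
  have h2 : (k * y) * x * (k * y)⁻¹ * x = x * ((k * y) * x * (k * y)⁻¹) := by
    rw [← e1]
    have hk' : k⁻¹ * x = x * k⁻¹ := by
      rw [inv_mul_eq_iff_eq_mul, ← mul_assoc, hkx, mul_inv_cancel_right]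
    calc k * (y * x * y⁻¹) * k⁻¹ * x = k * ((y * x * y⁻¹) * x) * k⁻¹ := by rw [mul_assoc, hk']; group
      _ = (k * x) * (y * x * y⁻¹) * k⁻¹ := by rw [hy]; group
      _ = x * (k * (y * x * y⁻¹) * k⁻¹) := by rw [hkx]; group
  obtain ⟨y1, hy1⟩ : ∃ y1, y1 = k * y := ⟨_, rfl⟩
  rw [← hy1] at h1 h2 ⊢
  obtain ⟨t, ht⟩ : ∃ t, t = y1 * x * y1⁻¹ := ⟨_, rfl⟩
  rw [← ht] at h1 h2 ⊢
  -- w.l.o.g. `x`, `z` commute with `z^y`
  have star' : ∀ w : G, w * t = t * w → ⁅w, y1 * z * y1⁻¹⁆ ∈ Oc t := by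
    intro w hw
    have h3 : (y1⁻¹ * w * y1) * x = x * (y1⁻¹ * w * y1) := by
      have h4 : x = y1⁻¹ * t * y1 := by rw [ht]; group
      rw [h4]
      calc y1⁻¹ * w * y1 * (y1⁻¹ * t * y1) = y1⁻¹ * (w * t) * y1 := by group
        _ = y1⁻¹ * t * y1 * (y1⁻¹ * w * y1) := by rw [hw]; group
    have h4 := oc_conj_mem y1 (Γ.star _ h3)
    have e2 : y1 * ⁅y1⁻¹ * w * y1, z⁆ * y1⁻¹ = ⁅w, y1 * z * y1⁻¹⁆ := by
      rw [commutatorElement_def, commutatorElement_def]; group
    rwa [e2, ← ht] at h4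
  have hzt' : (y1 * z * y1⁻¹) * t = t * (y1 * z * y1⁻¹) := by
    rw [ht]
    calc y1 * z * y1⁻¹ * (y1 * x * y1⁻¹) = y1 * (z * x) * y1⁻¹ := by group
      _ = y1 * x * y1⁻¹ * (y1 * z * y1⁻¹) := by rw [zx]; group
  obtain ⟨k2, hk2, hk2z⟩ := frat (sq_conj (g := y1) C.zz) hzt' star' (hclp C.xx C.zz C.xz)
    (hclc (u := x) (v := z) h2.symm h1.symm)
  have hk2t := oc_comm hk2
  obtain ⟨y2, hy2⟩ : ∃ y2, y2 = k2⁻¹ * y1 := ⟨_, rfl⟩
  have ht2 : y2 * x * y2⁻¹ = t := by
    have e3 : y2 * x * y2⁻¹ = k2⁻¹ * (y1 * x * y1⁻¹) * k2 := by rw [hy2]; group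
    rw [e3, ← ht, mul_assoc, ← hk2t, inv_mul_cancel_left]
  have hz2 : ∀ r : G, r ∈ closure ({x, z} : Set G) → (y2 * z * y2⁻¹) * r = r * (y2 * z * y2⁻¹) := by
    intro r hr
    have h3 := hk2z r hr
    have e3 : y2 * z * y2⁻¹ = k2⁻¹ * (y1 * z * y1⁻¹) * k2 := by rw [hy2]; group
    rw [e3]
    calc k2⁻¹ * (y1 * z * y1⁻¹) * k2 * r = k2⁻¹ * ((y1 * z * y1⁻¹) * (k2 * r * k2⁻¹)) * k2 := by group
      _ = k2⁻¹ * ((k2 * r * k2⁻¹) * (y1 * z * y1⁻¹)) * k2 := by rw [h3]
      _ = r * (k2⁻¹ * (y1 * z * y1⁻¹) * k2) := by group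
  have hz2x := hz2 x (subset_closure (by simp))
  have hz2z := hz2 z (subset_closure (by simp))
  have hzz := zy_eq C Γ (y := y2) (by rw [ht2]; exact h2) (by rw [ht2]; exact h1) hz2x hz2z
  rcases good_of C Γ ht2 hzz h2 h1 with h3 | h3
  · exact Or.inl h3
  · exact Or.inr ⟨1, by rw [one_mul, mul_one], by rw [h3]; group⟩

end main

end Cfsg.Agent.UGT.PQ
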