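import Cfsg.Agent.UGT.PQ.Split

/-!
# (Q2), P14: the image of `L`; lifting 2-subgroups
-/

set_option autoImplicit false

open Cfsg Subgroup
open Cfsg.Agent.SignalizersComponents Cfsg.Agent.Lib
open Cfsg.Agent.SignalizersComponents.IntrinsicBasic
open Cfsg.Agent.Intrinsic.Basic Cfsg.Agent.Intrinsic.Cen
open Cfsg.Agent.Lib.KleinGen
open Cfsg.Agent.UGT.Triple Cfsg.Agent.UGT.TriBase
open Cfsg.Agent.UGT.PQ.Defs Cfsg.Agent.UGT.PQ.GT Cfsg.Agent.UGT.PQ.Quo Cfsg.Agent.UGT.PQ.CQ
open scoped commutatorElement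

namespace Cfsg.Agent.UGT.PQ.FusT

section lift

/-- a 2-subgroup of the image lifts to a 2-subgroup -/
theorem exists_two_lift_hom {A B : Type*} [Group A] [Finite A] [Group B] (f : A →* B) {R : Subgroup B}
    (hR : IsPGroup 2 ↥R) {D : Subgroup A} (hD : D.map f = R) : ∃ S ≤ D, IsPGroup 2 ↥S ∧ S.map f = R := by
  have hfact : Fact (Nat.Prime 2) := ⟨Nat.prime_two⟩
  subst hD
  let f' : ↥D →* ↥(D.map f) := f.subgroupMap D
  have hf' : Function.Surjective f' := f.subgroupMap_surjective D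
  let P : Sylow 2 ↥D := default
  let P' := P.mapSurjective hf'
  have htop : (P' : Subgroup ↥(D.map f)) = ⊤ := by
    refine (P'.is_maximal' (Q := ⊤) ?_ le_top).symm
    exact hR.to_subgroup ⊤
  refine ⟨(P : Subgroup ↥D).map D.subtype, Subgroup.map_subtype_le _, P.isPGroup'.map _, ?_⟩
  rw [Subgroup.map_map]
  have e : f.comp D.subtype = (D.map f).subtype.comp f' := by
    ext d
    rfl
  rw [e, ← Subgroup.map_map]
  have h2 : (P : Subgroup ↥D).map f' = ⊤ := by
    rw [← htop]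
    exact (Sylow.coe_mapSurjective hf' P).symm
  rw [h2]
  ext u
  simp

variable {G : Type*} [Group G] [Finite G] {N : Subgroup G}

theorem exists_two_lift {D : Subgroup G} (hD : D ≤ normalizer (N : Set G)) {R : Subgroup (Q N)} (hR : IsPGroup 2 ↥R)
    (h : im N D = R) : ∃ B ≤ D, IsPGroup 2 ↥B ∧ im N B = R := by
  obtain ⟨S, hS, hS2, hSR⟩ := exists_two_lift_hom (QuotientGroup.mk' (Ker N)) hR h
  have h1 : S.map (normalizer (N : Set G)).subtype ≤ D := by
    rintro _ ⟨s, hs, rfl⟩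
    exact hS hs
  refine ⟨S.map (normalizer (N : Set G)).subtype, h1, hS2.map _, ?_⟩
  rw [← hSR]
  unfold im
  congr 1
  ext s
  constructor
  · rintro ⟨s', hs', he⟩
    have : s' = s := Subtype.ext he
    rw [← this]
    exact hs'
  · intro hs
    exact ⟨s, hs, rfl⟩

end lift

section L

variable {G : Type*} [Group G] [Finite G] {N L : Subgroup G}

/-- the hom `L → N_G(N) / O(N)` -/
noncomputable def homL (hL : L ≤ normalizer (N : Set G)) : ↥L →* Q N where
  toFun l := q N l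
  map_one' := q_one
  map_mul' u v := q_mul (hL u.2) (hL v.2)

omit [Finite G] in
theorem homL_range (hL : L ≤ normalizer (N : Set G)) : (homL hL).range = im N L := by
  ext u
  rw [mem_im hL]
  constructor
  · rintro ⟨l, rfl⟩
    exact ⟨l, l.2, rfl⟩
  · rintro ⟨l, hl, rfl⟩
    exact ⟨⟨l, hl⟩, rfl⟩

omit [Finite G] in
theorem homL_ker (hL : L ≤ normalizer (N : Set G)) (h1 : core L ≤ core N) (h2 : L ⊓ core N ≤ core L) :
    (homL hL).ker = oddCore ↥L := by
  ext l
  rw [MonoidHom.mem_ker]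
  change q N (l : G) = 1 ↔ _
  rw [q_eq_one (hL l.2)]
  constructor
  · intro h
    have h3 : (l : G) ∈ core L := h2 ⟨l.2, h⟩
    exact (mem_core_iff l.2).mp h3
  · intro h
    exact h1 ((mem_core_iff l.2).mpr h)

omit [Finite G] in
theorem exists_equiv (hL : L ≤ normalizer (N : Set G)) (h1 : core L ≤ core N) (h2 : L ⊓ core N ≤ core L) :
    Nonempty (↥L ⧸ oddCore ↥L ≃* ↥(im N L)) := by
  have e1 : ↥L ⧸ oddCore ↥L ≃* ↥L ⧸ (homL hL).ker := QuotientGroup.quotientMulEquivOfEq (homL_ker hL h1 h2).symm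
  have e2 := QuotientGroup.quotientKerEquivRange (homL hL)
  have e3 : ↥(homL hL).range ≃* ↥(im N L) := MulEquiv.subgroupCongr (homL_range hL)
  exact ⟨(e1.trans e2).trans e3⟩

theorem inf_core_le (hL : L ≤ N) : L ⊓ core N ≤ core L := by
  refine le_core inf_le_left ?_ ?_
  · intro l hl
    rw [mem_normalizer_iff]
    have h0 : ∀ l ∈ L, ∀ n ∈ L ⊓ core N, l * n * l⁻¹ ∈ L ⊓ core N := by
      intro l hl n hn
      exact mem_inf.mpr ⟨mul_mem (mul_mem hl hn.1) (inv_mem hl), conj_mem_core (le_normalizer (hL hl)) hn.2⟩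
    intro n
    refine ⟨h0 l hl n, fun hn => ?_⟩
    have h3 := h0 l⁻¹ (inv_mem hl) _ hn
    have e : l⁻¹ * (l * n * l⁻¹) * l⁻¹⁻¹ = n := by group
    rwa [e] at h3
  · refine Odd.of_dvd_nat (odd_card_core N) (Subgroup.card_dvd_of_le inf_le_right)

end L

section conf

variable {G : Type*} [Group G] [Finite G] {x a z c i g h : G} {L P U M W : Subgroup G}

theorem core_L_le (C : Conf x a z c i g L P U M W) (Γ : Gam x a z c h L U M W) : core L ≤ core (GA x z) := by
  have h1 : core L ≤ Oc a := by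
    refine le_core ?_ (C.LN.trans (normalizer_le_normalizer_core L)) (odd_card_core L)
    exact (core_le L).trans C.tri.comp.le
  have h2 : Oc a ≤ W := by
    rw [← C.WO a (Or.inl rfl)]
    exact inf_le_left
  exact (h1.trans h2).trans Γ.Wle

theorem im_simple (C : Conf x a z c i g L P U M W) (Γ : Gam x a z c h L U M W) {R : Subgroup (Q (GA x z))}
    (hR : R ≤ im (GA x z) L) (hn : ∀ u ∈ im (GA x z) L, ∀ r ∈ R, u * r * u⁻¹ ∈ R) :
    R = ⊥ ∨ R = im (GA x z) L := by
  obtain ⟨e⟩ := exists_equiv (Γ.le.trans le_normalizer) (core_L_le C Γ) (inf_core_le Γ.le)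
  have hs : IsSimpleGroup ↥(im (GA x z) L) := by
    have := C.simp
    exact (e.isSimpleGroup_congr).mp this
  have hN : (R.subgroupOf (im (GA x z) L)).Normal := by
    constructor
    rintro ⟨r, hr⟩ hr' ⟨u, hu⟩
    exact hn u hu r hr'
  rcases hN.eq_bot_or_eq_top with h1 | h1
  · left
    rw [subgroupOf_eq_bot] at h1
    rw [eq_bot_iff]
    exact fun r hr => h1.le_bot ⟨hr, hR hr⟩
  · right
    exact le_antisymm hR (subgroupOf_eq_top.mp h1)

theorem im_not_solvable (C : Conf x a z c i g L P U M W) (Γ : Gam x a z c h L U M W) :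
    ¬ Group.IsSolvable ↥(im (GA x z) L) := by
  obtain ⟨e⟩ := exists_equiv (Γ.le.trans le_normalizer) (core_L_le C Γ) (inf_core_le Γ.le)
  intro hs
  have h1 : Group.IsSolvable (↥L ⧸ oddCore ↥L) :=
    Group.isSolvable_of_surjective (f := e.symm.toMonoidHom) e.symm.surjective
  have := C.simp
  exact C.nab (IsSimpleGroup.comm_iff_isSolvable.mpr h1)

end conf

end Cfsg.Agent.UGT.PQ.FusT
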