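import Cfsg.Agent.UGT.PQ.Defs
import Cfsg.Agent.UGT.SLCore
import Cfsg.Agent.Lib.KleinGen

/-!
# (Q2): tools for `O_u`, `⟨O_x, O_xz, O_z⟩` and the configuration
-/

set_option autoImplicit false

open Cfsg Subgroup
open Cfsg.Agent.SignalizersComponents Cfsg.Agent.Lib
open Cfsg.Agent.SignalizersComponents.IntrinsicBasic
open Cfsg.Agent.Intrinsic.Basic Cfsg.Agent.Intrinsic.Cen
open Cfsg.Agent.Lib.KleinGen
open Cfsg.Agent.UGT.Triple Cfsg.Agent.UGT.TriBase
open Cfsg.Agent.UGT.PQ.Defs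
open scoped commutatorElement

namespace Cfsg.Agent.UGT.PQ.GT

section basic

variable {G : Type*} [Group G]

theorem mem_cen {u y : G} : y ∈ centralizer ({u} : Set G) ↔ y * u = u * y := mem_centralizer_singleton_iff

theorem oc_comm {u y : G} (hy : y ∈ Oc u) : y * u = u * y := mem_cen.mp (core_le _ hy)

theorem cj_Oc (g u : G) : cj g (Oc u) = Oc (g * u * g⁻¹) := by
  rw [← core_cj, cj_centralizer]

theorem oc_conj_mem {u y : G} (g : G) (hy : y ∈ Oc u) : g * y * g⁻¹ ∈ Oc (g * u * g⁻¹) := by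
  rw [← cj_Oc]
  exact conj_mem_cj hy

theorem conj_eq_of_comm {g u : G} (h : g * u = u * g) : g * u * g⁻¹ = u := by
  rw [h, mul_inv_cancel_right]

theorem comm_of_conj_eq {g u : G} (h : g * u * g⁻¹ = u) : g * u = u * g := mul_inv_eq_iff_eq_mul.mp h

theorem oc_norm {g u y : G} (hg : g * u = u * g) (hy : y ∈ Oc u) : g * y * g⁻¹ ∈ Oc u := by
  have := oc_conj_mem g hy
  rwa [conj_eq_of_comm hg] at this

theorem cj_sup (g : G) (A B : Subgroup G) : cj g (A ⊔ B) = cj g A ⊔ cj g B := by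
  rw [cj_def, cj_def, cj_def, Subgroup.map_sup]

theorem cj_GA (g x z : G) : cj g (GA x z) = GA (g * x * g⁻¹) (g * z * g⁻¹) := by
  unfold GA
  rw [cj_sup, cj_sup, cj_Oc, cj_Oc, cj_Oc]
  congr 3
  group

theorem GA_norm {g x z : G} (hx : g * x = x * g) (hz : g * z = z * g) : g ∈ normalizer (GA x z : Set G) := by
  rw [mem_normalizer_iff_cj, cj_GA, conj_eq_of_comm hx, conj_eq_of_comm hz]

theorem Oc_le_GA (x z : G) : Oc x ≤ GA x z := le_sup_left.trans le_sup_left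

theorem Oc'_le_GA (x z : G) : Oc (x * z) ≤ GA x z := le_sup_right.trans le_sup_left

theorem Oc''_le_GA (x z : G) : Oc z ≤ GA x z := le_sup_right

theorem inv_self {z : G} (zz : z * z = 1) : z⁻¹ = z := inv_eq_of_mul_eq_one_right zz

/-- two involutions in one coset of an odd subgroup are conjugate under it -/
theorem exists_conj_of_inv [Finite G] {W : Subgroup G} (hW : Odd (Nat.card ↥W)) {x y : G} (xx : x * x = 1)
    (yy : y * y = 1) (hxy : x * y ∈ W) : ∃ w ∈ W, w * x * w⁻¹ = y := by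
  obtain ⟨n, hn⟩ := exists_sqrt_exponent W hW
  have hxi := inv_self xx
  have hyi := inv_self yy
  set u := y * x with hu
  have huW : u ∈ W := by
    have := W.inv_mem hxy
    rwa [mul_inv_rev, hxi, hyi] at this
  have h1 : x * u * x⁻¹ = u⁻¹ := by
    rw [hu, mul_inv_rev, hxi, hyi, mul_assoc, mul_assoc, xx, mul_one]
  refine ⟨u ^ n, W.pow_mem huW n, ?_⟩
  have h2 : x * u ^ n * x⁻¹ = (u ^ n)⁻¹ := by
    rw [← conj_pow, h1, inv_pow]
  have h3 : u ^ n * x * (u ^ n)⁻¹ = u ^ n * u ^ n * x := by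
    rw [← h2, hxi]
    have e : u ^ n * x * (x * u ^ n * x) = u ^ n * (x * x) * u ^ n * x := by group
    rw [e, xx, mul_one]
  rw [h3, (hn u huW).1, hu, mul_assoc, xx, mul_one]

/-- Frattini: `[z, C(u)] ≤ O(C(u))` ⇒ every 2-subgroup of `C(u)` is conjugate under `O(C(u))` into `C(z)` -/
theorem frat [Finite G] {u z : G} (zz : z * z = 1) (zu : z * u = u * z)
    (star : ∀ w : G, w * u = u * w → ⁅w, z⁆ ∈ Oc u) {R : Subgroup G} (hR : IsPGroup 2 ↥R)
    (hRu : ∀ r ∈ R, r * u = u * r) :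
    ∃ k ∈ Oc u, ∀ r ∈ R, (k * r * k⁻¹) * z = z * (k * r * k⁻¹) := by
  have hzi := inv_self zz
  obtain ⟨y, hy1, hy2, hy3⟩ := Cfsg.Agent.UGT.SL.exists_fixed_involution (W := Oc u) (T := R)
    (odd_card_core _) hR zz (fun w hw => oc_norm zu hw) (fun t ht w hw => oc_norm (hRu t ht) hw)
    (fun t ht => by
      have h1 := star t (hRu t ht)
      rw [commutatorElement_def, hzi] at h1
      have h2 := oc_norm zu h1
      have e : z * (t * z * t⁻¹ * z) * z⁻¹ = z * (t * z * t⁻¹) := by group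
      rwa [e] at h2)
  obtain ⟨w, hw, hwz⟩ := exists_conj_of_inv (odd_card_core _) zz hy2 hy1
  refine ⟨w⁻¹, (Oc u).inv_mem hw, fun r hr => ?_⟩
  have h1 := hy3 r hr
  rw [← hwz] at h1
  have h2 : w⁻¹ * (r * (w * z * w⁻¹)) * w = w⁻¹ * (w * z * w⁻¹ * r) * w := by rw [h1]
  have e1 : w⁻¹ * (r * (w * z * w⁻¹)) * w = w⁻¹ * r * w⁻¹⁻¹ * z := by group
  have e2 : w⁻¹ * (w * z * w⁻¹ * r) * w = z * (w⁻¹ * r * w⁻¹⁻¹) := by group
  rw [e1, e2] at h2
  exact h2

theorem ne_one_conj {g t : G} (h : t ≠ 1) : g * t * g⁻¹ ≠ 1 := by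
  intro h1
  exact h (conj_eq_one_iff.mp h1)

theorem sq_conj {g t : G} (h : t * t = 1) : (g * t * g⁻¹) * (g * t * g⁻¹) = 1 := by
  have e : (g * t * g⁻¹) * (g * t * g⁻¹) = g * (t * t) * g⁻¹ := by group
  rw [e, h]
  group

end basic

section conf

variable {G : Type*} [Group G] [Finite G] {x a z c i g h : G} {L P U M W : Subgroup G}

variable (C : Conf x a z c i g L P U M W)

include C

theorem xzxz : (x * z) * (x * z) = 1 := by
  have e : (x * z) * (x * z) = x * (z * x) * z := by group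
  rw [e, ← C.xz, ← mul_assoc, C.xx, one_mul, C.zz]

theorem xz1 : x * z ≠ 1 := by
  intro h1
  have h2 : x = z := by
    have := mul_eq_one_iff_eq_inv.mp h1
    rw [this, inv_self C.zz]
  exact C.nxz h2

theorem nAxz : ¬ AT (x * z) := by
  rw [← C.cx]
  exact not_AT_conj C.nAx c

/-- (*) -/
theorem gen_le {u : G} (uu : u * u = 1) (u1 : u ≠ 1) (ux : u * x = x * u) (uz : u * z = z * u) :
    Oc u ≤ GA x z := by
  have hxu : x * u = u * x := ux.symm
  have hzu : z * u = u * z := uz.symm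
  refine le_of_klein (Oc u) (GA x z) (odd_card_core _) x z C.xx C.zz C.xz (fun w hw => oc_norm hxu hw)
    (fun w hw => oc_norm hzu hw) ?_ ?_ ?_
  · exact (bal uu u1 C.xx C.x1 ux C.nAx).trans (Oc_le_GA x z)
  · exact (bal uu u1 C.zz C.z1 uz C.nAz).trans (Oc''_le_GA x z)
  · have h1 : u * (x * z) = x * z * u := by
      rw [← mul_assoc, ux, mul_assoc, uz, ← mul_assoc]
    exact (bal uu u1 (xzxz C) (xz1 C) h1 (nAxz C)).trans (Oc'_le_GA x z)

theorem gen_GA {y : G} (h1 : (y * x * y⁻¹) * x = x * (y * x * y⁻¹)) (h2 : (y * x * y⁻¹) * z = z * (y * x * y⁻¹))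
    (h3 : (y * z * y⁻¹) * x = x * (y * z * y⁻¹)) (h4 : (y * z * y⁻¹) * z = z * (y * z * y⁻¹)) :
    cj y (GA x z) = GA x z := by
  have h5 : cj y (GA x z) ≤ GA x z := by
    rw [cj_GA]
    refine sup_le (sup_le ?_ ?_) ?_
    · exact gen_le C (sq_conj C.xx) (ne_one_conj C.x1) h1 h2
    · have e : y * x * y⁻¹ * (y * z * y⁻¹) = y * (x * z) * y⁻¹ := by group
      rw [e]
      refine gen_le C (sq_conj (xzxz C)) (ne_one_conj (xz1 C)) ?_ ?_
      · rw [← e, mul_assoc, h3, ← mul_assoc, h1, mul_assoc]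
      · rw [← e, mul_assoc, h4, ← mul_assoc, h2, mul_assoc]
    · exact gen_le C (sq_conj C.zz) (ne_one_conj C.z1) h3 h4
  refine Subgroup.eq_of_le_of_card_ge h5 ?_
  rw [cj_def]
  exact le_of_eq (Nat.card_congr ((MulEquiv.subgroupMap (MulAut.conj y) (GA x z)).toEquiv))

end conf

end Cfsg.Agent.UGT.PQ.GT
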