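import Cfsg.Agent.UGT.PQ.CaseA
import Cfsg.Agent.Lib.NormalAbelian

/-!
# (Q2), case (B), P10-P13 (helper269)

`gam_of : Conf .. → CaseB x a z h U → Gam x a z c h L U M W`.

* `star_le` = (*): `u` an involution of `C(x, z)` ⇒ `O(C(u)) ≤ GA x z`; `W_le_GA`, `W_core`;
* `zV` = P10, `ker_V`, `ker_all` = P11, `iso`, `hz` = P12, `le_GA`, `not_conj`, `not_high` = P13.
-/

set_option autoImplicit false
set_option linter.unusedSectionVars false

open Cfsg Subgroup
open Cfsg.Agent.SignalizersComponents Cfsg.Agent.Lib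
open Cfsg.Agent.SignalizersComponents.IntrinsicBasic
open Cfsg.Agent.Intrinsic.Basic Cfsg.Agent.Intrinsic.Cen
open Cfsg.Agent.UGT.Triple Cfsg.Agent.UGT.TriBase Cfsg.Agent.UGT.PQ.Defs Cfsg.Agent.UGT.PQ.Tools
open Cfsg.Agent.UGT.PQ.CaseA
open Cfsg.Agent.CoverCore.Abs (le_of_four)
open scoped commutatorElement

namespace Cfsg.Agent.UGT.PQ.Gamma

universe u

variable {G : Type u} [Group G]

/-! ### generalities -/

theorem x_le {x z : G} : Oc x ≤ GA x z := le_sup_left.trans le_sup_left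

theorem xz_le {x z : G} : Oc (x * z) ≤ GA x z := le_sup_right.trans le_sup_left

theorem z_le {x z : G} : Oc z ≤ GA x z := le_sup_right

/-- elements permuting `x, z, xz` normalize `GA` -/
theorem GA_conj {x z v : G} {N : Subgroup G} (hx : Oc (v * x * v⁻¹) ≤ N) (hz : Oc (v * z * v⁻¹) ≤ N)
    (hxz : Oc (v * (x * z) * v⁻¹) ≤ N) : ∀ d ∈ GA x z, v * d * v⁻¹ ∈ N := by
  have h1 : GA x z ≤ cj v⁻¹ N := by
    refine sup_le (sup_le ?_ ?_) ?_
    · intro d hd
      rw [IntrinsicBasic.mem_cj, inv_inv]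
      exact hx (conj_Oc hd)
    · intro d hd
      rw [IntrinsicBasic.mem_cj, inv_inv]
      exact hxz (conj_Oc hd)
    · intro d hd
      rw [IntrinsicBasic.mem_cj, inv_inv]
      exact hz (conj_Oc hd)
  intro d hd
  have h2 := IntrinsicBasic.mem_cj.mp (h1 hd)
  rwa [inv_inv] at h2

/-- conjugation by `v` maps `core M` to itself -/
theorem core_conj [Finite G] {M : Subgroup G} {v : G} (h1 : ∀ d ∈ M, v * d * v⁻¹ ∈ M) :
    ∀ d ∈ core M, v * d * v⁻¹ ∈ core M := fun _ hd => conj_mem_core (mem_normalizer_of_conj h1) hd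

theorem core_conj_inv [Finite G] {M : Subgroup G} {v : G} (h1 : ∀ d ∈ M, v * d * v⁻¹ ∈ M) :
    ∀ d ∈ core M, v⁻¹ * d * v ∈ core M := inv_of_conj (core_conj h1)

theorem comm_inv {v x : G} (h : v * x = x * v) : v⁻¹ * x = x * v⁻¹ := by
  calc v⁻¹ * x = v⁻¹ * (x * v) * v⁻¹ := by group
    _ = v⁻¹ * (v * x) * v⁻¹ := by rw [h]
    _ = x * v⁻¹ := by group

theorem comm_mul {t x z : G} (h1 : t * x = x * t) (h2 : t * z = z * t) : t * (x * z) = x * z * t := by
  calc t * (x * z) = (t * x) * z := by group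
    _ = x * (t * z) := by rw [h1]; group
    _ = x * z * t := by rw [h2]; group

theorem GA_of_comm {x z v : G} (h1 : v * x = x * v) (h2 : v * z = z * v) :
    ∀ d ∈ GA x z, v * d * v⁻¹ ∈ GA x z := by
  refine GA_conj ?_ ?_ ?_
  · rw [conj_eq_of_comm h1]; exact x_le
  · rw [conj_eq_of_comm h2]; exact z_le
  · rw [conj_eq_of_comm (comm_mul h1 h2)]; exact xz_le

/-! ### (*) and the functor -/

variable {x a z c i g h : G} {L P U M W : Subgroup G}

theorem zx (C : Conf x a z c i g L P U M W) : z * x = x * z := C.xz.symm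

theorem sq_xz (C : Conf x a z c i g L P U M W) : x * z * (x * z) = 1 := by
  calc x * z * (x * z) = x * (z * x) * z := by group
    _ = (x * x) * (z * z) := by rw [zx C]; group
    _ = 1 := by rw [C.xx, C.zz, mul_one]

theorem xz_ne (C : Conf x a z c i g L P U M W) : x * z ≠ 1 := by
  intro h
  apply C.nxz
  calc x = x * z * z⁻¹ := by group
    _ = z := by rw [h, one_mul, inv_of_sq C.zz]

theorem cz (C : Conf x a z c i g L P U M W) : c * z = z * c := C.Pz c C.cP

theorem cxz (C : Conf x a z c i g L P U M W) : c * (x * z) * c⁻¹ = x := by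
  calc c * (x * z) * c⁻¹ = (c * x * c⁻¹) * (c * z * c⁻¹) := by group
    _ = x * z * z := by rw [C.cx, conj_eq_of_comm (cz C)]
    _ = x := by rw [mul_assoc, C.zz, mul_one]

theorem nAxz (C : Conf x a z c i g L P U M W) : ¬ AT (x * z) := by
  rw [← C.cx]
  exact not_AT_conj C.nAx c

theorem GA_c (C : Conf x a z c i g L P U M W) : ∀ d ∈ GA x z, c * d * c⁻¹ ∈ GA x z := by
  refine GA_conj ?_ ?_ ?_
  · rw [C.cx]; exact xz_le
  · rw [conj_eq_of_comm (cz C)]; exact z_le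
  · rw [cxz C]; exact x_le

variable [Finite G]

/-- balance, in the form with commutation -/
theorem bal' {u t d : G} (hu : u * u = 1) (hu1 : u ≠ 1) (ht : t * t = 1) (ht1 : t ≠ 1) (hut : u * t = t * u)
    (hn : ¬ AT t) (hd : d ∈ Oc u) (hdt : d * t = t * d) : d ∈ Oc t :=
  bal hu hu1 ht ht1 hut hn ⟨hd, mem_centralizer_singleton_iff.mpr hdt⟩

/-- (*): `u` an involution of `C(x, z)` ⇒ `O(C(u)) ≤ GA x z` -/
theorem star_le (C : Conf x a z c i g L P U M W) {u : G} (hu : u * u = 1) (hu1 : u ≠ 1) (hx : u * x = x * u)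
    (hz : u * z = z * u) : Oc u ≤ GA x z := by
  refine le_of_four C.xx C.zz C.xz C.x1 C.z1 C.nxz (odd_card_core _)
    (fun d hd => conj_Oc_comm hx.symm hd) (fun d hd => conj_Oc_comm hz.symm hd) ?_ ?_ ?_
  · exact fun d hd h3 => x_le (bal' hu hu1 C.xx C.x1 hx C.nAx hd h3)
  · exact fun d hd h3 => z_le (bal' hu hu1 C.zz C.z1 hz C.nAz hd h3)
  · exact fun d hd h3 => xz_le (bal' hu hu1 (sq_xz C) (xz_ne C) (comm_mul hx hz) (nAxz C) hd h3)

theorem aN (C : Conf x a z c i g L P U M W) : a ∈ M :=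
  C.azM ⟨mem_centralizer_singleton_iff.mpr rfl, mem_centralizer_singleton_iff.mpr C.az⟩

theorem zN (C : Conf x a z c i g L P U M W) : z ∈ M :=
  C.azM ⟨mem_centralizer_singleton_iff.mpr C.az.symm, mem_centralizer_singleton_iff.mpr rfl⟩

theorem xN (C : Conf x a z c i g L P U M W) : x ∈ M :=
  C.azM ⟨mem_centralizer_singleton_iff.mpr C.ax.symm, mem_centralizer_singleton_iff.mpr C.xz⟩

theorem nW (C : Conf x a z c i g L P U M W) {m : G} (hm : m ∈ M) : ∀ w ∈ W, m * w * m⁻¹ ∈ W := by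
  rw [C.MW] at hm
  exact fun w hw => (mem_normalizer_iff.mp hm w).mp hw

theorem az_sq (C : Conf x a z c i g L P U M W) : a * z * (a * z) = 1 := by
  calc a * z * (a * z) = a * (z * a) * z := by group
    _ = (a * a) * (z * z) := by rw [← C.az]; group
    _ = 1 := by rw [C.aa, C.zz, mul_one]

theorem az_ne (C : Conf x a z c i g L P U M W) : a * z ≠ 1 := by
  intro h
  apply C.naz
  calc a = a * z * z⁻¹ := by group
    _ = z := by rw [h, one_mul, inv_of_sq C.zz]

/-- `C_W(t) ≤ O(C(t))` for `t ∈ {x, xz}` -/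
theorem W_cen (C : Conf x a z c i g L P U M W) {t : G} (ht : t * t = 1) (ht1 : t ≠ 1) (hn : ¬ AT t)
    (hta : a * t = t * a) (htz : z * t = t * z) {w : G} (hw : w ∈ W) (hwt : w * t = t * w) : w ∈ Oc t := by
  have key : W ⊓ centralizer ({t} : Set G) ≤ Oc t := by
    have hinv : ∀ m ∈ M, m * t = t * m → ∀ w ∈ W ⊓ centralizer ({t} : Set G),
        m * w * m⁻¹ ∈ W ⊓ centralizer ({t} : Set G) := by
      rintro m hm hmt w ⟨hw, hwx⟩
      refine ⟨nW C hm w hw, mem_centralizer_singleton_iff.mpr ?_⟩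
      have h1 := mem_centralizer_singleton_iff.mp hwx
      calc m * w * m⁻¹ * t = m * w * (m⁻¹ * (t * m)) * m⁻¹ := by group
        _ = m * w * (m⁻¹ * (m * t)) * m⁻¹ := by rw [hmt]
        _ = m * (w * t) * m⁻¹ := by group
        _ = (m * t) * w * m⁻¹ := by rw [h1]; group
        _ = t * (m * w * m⁻¹) := by rw [hmt]; group
    refine le_of_four C.aa C.zz C.az C.a1 C.z1 C.naz ?_ (hinv a (aN C) hta) (hinv z (zN C) htz) ?_ ?_ ?_
    · exact Odd.of_dvd_nat C.Wodd (card_dvd_of_le inf_le_left)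
    · rintro w ⟨hw, hwx⟩ h1
      refine bal' C.aa C.a1 ht ht1 hta hn ?_ (mem_centralizer_singleton_iff.mp hwx)
      rw [← C.WO a (Or.inl rfl)]
      exact ⟨hw, mem_centralizer_singleton_iff.mpr h1⟩
    · rintro w ⟨hw, hwx⟩ h1
      refine bal' C.zz C.z1 ht ht1 htz hn ?_ (mem_centralizer_singleton_iff.mp hwx)
      rw [← C.WO z (Or.inr (Or.inl rfl))]
      exact ⟨hw, mem_centralizer_singleton_iff.mpr h1⟩
    · rintro w ⟨hw, hwx⟩ h1
      have e : a * z * t = t * (a * z) := (comm_mul hta.symm htz.symm).symm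
      refine bal' (az_sq C) (az_ne C) ht ht1 e hn ?_ (mem_centralizer_singleton_iff.mp hwx)
      rw [← C.WO (a * z) (Or.inr (Or.inr rfl))]
      exact ⟨hw, mem_centralizer_singleton_iff.mpr h1⟩
  exact key ⟨hw, mem_centralizer_singleton_iff.mpr hwt⟩

/-- `W ≤ GA` -/
theorem W_le_GA (C : Conf x a z c i g L P U M W) : W ≤ GA x z := by
  refine le_of_four C.xx C.zz C.xz C.x1 C.z1 C.nxz C.Wodd (nW C (xN C)) (nW C (zN C)) ?_ ?_ ?_
  · exact fun w hw h1 => x_le (W_cen C C.xx C.x1 C.nAx C.ax (zx C) hw h1)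
  · intro w hw h1
    apply z_le
    rw [← C.WO z (Or.inr (Or.inl rfl))]
    exact ⟨hw, mem_centralizer_singleton_iff.mpr h1⟩
  · exact fun w hw h1 => xz_le (W_cen C (sq_xz C) (xz_ne C) (nAxz C) (comm_mul C.ax C.az)
      (comm_mul (zx C) rfl) hw h1)

theorem GA_le_M (C : Conf x a z c i g L P U M W) : GA x z ≤ M := by
  refine sup_le (sup_le C.OxM ?_) ((Oc_z_le C).trans ((W_le_core C).trans (core_le M)))
  intro d hd
  rw [← C.cx, Oc_cj, IntrinsicBasic.mem_cj] at hd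
  have h1 := M.mul_mem (M.mul_mem (cM C) (C.OxM hd)) (M.inv_mem (cM C))
  have e : c * (c⁻¹ * d * c) * c⁻¹ = d := by group
  rwa [e] at h1

/-- `W ≤ O(GA)` -/
theorem W_core (C : Conf x a z c i g L P U M W) : W ≤ core (GA x z) := by
  refine le_core (W_le_GA C) ?_ C.Wodd
  exact fun d hd => mem_normalizer_of_conj (nW C (GA_le_M C hd))

theorem z_core (C : Conf x a z c i g L P U M W) : Oc z ≤ core (GA x z) := (Oc_z_le C).trans (W_core C)

/-! ### `L ∩ O(GA)`, `YY` -/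

theorem YY_le_L (C : Conf x a z c i g L P U M W) : YY x a z ≤ L := by
  unfold YY
  rw [commutator_le]
  rintro d ⟨-, hd⟩ k hk
  have hkL : k ∈ L := (zpowers_le.mpr C.zL) hk
  have h1 : d * k * d⁻¹ ∈ L := conj_mem_of_normalizer (C.LN hd) hkL
  rw [commutatorElement_def]
  exact L.mul_mem h1 (L.inv_mem hkL)

theorem YY_le_Oc (C : Conf x a z c i g L P U M W) : YY x a z ≤ Oc x := by
  unfold YY
  rw [commutator_le]
  rintro d ⟨hd, -⟩ k hk
  have hkx : k * x = x * k := by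
    have h1 : k ∈ centralizer ({x} : Set G) :=
      (zpowers_le.mpr (mem_centralizer_singleton_iff.mpr (zx C))) hk
    exact mem_centralizer_singleton_iff.mp h1
  have h1 : k * d⁻¹ * k⁻¹ ∈ Oc x := conj_Oc_comm hkx (inv_mem hd)
  have e : ⁅d, k⁆ = d * (k * d⁻¹ * k⁻¹) := by rw [commutatorElement_def]; group
  rw [e]
  exact mul_mem hd h1

/-- `L ∩ O(GA) ≤ O(L)` -/
theorem L_core (C : Conf x a z c i g L P U M W) {d : G} (hd : d ∈ L) (hdG : d ∈ core (GA x z)) :
    d ∈ core L := by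
  refine C.Yodd (L ⊓ core (GA x z)) inf_le_left ?_ ?_ ?_ ⟨hd, hdG⟩
  · exact Odd.of_dvd_nat (odd_card_core (GA x z)) (card_dvd_of_le inf_le_right)
  · refine mem_normalizer_of_conj ?_
    rintro r ⟨hr, hr'⟩
    exact ⟨L.mul_mem (L.mul_mem (C.PL C.cP) hr) (L.inv_mem (C.PL C.cP)), core_conj (GA_c C) r hr'⟩
  · intro y hy
    refine mem_normalizer_of_conj ?_
    rintro r ⟨hr, hr'⟩
    exact ⟨L.mul_mem (L.mul_mem (YY_le_L C hy) hr) (L.inv_mem (YY_le_L C hy)),
      conj_core (x_le (YY_le_Oc C hy)) hr'⟩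

/-- `YY` is not centralized by `z` modulo `O(L)` -/
theorem YY_z (C : Conf x a z c i g L P U M W) (h : ∀ y ∈ YY x a z, ⁅z, y⁆ ∈ core L) : False := by
  apply C.YL
  obtain ⟨A, hA⟩ : ∃ A, A = Oc x ⊓ centralizer ({a} : Set G) := ⟨_, rfl⟩
  have hAodd : Odd (Nat.card A) := by
    rw [hA]
    exact Odd.of_dvd_nat (odd_card_core (centralizer ({x} : Set G))) (card_dvd_of_le inf_le_left)
  have hAz : ∀ d ∈ A, z * d * z⁻¹ ∈ A := by
    rw [hA]
    rintro d ⟨hd, hda⟩
    refine ⟨conj_Oc_comm (zx C) hd, mem_centralizer_singleton_iff.mpr ?_⟩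
    have h1 := mem_centralizer_singleton_iff.mp hda
    calc z * d * z⁻¹ * a = z * d * (z⁻¹ * (a * z)) * z⁻¹ := by group
      _ = z * d * (z⁻¹ * (z * a)) * z⁻¹ := by rw [C.az]
      _ = z * (d * a) * z⁻¹ := by group
      _ = (z * a) * d * z⁻¹ := by rw [h1]; group
      _ = a * (z * d * z⁻¹) := by rw [← C.az]; group
  have hz2 : ∀ k ∈ zpowers z, k = 1 ∨ k = z := by
    intro k hk
    obtain ⟨n, rfl⟩ := mem_zpowers_iff.mp hk
    rcases Int.even_or_odd' n with ⟨m, rfl | rfl⟩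
    · left
      rw [zpow_mul, zpow_two, C.zz, one_zpow]
    · right
      rw [zpow_add, zpow_mul, zpow_two, C.zz, one_zpow, one_mul, zpow_one]
  unfold YY
  rw [commutator_le, ← hA]
  intro d hd k hk
  rcases hz2 k hk with rfl | rfl
  · rw [commutatorElement_one_right]
    exact one_mem _
  obtain ⟨e, heA, r, hrA, h1, h2, rfl⟩ := Cfsg.Agent.Lib.KleinGen.exists_fixed_mul_inverted A hAodd
    (MulAut.conj k).toMonoidHom (fun g => by
      change k * (k * g * k⁻¹) * k⁻¹ = g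
      calc k * (k * g * k⁻¹) * k⁻¹ = (k * k) * g * (k * k)⁻¹ := by group
        _ = g := by rw [C.zz]; group) (fun g hg => hAz g hg) hd
  have h1' : k * e * k⁻¹ = e := h1
  have h2' : k * r * k⁻¹ = r⁻¹ := h2
  have hrr : r * r ∈ YY x a k := by
    have h3 : ⁅r, k⁆ ∈ YY x a k := by
      unfold YY
      rw [← hA]
      exact commutator_mem_commutator hrA (mem_zpowers k)
    have h4 : ⁅r, k⁆ = r * r := by
      calc ⁅r, k⁆ = r * (k * r * k⁻¹)⁻¹ := by rw [commutatorElement_def]; group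
        _ = r * r := by rw [h2', inv_inv]
    rwa [h4] at h3
  have h5 := h _ hrr
  have h6 : ⁅k, r * r⁆ = (r * r * (r * r))⁻¹ := by
    calc ⁅k, r * r⁆ = (k * r * k⁻¹) * (k * r * k⁻¹) * (r * r)⁻¹ := by
          rw [commutatorElement_def]; group
      _ = r⁻¹ * r⁻¹ * (r * r)⁻¹ := by rw [h2']
      _ = (r * r * (r * r))⁻¹ := by group
  rw [h6] at h5
  have h7 : r * r * (r * r) ∈ core L := by
    have := inv_mem h5
    rwa [inv_inv] at this
  have hro : Odd (orderOf r) := by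
    have h8 := orderOf_dvd_natCard (⟨r, hrA⟩ : A)
    rw [Subgroup.orderOf_mk] at h8
    exact Odd.of_dvd_nat hAodd h8
  have hro2 : Odd (orderOf (r * r)) := by
    rw [← pow_two]
    exact Odd.of_dvd_nat hro (orderOf_pow_dvd 2)
  have sqm : ∀ t : G, Odd (orderOf t) → t * t ∈ core L → t ∈ core L := by
    intro t ho ht
    obtain ⟨m, hm⟩ := ho
    have h1 : (t * t) ^ (m + 1) = t := by
      rw [← pow_two, ← pow_mul]
      have h2 : 2 * (m + 1) = orderOf t + 1 := by omega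
      rw [h2, pow_succ, pow_orderOf_eq_one, one_mul]
    rw [← h1]
    exact pow_mem ht _
  have h8 : r * r ∈ core L := sqm _ hro2 h7
  have h9 : ⁅e * r, k⁆ = e * (r * r) * e⁻¹ := by
    calc ⁅e * r, k⁆ = e * r * ((k * e * k⁻¹) * (k * r * k⁻¹))⁻¹ := by rw [commutatorElement_def]; group
      _ = e * (r * r) * e⁻¹ := by rw [h1', h2']; group
  rw [h9]
  have heN : e ∈ normalizer (L : Set G) := by
    rw [hA] at heA
    exact C.LN heA.2
  exact conj_mem_core heN h8

/-! ### P10 -/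

/-- the involutions of `U` commuting with `h` lie in `⟨x, z⟩` -/
theorem om_h (C : Conf x a z c i g L P U M W) (B : CaseB x a z h U) {t : G} (ht : t ∈ U) (htt : t * t = 1)
    (hh : h * t = t * h) : t = 1 ∨ t = z ∨ t = x ∨ t = x * z := by
  have e1 : h * t * h⁻¹ = t := conj_eq_of_comm hh
  have ex : h * x * h⁻¹ = x := conj_eq_of_comm B.hx
  have ez : h * z * h⁻¹ = z := C.Uch h B.hU
  have hz1 := C.z1
  rcases C.Ui t ht htt with h1 | h1 | h1 | h1 | h1 | h1 | h1 | h1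
  · exact Or.inl h1
  · exfalso
    rw [h1, B.ha] at e1
    exact hz1 (mul_eq_left.mp e1)
  · exact Or.inr (Or.inr (Or.inl h1))
  · exact Or.inr (Or.inl h1)
  · exfalso
    have e2 : h * (a * x) * h⁻¹ = a * x * z := by
      calc h * (a * x) * h⁻¹ = (h * a * h⁻¹) * (h * x * h⁻¹) := by group
        _ = a * (z * x) := by rw [B.ha, ex]; group
        _ = a * x * z := by rw [zx C]; group
    rw [h1, e2] at e1
    exact hz1 (mul_eq_left.mp e1)
  · exfalso
    have e2 : h * (a * z) * h⁻¹ = a := by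
      calc h * (a * z) * h⁻¹ = (h * a * h⁻¹) * (h * z * h⁻¹) := by group
        _ = a * z * z := by rw [B.ha, ez]
        _ = a := by rw [mul_assoc, C.zz, mul_one]
    rw [h1, e2] at e1
    exact hz1 (left_eq_mul.mp e1)
  · exact Or.inr (Or.inr (Or.inr h1))
  · exfalso
    have e2 : h * (a * x * z) * h⁻¹ = a * x := by
      calc h * (a * x * z) * h⁻¹ = (h * a * h⁻¹) * (h * x * h⁻¹) * (h * z * h⁻¹) := by group
        _ = a * (z * x) * z := by rw [B.ha, ex, ez]; group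
        _ = a * x * (z * z) := by rw [zx C]; group
        _ = a * x := by rw [C.zz, mul_one]
    rw [h1, e2] at e1
    exact hz1 (left_eq_mul.mp e1)

theorem pgroup_zpowers {t : G} (h : ∃ n : ℕ, t ^ 2 ^ n = 1) : IsPGroup 2 ↥(zpowers t) := by
  obtain ⟨n, hn⟩ := h
  rintro ⟨y, hy⟩
  obtain ⟨k, rfl⟩ := mem_zpowers_iff.mp hy
  refine ⟨n, Subtype.ext ?_⟩
  change (t ^ k) ^ 2 ^ n = 1
  rw [← zpow_natCast, ← zpow_mul, mul_comm, zpow_mul, zpow_natCast, hn, one_zpow]

/-- a Sylow 2-subgroup of `C(x)` containing `U` and `h` -/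
theorem exists_V (C : Conf x a z c i g L P U M W) (B : CaseB x a z h U) :
    ∃ V, IsSyl (centralizer ({x} : Set G)) V ∧ U ≤ V ∧ h ∈ V := by
  have h2 : IsPGroup 2 ↥(zpowers h) := pgroup_zpowers B.h2
  have h3 : IsPGroup 2 ↥(zpowers h ⊔ U) := h2.to_sup_of_normal_right' C.U2.two (zpowers_le.mpr B.hU)
  have h4 : zpowers h ⊔ U ≤ centralizer ({x} : Set G) :=
    sup_le (zpowers_le.mpr (mem_centralizer_singleton_iff.mpr B.hx)) (C.U2.le.trans inf_le_right)
  obtain ⟨V, hV, hle⟩ := exists_isSyl h3 h4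
  exact ⟨V, hV, le_sup_right.trans hle, hle (mem_sup_left (mem_zpowers h))⟩

/-- **P10**: `z ∈ Z(V)` -/
theorem zV (C : Conf x a z c i g L P U M W) (B : CaseB x a z h U) {V : Subgroup G}
    (hV : IsSyl (centralizer ({x} : Set G)) V) (hUV : U ≤ V) (hhV : h ∈ V) {v : G} (hv : v ∈ V) :
    v * z = z * v := by
  by_contra hne
  have hhz : h * z = z * h := comm_of_conj_eq (C.Uch h B.hU)
  obtain ⟨K, hK⟩ : ∃ K, K = V ⊓ centralizer ({z} : Set G) := ⟨_, rfl⟩
  have memK : ∀ y, y ∈ K ↔ y ∈ V ∧ y * z = z * y := by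
    intro y
    rw [hK, mem_inf, mem_centralizer_singleton_iff]
  have hKV : K ≤ V := fun y hy => ((memK y).mp hy).1
  have hVK : ¬ V ≤ K := fun h1 => hne ((memK v).mp (h1 hv)).2
  obtain ⟨w, hw, hwC, hn, -⟩ := RankOneR.exists_norm hV.two hKV hVK
  have hwx : w * x = x * w := mem_centralizer_singleton_iff.mp (hV.le hw)
  have haK : a ∈ K := (memK a).mpr ⟨hUV C.Ua, C.az⟩
  have hzK : z ∈ K := (memK z).mpr ⟨hUV C.Uz, rfl⟩
  have hhK : h ∈ K := (memK h).mpr ⟨hhV, hhz⟩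
  have e1 : w * x * w⁻¹ = x := conj_eq_of_comm hwx
  -- `z^w` is central in `K`
  have cen' : ∀ k ∈ K, w * z * w⁻¹ * k = k * (w * z * w⁻¹) := by
    intro k hk
    have h1 : w⁻¹ * k * w ∈ K := inv_of_conj hn k hk
    have h2 := ((memK _).mp h1).2
    calc w * z * w⁻¹ * k = w * (z * (w⁻¹ * k * w)) * w⁻¹ := by group
      _ = w * (w⁻¹ * k * w * z) * w⁻¹ := by rw [h2]
      _ = k * (w * z * w⁻¹) := by group
  have hT : w * z * w⁻¹ ∈ U := cen C hV hUV (hKV (hn z hzK)) (cen' a haK)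
  have hsq : w * z * w⁻¹ * (w * z * w⁻¹) = 1 := by
    calc w * z * w⁻¹ * (w * z * w⁻¹) = w * (z * z) * w⁻¹ := by group
      _ = 1 := by rw [C.zz]; group
  rcases om_h C B hT hsq (cen' h hhK).symm with h1 | h1 | h1 | h1
  · apply C.z1
    calc z = w⁻¹ * (w * z * w⁻¹) * w := by group
      _ = 1 := by rw [h1]; group
  · exact hwC ((memK w).mpr ⟨hw, comm_of_conj_eq h1⟩)
  · apply C.nxz
    have h2 : w * x * w⁻¹ = w * z * w⁻¹ := by rw [e1, h1]
    exact mul_left_cancel (mul_right_cancel h2)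
  · -- `z^w = xz`: `w` normalizes `GA`
    have e3 : w * (x * z) * w⁻¹ = z := by
      calc w * (x * z) * w⁻¹ = (w * x * w⁻¹) * (w * z * w⁻¹) := by group
        _ = x * (x * z) := by rw [e1, h1]
        _ = z := by rw [← mul_assoc, C.xx, one_mul]
    have hG : ∀ d ∈ GA x z, w * d * w⁻¹ ∈ GA x z := by
      refine GA_conj ?_ ?_ ?_
      · rw [e1]; exact x_le
      · rw [h1]; exact xz_le
      · rw [e3]; exact z_le
    have h4 : Oc (x * z) ≤ core (GA x z) := by
      intro d hd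
      rw [← h1, Oc_cj, IntrinsicBasic.mem_cj] at hd
      have h5 := core_conj hG _ (z_core C hd)
      have e : w * (w⁻¹ * d * w) * w⁻¹ = d := by group
      rwa [e] at h5
    have h5 : Oc x ≤ core (GA x z) := by
      intro d hd
      rw [← cxz C, Oc_cj, IntrinsicBasic.mem_cj] at hd
      have h5 := core_conj (GA_c C) _ (h4 hd)
      have e : c * (c⁻¹ * d * c) * c⁻¹ = d := by group
      rwa [e] at h5
    exact C.J1 _ (odd_card_core _) h5 h4

/-! ### P11 -/

/-- the elements of `V` acting trivially on `GA / O(GA)` -/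
def ker (x z : G) (V : Subgroup G) (hV : ∀ v ∈ V, v * x = x * v ∧ v * z = z * v) : Subgroup G where
  carrier := {t | t ∈ V ∧ ∀ d ∈ GA x z, ⁅t, d⁆ ∈ core (GA x z)}
  one_mem' := ⟨V.one_mem, fun d _ => by
    rw [commutatorElement_one_left]
    exact one_mem _⟩
  mul_mem' := by
    rintro s t ⟨hs, hs'⟩ ⟨ht, ht'⟩
    refine ⟨V.mul_mem hs ht, fun d hd => ?_⟩
    have h1 := core_conj (GA_of_comm (hV s hs).1 (hV s hs).2) _ (ht' d hd)
    have e : ⁅s * t, d⁆ = s * ⁅t, d⁆ * s⁻¹ * ⁅s, d⁆ := by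
      rw [commutatorElement_def, commutatorElement_def, commutatorElement_def]
      group
    rw [e]
    exact mul_mem h1 (hs' d hd)
  inv_mem' := by
    rintro s ⟨hs, hs'⟩
    refine ⟨V.inv_mem hs, fun d hd => ?_⟩
    have hi := V.inv_mem hs
    have h1 := core_conj (GA_of_comm (hV _ hi).1 (hV _ hi).2) _ (inv_mem (hs' d hd))
    have e : ⁅s⁻¹, d⁆ = s⁻¹ * ⁅s, d⁆⁻¹ * s⁻¹⁻¹ := by
      rw [commutatorElement_def, commutatorElement_def]
      group
    rw [e]
    exact h1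

/-- `a` acts nontrivially on `GA / O(GA)` -/
theorem a_not_ker (C : Conf x a z c i g L P U M W) (B : CaseB x a z h U)
    (hk : ∀ d ∈ GA x z, ⁅a, d⁆ ∈ core (GA x z)) : False := by
  refine YY_z C fun y hy => ?_
  have hyL := YY_le_L C hy
  have ez : h * z * h⁻¹ = z := C.Uch h B.hU
  have hhz := comm_of_conj_eq ez
  have hG := GA_of_comm B.hx hhz
  have h1 := hk (h * y * h⁻¹) (x_le (conj_Oc_comm B.hx (YY_le_Oc C hy)))
  have h2 := core_conj_inv hG _ h1
  have ea : h⁻¹ * a * h = a * z := by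
    have h3 : h * (a * z) * h⁻¹ = a := by
      calc h * (a * z) * h⁻¹ = (h * a * h⁻¹) * (h * z * h⁻¹) := by group
        _ = a * z * z := by rw [B.ha, ez]
        _ = a := by rw [mul_assoc, C.zz, mul_one]
    calc h⁻¹ * a * h = h⁻¹ * (h * (a * z) * h⁻¹) * h := by rw [h3]
      _ = a * z := by group
  have hzy : z * y * z⁻¹ ∈ L := L.mul_mem (L.mul_mem C.zL hyL) (L.inv_mem C.zL)
  have hac : ∀ l ∈ L, l * a = a * l := fun l hl => mem_centralizer_singleton_iff.mp (C.tri.comp.le hl)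
  have h3 : h⁻¹ * ⁅a, h * y * h⁻¹⁆ * h = ⁅z, y⁆ := by
    calc h⁻¹ * ⁅a, h * y * h⁻¹⁆ * h = (h⁻¹ * a * h) * y * (h⁻¹ * a * h)⁻¹ * y⁻¹ := by
          rw [commutatorElement_def]; group
      _ = a * (z * y * z⁻¹) * a⁻¹ * y⁻¹ := by rw [ea]; group
      _ = (z * y * z⁻¹) * y⁻¹ := by rw [← hac _ hzy]; group
      _ = ⁅z, y⁆ := by rw [commutatorElement_def]
  rw [h3] at h2
  refine L_core C ?_ h2
  rw [commutatorElement_def]
  exact L.mul_mem hzy (L.inv_mem hyL)

/-- elements of `C_V(a)` acting trivially on `GA / O(GA)` are trivial -/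
theorem ker_a (C : Conf x a z c i g L P U M W) (B : CaseB x a z h U) {t : G} (hta : t * a = a * t)
    (htx : t * x = x * t) (h2 : ∃ n : ℕ, t ^ 2 ^ n = 1) (hk : ∀ d ∈ GA x z, ⁅t, d⁆ ∈ core (GA x z)) :
    t = 1 := by
  have htN : t ∈ normalizer (L : Set G) := C.LN (mem_centralizer_singleton_iff.mpr hta)
  have key : ∀ y ∈ L, y ∈ GA x z → ⁅t, y⁆ ∈ core L := by
    intro y hy hyG
    refine L_core C ?_ (hk y hyG)
    rw [commutatorElement_def]
    exact L.mul_mem (conj_mem_of_normalizer htN hy) (L.inv_mem hy)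
  rcases C.two t hta htx h2 (fun y hy => ⟨key y (YY_le_L C hy) (x_le (YY_le_Oc C hy)),
    key _ (L.mul_mem (L.mul_mem (C.PL C.cP) (YY_le_L C hy)) (L.inv_mem (C.PL C.cP)))
      (GA_c C _ (x_le (YY_le_Oc C hy)))⟩) with h3 | h3
  · exact h3
  · exfalso
    rw [h3] at hk
    exact a_not_ker C B hk

/-- **P11**, for elements of `V` -/
theorem ker_V (C : Conf x a z c i g L P U M W) (B : CaseB x a z h U) {V : Subgroup G}
    (hV : IsSyl (centralizer ({x} : Set G)) V) (hUV : U ≤ V) (hhV : h ∈ V) {t : G} (ht : t ∈ V)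
    (hk : ∀ d ∈ GA x z, ⁅t, d⁆ ∈ core (GA x z)) : t = 1 := by
  have hp : Fact (Nat.Prime 2) := ⟨Nat.prime_two⟩
  have hVc : ∀ v ∈ V, v * x = x * v ∧ v * z = z * v := fun v hv =>
    ⟨mem_centralizer_singleton_iff.mp (hV.le hv), zV C B hV hUV hhV hv⟩
  obtain ⟨K, hK⟩ : ∃ K, K = ker x z V hVc := ⟨_, rfl⟩
  have hKV : K ≤ V := by
    rw [hK]
    exact fun y hy => hy.1
  have htK : t ∈ K := by
    rw [hK]
    exact ⟨ht, hk⟩
  have hKn : ∀ v ∈ V, ∀ y ∈ K, v * y * v⁻¹ ∈ K := by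
    rw [hK]
    rintro v hv y ⟨hy, hy'⟩
    refine ⟨V.mul_mem (V.mul_mem hv hy) (V.inv_mem hv), fun d hd => ?_⟩
    have hG := GA_of_comm (hVc v hv).1 (hVc v hv).2
    have h1 := hy' _ (inv_of_conj hG d hd)
    have h2 := core_conj hG _ h1
    have e : v * ⁅y, v⁻¹ * d * v⁆ * v⁻¹ = ⁅v * y * v⁻¹, d⁆ := by
      rw [commutatorElement_def, commutatorElement_def]
      group
    rwa [e] at h2
  by_contra ht1
  have : Group.IsNilpotent ↥V := hV.two.isNilpotent
  have hnorm : (K.subgroupOf V).Normal := by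
    refine ⟨fun y hy v => ?_⟩
    exact hKn v v.2 _ hy
  have hne : K.subgroupOf V ≠ ⊥ := by
    intro h1
    have h2 : (⟨t, ht⟩ : ↥V) ∈ K.subgroupOf V := htK
    rw [h1, mem_bot] at h2
    exact ht1 (congrArg Subtype.val h2)
  obtain ⟨⟨s, hs, hs'⟩, hs1⟩ := (Subgroup.ne_bot_iff_exists_ne_one).mp
    (NormalAbelian.normal_inf_center_ne_bot (K.subgroupOf V) hne)
  have hsK : (s : G) ∈ K := hs
  have hsa : (s : G) * a = a * s :=
    (congrArg Subtype.val (mem_center_iff.mp hs' ⟨a, hUV C.Ua⟩)).symm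
  apply hs1
  refine Subtype.ext (Subtype.ext ?_)
  refine ker_a C B hsa (hVc s s.2).1 ?_ ?_
  · obtain ⟨n, hn⟩ := hV.two s
    exact ⟨n, congrArg Subtype.val hn⟩
  · rw [hK] at hsK
    exact hsK.2

/-- **P11** -/
theorem ker_all (C : Conf x a z c i g L P U M W) (B : CaseB x a z h U) {t : G} (htx : t * x = x * t)
    (htz : t * z = z * t) (h2 : ∃ n : ℕ, t ^ 2 ^ n = 1) (hk : ∀ d ∈ GA x z, ⁅t, d⁆ ∈ core (GA x z)) :
    t = 1 := by
  obtain ⟨V, hV, hUV, hhV⟩ := exists_V C B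
  have hVz : V ≤ centralizer ({z} : Set G) := fun v hv =>
    mem_centralizer_singleton_iff.mpr (zV C B hV hUV hhV hv)
  have hV' : IsSyl (centralizer ({x} : Set G) ⊓ centralizer ({z} : Set G)) V :=
    ⟨hV.two, le_inf hV.le hVz, fun R h3 h4 h5 => hV.max R h3 (h4.trans inf_le_left) h5⟩
  obtain ⟨y, hy, hle⟩ := hV'.conj (pgroup_zpowers h2) (zpowers_le.mpr
    ⟨mem_centralizer_singleton_iff.mpr htx, mem_centralizer_singleton_iff.mpr htz⟩)
  have hyx := mem_centralizer_singleton_iff.mp hy.1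
  have hyz := mem_centralizer_singleton_iff.mp hy.2
  have h3 : y⁻¹ * t * y ∈ V := IntrinsicBasic.mem_cj.mp (hle (mem_zpowers t))
  have hG := GA_of_comm hyx hyz
  have h4 : y⁻¹ * t * y = 1 := by
    refine ker_V C B hV hUV hhV h3 fun d hd => ?_
    have h5 := core_conj_inv hG _ (hk _ (hG d hd))
    have e : y⁻¹ * ⁅t, y * d * y⁻¹⁆ * y = ⁅y⁻¹ * t * y, d⁆ := by
      rw [commutatorElement_def, commutatorElement_def]
      group
    rwa [e] at h5
  calc t = y * (y⁻¹ * t * y) * y⁻¹ := by group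
    _ = 1 := by rw [h4]; group

/-! ### P12 -/

/-- `GA` is generated by `O_x, O_xz, O_z` -/
theorem comm_GA {x z t : G} (h1 : ∀ d ∈ Oc x, ⁅t, d⁆ ∈ core (GA x z)) (h2 : ∀ d ∈ Oc (x * z), ⁅t, d⁆ ∈ core (GA x z))
    (h3 : ∀ d ∈ Oc z, ⁅t, d⁆ ∈ core (GA x z)) : ∀ d ∈ GA x z, ⁅t, d⁆ ∈ core (GA x z) := by
  let K : Subgroup G :=
    { carrier := {d | d ∈ GA x z ∧ ⁅t, d⁆ ∈ core (GA x z)}
      one_mem' := ⟨one_mem _, by rw [commutatorElement_one_right]; exact one_mem _⟩
      mul_mem' := by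
        rintro d e ⟨hd, hd'⟩ ⟨he, he'⟩
        refine ⟨mul_mem hd he, ?_⟩
        have h4 : ⁅t, d * e⁆ = ⁅t, d⁆ * (d * ⁅t, e⁆ * d⁻¹) := by
          rw [commutatorElement_def, commutatorElement_def, commutatorElement_def]
          group
        rw [h4]
        exact mul_mem hd' (conj_core hd he')
      inv_mem' := by
        rintro d ⟨hd, hd'⟩
        refine ⟨inv_mem hd, ?_⟩
        have h4 : ⁅t, d⁻¹⁆ = d⁻¹ * ⁅t, d⁆⁻¹ * d⁻¹⁻¹ := by
          rw [commutatorElement_def, commutatorElement_def]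
          group
        rw [h4]
        exact conj_core (inv_mem hd) (inv_mem hd') }
  have h4 : GA x z ≤ K := by
    refine sup_le (sup_le ?_ ?_) ?_
    · exact fun d hd => ⟨x_le hd, h1 d hd⟩
    · exact fun d hd => ⟨xz_le hd, h2 d hd⟩
    · exact fun d hd => ⟨z_le hd, h3 d hd⟩
  exact fun d hd => (h4 hd).2

/-- `z` is isolated in `V` (with respect to `C(x)`) -/
theorem iso (C : Conf x a z c i g L P U M W) (B : CaseB x a z h U) {V : Subgroup G}
    (hV : IsSyl (centralizer ({x} : Set G)) V) (hUV : U ≤ V) (hhV : h ∈ V) {y : G} (hy : y * x = x * y)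
    (hyV : y * z * y⁻¹ ∈ V) : y * z * y⁻¹ = z := by
  obtain ⟨w, hw⟩ : ∃ w, w = y * z * y⁻¹ := ⟨_, rfl⟩
  rw [← hw] at hyV ⊢
  have hwz : w * z = z * w := zV C B hV hUV hhV hyV
  have hwx : w * x = x * w := mem_centralizer_singleton_iff.mp (hV.le hyV)
  have hww : w * w = 1 := by
    rw [hw]
    calc y * z * y⁻¹ * (y * z * y⁻¹) = y * (z * z) * y⁻¹ := by group
      _ = 1 := by rw [C.zz]; group
  have hw1 : w ≠ 1 := by
    intro h1
    apply C.z1
    calc z = y⁻¹ * (y * z * y⁻¹) * y := by group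
      _ = 1 := by rw [← hw, h1]; group
  have eyx : y * x * y⁻¹ = x := conj_eq_of_comm hy
  have exw : y * (x * z) * y⁻¹ = x * w := by
    calc y * (x * z) * y⁻¹ = (y * x * y⁻¹) * (y * z * y⁻¹) := by group
      _ = x * w := by rw [eyx, hw]
  have hxw : x * w * (x * w) = 1 := by
    calc x * w * (x * w) = x * (w * x) * w := by group
      _ = (x * x) * (w * w) := by rw [hwx]; group
      _ = 1 := by rw [C.xx, hww, mul_one]
  have hxw1 : x * w ≠ 1 := by
    intro h1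
    rw [← exw] at h1
    apply xz_ne C
    calc x * z = y⁻¹ * (y * (x * z) * y⁻¹) * y := by group
      _ = 1 := by rw [h1]; group
  -- `GA^y = GA`
  have hG : ∀ d ∈ GA x z, y * d * y⁻¹ ∈ GA x z := by
    refine GA_conj ?_ ?_ ?_
    · rw [eyx]; exact x_le
    · rw [← hw]; exact star_le C hww hw1 hwx hwz
    · rw [exw]
      refine star_le C hxw hxw1 ?_ ?_
      · calc x * w * x = x * (w * x) := by group
          _ = x * (x * w) := by rw [hwx]
      · calc x * w * z = x * (w * z) := by group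
          _ = (x * z) * w := by rw [hwz]; group
          _ = z * (x * w) := by rw [C.xz]; group
  -- `O(C(w)) ≤ O(GA)`
  have hwc : Oc w ≤ core (GA x z) := by
    intro d hd
    rw [hw, Oc_cj, IntrinsicBasic.mem_cj] at hd
    have h5 := core_conj hG _ (z_core C hd)
    have e : y * (y⁻¹ * d * y) * y⁻¹ = d := by group
    rwa [e] at h5
  have nAw : ¬ AT w := by
    rw [hw]
    exact not_AT_conj C.nAz y
  -- `z` and `w` invert `O_x` and `O_xz` modulo `O(GA)`
  have key : ∀ u : G, u * u = 1 → u ≠ 1 → u * z = z * u → u * w = w * u → Oc u ≤ GA x z →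
      ∀ d ∈ Oc u, ⁅w * z, d⁆ ∈ core (GA x z) := by
    intro u hu hu1 huz huw hle d hd
    have h1 := Tools.inverts (M := GA x z) (odd_card_core _) C.zz (fun d hd => conj_Oc_comm huz.symm hd) hle
      (fun d hd h3 => z_core C (bal' hu hu1 C.zz C.z1 huz C.nAz hd h3)) hd
    have h1' : z * d * z⁻¹ ∈ Oc u := conj_Oc_comm huz.symm hd
    have h2 := Tools.inverts (M := GA x z) (odd_card_core _) hww (fun d hd => conj_Oc_comm huw.symm hd) hle
      (fun d hd h3 => hwc (bal' hu hu1 hww hw1 huw nAw hd h3)) h1'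
    -- `w (z d z⁻¹) w⁻¹ (z d z⁻¹) ∈ N`, `z d z⁻¹ d ∈ N`
    have e : ⁅w * z, d⁆ = (w * (z * d * z⁻¹) * w⁻¹ * (z * d * z⁻¹)) *
        (d * (z * d * z⁻¹ * d) * d⁻¹)⁻¹ := by
      rw [commutatorElement_def]
      group
    rw [e]
    exact mul_mem h2 (inv_mem (conj_core (hle hd) h1))
  have hwzx : w * z * x = x * (w * z) := by
    calc w * z * x = w * (z * x) := by group
      _ = (w * x) * z := by rw [zx C]; group
      _ = x * (w * z) := by rw [hwx]; group
  have hwzz : w * z * z = z * (w * z) := by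
    calc w * z * z = z * w * z := by rw [hwz]
      _ = z * (w * z) := by group
  have hk : ∀ d ∈ GA x z, ⁅w * z, d⁆ ∈ core (GA x z) := by
    refine comm_GA ?_ ?_ ?_
    · exact key x C.xx C.x1 C.xz hwx.symm x_le
    · refine key (x * z) (sq_xz C) (xz_ne C) (comm_mul (zx C) rfl).symm ?_ xz_le
      exact (comm_mul hwx hwz).symm
    · intro d hd
      have h6 := core_conj (GA_of_comm hwzx hwzz) _ (z_core C hd)
      rw [commutatorElement_def]
      exact mul_mem h6 (inv_mem (z_core C hd))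
  have h5 : w * z = 1 := by
    refine ker_all C B hwzx hwzz ?_ hk
    · refine ⟨1, ?_⟩
      rw [pow_one, pow_two]
      calc w * z * (w * z) = w * (z * w) * z := by group
        _ = (w * w) * (z * z) := by rw [← hwz]; group
        _ = 1 := by rw [hww, C.zz, mul_one]
  calc w = w * z * z⁻¹ := by group
    _ = z := by rw [h5, one_mul, inv_of_sq C.zz]

/-- **P12**: `[C(x), z] ≤ O(C(x))` -/
theorem hz (C : Conf x a z c i g L P U M W) (B : CaseB x a z h U) : Hz z x := by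
  obtain ⟨V, hV, hUV, hhV⟩ := exists_V C B
  intro y hy
  refine comm_symm ?_
  rw [commutatorElement_def]
  refine FourA.Zst.zstar_sub hV.two hV.le (fun R h1 h2 h3 => (hV.max R h1 h3 h2).le) (order_two C.zz C.z1)
    (hUV C.Uz) ?_ y (mem_centralizer_singleton_iff.mpr hy)
  intro g hg hgV
  exact iso C B hV hUV hhV (mem_centralizer_singleton_iff.mp hg) hgV

/-! ### P13 -/

theorem le_GA (C : Conf x a z c i g L P U M W) (B : CaseB x a z h U) : L ≤ GA x z := by
  have hz1 := hz C B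
  have hz2 : Hz z (x * z) := by
    have := hz1.cj (cz C)
    rwa [C.cx] at this
  refine C.gen _ ((core_L_le C).trans ((Oc_a_le C).trans (W_le_GA C))) ?_ ?_
  · exact fun w _ hw => x_le (hz1 w hw)
  · exact fun w _ hw => xz_le (hz2 w hw)

/-- `x` is not conjugate to `z` -/
theorem not_conj (C : Conf x a z c i g L P U M W) (B : CaseB x a z h U) (y : G) : y * x * y⁻¹ ≠ z := by
  intro hy
  obtain ⟨V, hV, hUV, hhV⟩ := exists_V C B
  have h1 : IsSyl (centralizer ({z} : Set G)) (cj y V) := by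
    have h2 := Q2.Om.isSyl_cj hV y
    rwa [IntrinsicBasic.cj_centralizer, hy] at h2
  have hmem : ∀ v ∈ V, y * v * y⁻¹ ∈ cj y V := by
    intro v hv
    rw [IntrinsicBasic.mem_cj]
    have e : y⁻¹ * (y * v * y⁻¹) * y = v := by group
    rwa [e]
  have h2 := C.Zz _ h1 (y * z * y⁻¹) (hmem z (hUV C.Uz)) (by
    calc y * z * y⁻¹ * (y * z * y⁻¹) = y * (z * z) * y⁻¹ := by group
      _ = 1 := by rw [C.zz]; group) (by
    intro t ht
    have h3 := zV C B hV hUV hhV (IntrinsicBasic.mem_cj.mp ht)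
    calc y * z * y⁻¹ * t = y * (z * (y⁻¹ * t * y)) * y⁻¹ := by group
      _ = y * (y⁻¹ * t * y * z) * y⁻¹ := by rw [h3]
      _ = t * (y * z * y⁻¹) := by group)
  rcases h2 with h3 | h3
  · apply C.z1
    calc z = y⁻¹ * (y * z * y⁻¹) * y := by group
      _ = 1 := by rw [h3]; group
  · apply C.nxz
    calc x = y⁻¹ * (y * x * y⁻¹) * y := by group
      _ = y⁻¹ * (y * z * y⁻¹) * y := by rw [hy, h3]
      _ = z := by group

/-- the order of `K ∪ Kz` -/
theorem card_ext {K : Subgroup G} {t : G} (htt : t * t = 1) (hn : ∀ q ∈ K, t * q * t⁻¹ ∈ K) (ht : t ∉ K) :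
    Nat.card (FourA.Zst.ext K htt hn) = 2 * Nat.card K := by
  have hle : K ≤ FourA.Zst.ext K htt hn := fun y hy => Or.inl hy
  have htm : t ∈ FourA.Zst.ext K htt hn := Or.inr (by rw [htt]; exact one_mem _)
  have hi : (K.subgroupOf (FourA.Zst.ext K htt hn)).index = 2 := by
    rw [index_eq_two_iff]
    refine ⟨⟨t, htm⟩, ?_⟩
    rintro ⟨b, hb⟩
    rw [mem_subgroupOf, mem_subgroupOf]
    rcases hb with hb | hb
    · right
      refine ⟨hb, fun h => ht ?_⟩
      have := mul_mem (inv_mem hb) h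
      rwa [Subgroup.coe_mul, inv_mul_cancel_left] at this
    · left
      refine ⟨hb, fun h => ht ?_⟩
      have h3 : b⁻¹ * (b * t) ∈ K := mul_mem (inv_mem h) hb
      rwa [inv_mul_cancel_left] at h3
  have h1 := (K.subgroupOf (FourA.Zst.ext K htt hn)).card_mul_index
  rw [hi, Nat.card_congr (subgroupOfEquivOfLe hle).toEquiv] at h1
  omega

/-- `x` lies in no elementary abelian group of order 16 -/
theorem not_high (C : Conf x a z c i g L P U M W) (B : CaseB x a z h U) : ¬ High x := by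
  have hp : Fact (Nat.Prime 2) := ⟨Nat.prime_two⟩
  rintro ⟨E, hE, hE16, hxE⟩
  obtain ⟨V, hV, hUV, hhV⟩ := exists_V C B
  have hcomm : ∀ e ∈ E, ∀ f ∈ E, e * f = f * e := by
    intro e he f hf
    have h1 := hE _ (E.mul_mem he hf)
    calc e * f = (e * f)⁻¹ := (inv_of_sq h1).symm
      _ = f⁻¹ * e⁻¹ := mul_inv_rev _ _
      _ = f * e := by rw [inv_of_sq (hE f hf), inv_of_sq (hE e he)]
  have hEp : IsPGroup 2 ↥E := IsPGroup.of_card (n := 4) (by rw [hE16]; norm_num)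
  have hEx : E ≤ centralizer ({x} : Set G) := fun e he =>
    mem_centralizer_singleton_iff.mpr (hcomm e he x hxE)
  obtain ⟨y, hy, hle⟩ := hV.conj hEp hEx
  have hyx := mem_centralizer_singleton_iff.mp hy
  -- `E' = E^(y⁻¹) ≤ V`
  have hE'V : cj y⁻¹ E ≤ V := by
    intro e he
    have h1 := IntrinsicBasic.mem_cj.mp (hle (IntrinsicBasic.mem_cj.mp he))
    have e1 : y⁻¹ * (y⁻¹⁻¹ * e * y⁻¹) * y = e := by group
    rwa [e1] at h1
  have hxE' : x ∈ cj y⁻¹ E := by
    rw [IntrinsicBasic.mem_cj]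
    have e1 : y⁻¹⁻¹ * x * y⁻¹ = x := by
      rw [inv_inv]
      exact conj_eq_of_comm hyx
    rwa [e1]
  have hE' : ∀ e ∈ cj y⁻¹ E, e * e = 1 := by
    intro e he
    have h1 := hE _ (IntrinsicBasic.mem_cj.mp he)
    calc e * e = y⁻¹ * ((y⁻¹⁻¹ * e * y⁻¹) * (y⁻¹⁻¹ * e * y⁻¹)) * y := by group
      _ = 1 := by rw [h1]; group
  have hE'16 : Nat.card ↥(cj y⁻¹ E) = 16 := by rw [card_cj, hE16]
  have hz' : z ∉ cj y⁻¹ E := C.noE _ hE' hE'16 hxE'
  -- a subgroup of order 8 containing `x`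
  have hx2 : Nat.card (zpowers (⟨x, hxE'⟩ : ↥(cj y⁻¹ E))) = 2 ^ 1 := by
    rw [Nat.card_zpowers, Subgroup.orderOf_mk, order_two C.xx C.x1, pow_one]
  obtain ⟨K, hK8, hxK⟩ := Sylow.exists_subgroup_card_pow_prime_le (G := ↥(cj y⁻¹ E)) 2 (n := 1) (m := 3)
    (by rw [hE'16]; norm_num) _ hx2 (by norm_num)
  obtain ⟨K', hK'⟩ : ∃ K' : Subgroup G, K' = K.map (cj y⁻¹ E).subtype := ⟨_, rfl⟩
  have hK'E : K' ≤ cj y⁻¹ E := by rw [hK']; exact map_subtype_le _
  have hK'8 : Nat.card K' = 8 := by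
    rw [hK', Subgroup.card_map_of_injective (cj y⁻¹ E).subtype_injective, hK8]
    norm_num
  have hxK' : x ∈ K' := by
    rw [hK']
    exact ⟨⟨x, hxE'⟩, hxK (mem_zpowers _), rfl⟩
  have hzK' : ∀ q ∈ K', q * z = z * q := fun q hq => zV C B hV hUV hhV (hE'V (hK'E hq))
  have hn : ∀ q ∈ K', z * q * z⁻¹ ∈ K' := by
    intro q hq
    rw [conj_eq_of_comm (hzK' q hq).symm]
    exact hq
  have hzn : z ∉ K' := fun h1 => hz' (hK'E h1)
  refine C.noE (FourA.Zst.ext K' C.zz hn) ?_ ?_ (Or.inl hxK') (Or.inr (by rw [C.zz]; exact one_mem _))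
  · rintro e (he | he)
    · exact hE' e (hK'E he)
    · have h1 := hE' _ (hK'E he)
      have h2 := hzK' _ he
      calc e * e = (e * z) * (z⁻¹ * (e * z)) * z⁻¹ := by group
        _ = (e * z) * (z * (e * z)) * z⁻¹ := by rw [inv_of_sq C.zz]
        _ = (e * z) * (e * z * z) * z⁻¹ := by rw [h2]
        _ = (e * z) * (e * z) := by group
        _ = 1 := h1
  · rw [card_ext C.zz hn hzn, hK'8]

/-- **(IV)**: the output of P10-P13 -/
theorem gam_of (C : Conf x a z c i g L P U M W) (B : CaseB x a z h U) : Gam x a z c h L U M W where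
  toCaseB := B
  hz := C.Uch h B.hU
  star := hz C B
  ker := fun _ h1 h2 h3 h4 => ker_all C B h1 h2 h3 h4
  le := le_GA C B
  GAM := GA_le_M C
  Ozle := z_core C
  Wle := W_core C
  nxz' := not_conj C B
  nHigh := not_high C B

end Cfsg.Agent.UGT.PQ.Gamma
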