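import Cfsg.Agent.UGT.FourB.KB
import Cfsg.Agent.Lib.SolvableMinNormal

/-!
# (Q2), P6 (k1): subgroups of odd order of `L ≅ PSL(2,F)` containing an element of the torus of an involution of
PGL type, `-1` a square in `F`

`odd_fix`: `α` an involution of PGL type, `H ≤ L` solvable of odd order, `1 ≠ y ∈ H`, `α y = y` ⇒ `α` fixes all
elements of `H`.
-/

set_option autoImplicit false

namespace Cfsg.Agent.UGT.PQ.OddSub

open Matrix Cfsg.Agent.Lib.SL2Mat Cfsg.Agent.GH.L2Aut Cfsg.Agent.OddHalf.D6 Cfsg.Agent.OddCyclic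

section mat

variable {F : Type*} [Field F]

local notation "SL2" => Matrix.SpecialLinearGroup (Fin 2) F
local notation "M2" => Matrix (Fin 2) (Fin 2) F

theorem mat_mul' (A B : M2) (i j : Fin 2) : (A * B) i j = A i 0 * B 0 j + A i 1 * B 1 j := by
  rw [Matrix.mul_apply, Fin.sum_univ_two]

omit [Field F] in
theorem mat_ext' {A B : M2} (h00 : A 0 0 = B 0 0) (h01 : A 0 1 = B 0 1) (h10 : A 1 0 = B 1 0)
    (h11 : A 1 1 = B 1 1) : A = B := by
  ext i j
  fin_cases i <;> fin_cases j <;> assumption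

theorem lemA {N g : M2} (hN : N ≠ 0) (htr : N 0 0 + N 1 1 = 0) (hdet : N 0 0 * N 1 1 - N 0 1 * N 1 0 = 0)
    (gtr : g 0 0 + g 1 1 = 0)
    (h : N 0 0 * g 0 0 + N 0 1 * g 1 0 + N 1 0 * g 0 1 + N 1 1 * g 1 1 = 0) :
    IsSquare (-(g 0 0 * g 1 1 - g 0 1 * g 1 0)) := by
  obtain ⟨p, hp⟩ : ∃ p, p = N 0 0 := ⟨_, rfl⟩
  obtain ⟨q, hq⟩ : ∃ q, q = N 0 1 := ⟨_, rfl⟩
  obtain ⟨r, hr⟩ : ∃ r, r = N 1 0 := ⟨_, rfl⟩
  obtain ⟨x, hx⟩ : ∃ x, x = g 0 0 := ⟨_, rfl⟩
  obtain ⟨y, hy⟩ : ∃ y, y = g 0 1 := ⟨_, rfl⟩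
  obtain ⟨w, hw⟩ : ∃ w, w = g 1 0 := ⟨_, rfl⟩
  have h11 : N 1 1 = -p := by rw [hp]; linear_combination htr
  have g11 : g 1 1 = -x := by rw [hx]; linear_combination gtr
  rw [h11, ← hp, ← hq, ← hr] at hdet
  rw [h11, g11, ← hp, ← hq, ← hr, ← hx, ← hy, ← hw] at h
  rw [g11, ← hx, ← hy, ← hw]
  by_cases hq0 : q = 0
  · rw [hq0] at hdet h
    have hp0 : p = 0 := by
      have : p * p = 0 := by linear_combination -hdet
      exact mul_self_eq_zero.1 this
    have hr0 : r ≠ 0 := by
      intro hr0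
      apply hN
      apply mat_ext'
      · rw [← hp, hp0]; rfl
      · rw [← hq, hq0]; rfl
      · rw [← hr, hr0]; rfl
      · rw [h11, hp0, neg_zero]; rfl
    have hy0 : y = 0 := by
      rw [hp0] at h
      have : r * y = 0 := by linear_combination h
      exact (mul_eq_zero.1 this).resolve_left hr0
    exact ⟨x, by rw [hy0]; ring⟩
  · refine ⟨x - p * y / q, ?_⟩
    field_simp
    have e1 : q * w = -(2 * p * x + r * y) := by linear_combination h
    have e2 : q * r = -(p * p) := by linear_combination -hdet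
    linear_combination q * y * e1 - y * y * e2

/-- `N g N = tr(N g) N` if `det N = 0` -/
theorem nil_mul {N g : M2} (hdet : N 0 0 * N 1 1 - N 0 1 * N 1 0 = 0) :
    N * g * N = (N 0 0 * g 0 0 + N 0 1 * g 1 0 + N 1 0 * g 0 1 + N 1 1 * g 1 1) • N := by
  apply mat_ext' <;> simp only [mat_mul', Matrix.smul_apply, smul_eq_mul]
  · linear_combination (-(g 1 1)) * hdet
  · linear_combination (g 0 1) * hdet
  · linear_combination (g 1 0) * hdet
  · linear_combination (-(g 0 0)) * hdet

/-- the conjugate of `m` commutes with `m` -/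
theorem step (h2 : (2 : F) ≠ 0) {m s : SL2} (hm : ∀ c : F, m.1 ≠ c • (1 : M2))
    (hc : m * (s * m * s⁻¹) = s * m * s⁻¹ * m) :
    ((m.1 0 0 + m.1 1 1) ^ 2 ≠ 4 → s * m * s⁻¹ = m ∨ s * m * s⁻¹ = m⁻¹) ∧
      ((m.1 0 0 + m.1 1 1) ^ 2 = 4 → ∃ b : F, s.1 * (m.1 - ((m.1 0 0 + m.1 1 1) / 2) • (1 : M2)) =
        b • ((m.1 - ((m.1 0 0 + m.1 1 1) / 2) • (1 : M2)) * s.1)) := by
  obtain ⟨m', hm'⟩ : ∃ m', m' = s * m * s⁻¹ := ⟨_, rfl⟩
  rw [← hm'] at hc ⊢
  have hc1 : m.1 * m'.1 = m'.1 * m.1 := congrArg Subtype.val hc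
  obtain ⟨a, b, hab⟩ := exists_ab hm hc1
  obtain ⟨t, ht⟩ : ∃ t, t = m.1 0 0 + m.1 1 1 := ⟨_, rfl⟩
  rw [← ht]
  have hsm : s.1 * m.1 = m'.1 * s.1 := by
    have h3 : s * m = m' * s := by rw [hm']; group
    exact congrArg Subtype.val h3
  -- the trace
  have htr : m'.1 0 0 + m'.1 1 1 = t := by
    have h3 : m'.1.trace = m.1.trace := by
      have h4 : m'.1 = s.1 * m.1 * (s⁻¹).1 := by rw [hm']; rfl
      rw [h4, Matrix.trace_mul_comm, ← Matrix.mul_assoc]
      have h5 : (s⁻¹).1 * s.1 = 1 := by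
        have : s⁻¹ * s = 1 := inv_mul_cancel s
        exact congrArg Subtype.val this
      rw [h5, Matrix.one_mul]
    rw [Matrix.trace_fin_two, Matrix.trace_fin_two, ← ht] at h3
    exact h3
  have e00 : m'.1 0 0 = a + b * m.1 0 0 := by
    have := congrFun (congrFun hab 0) 0
    simpa using this
  have e01 : m'.1 0 1 = b * m.1 0 1 := by
    have := congrFun (congrFun hab 0) 1
    simpa using this
  have e10 : m'.1 1 0 = b * m.1 1 0 := by
    have := congrFun (congrFun hab 1) 0
    simpa using this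
  have e11 : m'.1 1 1 = a + b * m.1 1 1 := by
    have := congrFun (congrFun hab 1) 1
    simpa using this
  have ha : 2 * a = t * (1 - b) := by
    rw [e00, e11] at htr
    linear_combination htr + b * ht
  have hd : m.1 0 0 * m.1 1 1 - m.1 0 1 * m.1 1 0 = 1 := by
    have := m.2
    rwa [Matrix.det_fin_two] at this
  have hd' : m'.1 0 0 * m'.1 1 1 - m'.1 0 1 * m'.1 1 0 = 1 := by
    have := m'.2
    rwa [Matrix.det_fin_two] at this
  rw [e00, e01, e10, e11] at hd'
  have h4 : a ^ 2 + a * b * t + b ^ 2 = 1 := by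
    linear_combination hd' - b ^ 2 * hd + a * b * ht
  have key : (1 - b) * (1 + b) * (t ^ 2 - 4) = 0 := by
    linear_combination 4 * h4 - (2 * a + t * (1 - b) + 2 * b * t) * ha
  constructor
  · intro ht4
    have h5 : (1 - b) * (1 + b) = 0 := (mul_eq_zero.1 key).resolve_right (fun h => ht4 (by
      linear_combination h))
    rcases mul_eq_zero.1 h5 with h6 | h6
    · left
      have hb : b = 1 := by linear_combination -h6
      have ha0 : a = 0 := by
        rw [hb] at ha
        have : 2 * a = 0 := by linear_combination ha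
        exact (mul_eq_zero.1 this).resolve_left h2
      apply Subtype.ext
      rw [hab, ha0, hb, zero_smul, zero_add, one_smul]
    · right
      have hb : b = -1 := by linear_combination h6
      have hat : a = t := by
        rw [hb] at ha
        have : 2 * (a - t) = 0 := by linear_combination ha
        have := (mul_eq_zero.1 this).resolve_left h2
        linear_combination this
      apply Subtype.ext
      have h7 : (m⁻¹).1 = m.1.adjugate := rfl
      rw [h7, Matrix.adjugate_fin_two]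
      apply mat_ext'
      · rw [e00, hat, hb, ht]; simp
      · rw [e01, hb]; simp
      · rw [e10, hb]; simp
      · rw [e11, hat, hb, ht]; simp
  · intro ht4
    refine ⟨b, ?_⟩
    have ha' : a = t / 2 * (1 - b) := by
      field_simp
      linear_combination ha
    rw [Matrix.mul_sub, Matrix.sub_mul, hsm, hab, ha']
    rw [Matrix.add_mul, Matrix.smul_mul, Matrix.smul_mul, Matrix.one_mul, Matrix.mul_smul, Matrix.mul_one,
      Matrix.smul_mul, Matrix.one_mul, smul_sub, smul_smul]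
    have : (t / 2 * (1 - b)) = t / 2 - b * (t / 2) := by ring
    rw [this, sub_smul]
    abel

end mat

variable {F : Type*} [Field F] [Finite F] {L : Type*} [Group L] (R : Cfsg.Agent.GH.L2Aut.Rep F L)

local notation "SL2" => Matrix.SpecialLinearGroup (Fin 2) F
local notation "M2" => Matrix (Fin 2) (Fin 2) F

theorem comm_of_odd {A : Type*} [Group A] {n h : A} (ho : Odd (orderOf h)) (hno : n * n ≠ 1)
    (hc : h * n * h⁻¹ = n ∨ h * n * h⁻¹ = n⁻¹) : n * h = h * n := by
  rcases hc with hc | hc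
  · rw [← hc]
    have : h * n * h⁻¹ * h = h * n := by group
    rw [this]
    rw [hc]
  · exfalso
    have key : ∀ k : ℕ, h ^ (2 * k) * n * (h ^ (2 * k))⁻¹ = n := by
      intro k
      induction k with
      | zero => simp
      | succ k ih =>
        have e : h ^ (2 * (k + 1)) = h * (h * h ^ (2 * k)) := by
          rw [show 2 * (k + 1) = 2 * k + 1 + 1 by ring, pow_succ', pow_succ']
        rw [e]
        calc h * (h * h ^ (2 * k)) * n * (h * (h * h ^ (2 * k)))⁻¹
            = h * (h * (h ^ (2 * k) * n * (h ^ (2 * k))⁻¹) * h⁻¹) * h⁻¹ := by group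
          _ = h * (h * n * h⁻¹) * h⁻¹ := by rw [ih]
          _ = h * n⁻¹ * h⁻¹ := by rw [hc]
          _ = (h * n * h⁻¹)⁻¹ := by group
          _ = n := by rw [hc, inv_inv]
    obtain ⟨k, hk⟩ := ho
    have h1 := key k
    have h3 : h ^ (2 * k) = h⁻¹ := by
      rw [eq_inv_iff_mul_eq_one, ← pow_succ, ← hk, pow_orderOf_eq_one]
    rw [h3, inv_inv] at h1
    have h4 : n = n⁻¹ := by
      have h5 : n = h * (h⁻¹ * n * h) * h⁻¹ := by group
      rw [h1] at h5
      rw [← hc]; exact h5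
    apply hno
    nth_rw 2 [h4]
    exact mul_inv_cancel n

theorem odd_fix (hsq : IsSquare (-1 : F)) {α : MulAut L} (h : α * α = 1) (ho : R.o1 α = -1)
    {H : Subgroup L} (hodd : Odd (Nat.card ↥H)) (hsol : Group.IsSolvable ↥H) {y : L} (hy : y ∈ H)
    (hy1 : y ≠ 1) (hαy : α y = y) : ∀ k ∈ H, α k = k := by
  have hfin : Finite L := R.finite
  have hoH : ∀ k ∈ H, Odd (orderOf k) := fun k hk => by
    have := Subgroup.orderOf_dvd_natCard H hk
    exact Odd.of_dvd_nat hodd this
  have hsqne : ∀ k ∈ H, k ≠ 1 → k * k ≠ 1 := fun k hk hk1 hkk =>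
    hk1 (PglType.eq_one_of_odd_sq hkk (hoH k hk))
  have hnt : Nontrivial ↥H := ⟨⟨⟨y, hy⟩, 1, fun h1 => hy1 (congrArg Subtype.val h1)⟩⟩
  obtain ⟨A, hA, hAc, hAne⟩ := Cfsg.Agent.Lib.SolvableMinNormal.exists_characteristic_abelian (G := ↥H)
  obtain ⟨⟨⟨n, hnH⟩, hnA⟩, hn1'⟩ := Subgroup.ne_bot_iff_exists_ne_one.1 hAne
  have hn1 : n ≠ 1 := fun h1 => hn1' (Subtype.ext (Subtype.ext h1))
  have hnn := hsqne n hnH hn1
  -- conjugates of `n` under `H` commute with `n`
  have hcj : ∀ k ∈ H, n * (k * n * k⁻¹) = k * n * k⁻¹ * n := by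
    intro k hk
    have h1 : (⟨k, hk⟩ : ↥H) * ⟨n, hnH⟩ * (⟨k, hk⟩ : ↥H)⁻¹ ∈ A :=
      (inferInstance : A.Normal).conj_mem _ hnA ⟨k, hk⟩
    have h3 := hAc.is_comm.comm ⟨_, hnA⟩ ⟨_, h1⟩
    exact congrArg (fun z : ↥A => ((z : ↥H) : L)) h3
  obtain ⟨m, rfl⟩ := R.surj n
  have hm1 : m ≠ 1 := fun h1 => hn1 (by rw [h1, map_one])
  have hms : ∀ c : F, m.1 ≠ c • (1 : M2) := by
    intro c hc
    apply hn1
    rw [R.ker]
    apply (mem_center_iff R.two m).1
    rw [Subgroup.mem_center_iff]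
    intro y
    apply Subtype.ext
    change y.1 * m.1 = m.1 * y.1
    rw [hc, Matrix.mul_smul, Matrix.smul_mul, Matrix.mul_one, Matrix.one_mul]
  -- lifts commute
  have hlift : ∀ s : SL2, R.π s ∈ H → m * (s * m * s⁻¹) = s * m * s⁻¹ * m := by
    intro s hs
    have h1 := hcj _ hs
    have h3 : R.π (m * (s * m * s⁻¹)) = R.π (s * m * s⁻¹ * m) := by
      rw [map_mul, map_mul, map_mul, map_mul, map_mul, map_mul, map_inv]
      exact h1
    rcases R.π_eq_iff.1 h3 with h4 | h4
    · exact h4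
    · exfalso
      apply hnn
      -- trace zero
      have h5 : m.1 * (s * m * s⁻¹).1 = -((s * m * s⁻¹).1 * m.1) := congrArg Subtype.val h4
      have h6 : (s * m * s⁻¹).1.trace = 0 := by
        have h7 : (m : SL2).1 * (s * m * s⁻¹).1 * (m⁻¹).1 = -(s * m * s⁻¹).1 := by
          rw [h5, neg_mul, Matrix.mul_assoc]
          have h8 : m.1 * (m⁻¹).1 = 1 := by
            have : m * m⁻¹ = 1 := mul_inv_cancel m
            exact congrArg Subtype.val this
          rw [h8, Matrix.mul_one]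
        have h9 := congrArg Matrix.trace h7
        rw [Matrix.trace_mul_comm, ← Matrix.mul_assoc] at h9
        have h8 : (m⁻¹).1 * m.1 = 1 := by
          have : m⁻¹ * m = 1 := inv_mul_cancel m
          exact congrArg Subtype.val this
        rw [h8, Matrix.one_mul, Matrix.trace_neg] at h9
        have h10 : 2 * (s * m * s⁻¹).1.trace = 0 := by linear_combination h9
        exact (mul_eq_zero.1 h10).resolve_left R.two
      have h7 : m.1.trace = 0 := by
        have h8 : (s * m * s⁻¹).1 = s.1 * m.1 * (s⁻¹).1 := rfl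
        rw [h8, Matrix.trace_mul_comm, ← Matrix.mul_assoc] at h6
        have h9 : (s⁻¹).1 * s.1 = 1 := by
          have : s⁻¹ * s = 1 := inv_mul_cancel s
          exact congrArg Subtype.val this
        rwa [h9, Matrix.one_mul] at h6
      have h8 : m * m = -1 := by
        apply Subtype.ext
        change m.1 * m.1 = -1
        rw [cayley m.1, h7, m.2, zero_smul, one_smul, zero_sub]
      rw [← map_mul, h8, R.π_neg, map_one]
  -- the involution
  obtain ⟨hα, -⟩ := PglType.pgl_of R h ho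
  obtain ⟨g, rfl⟩ := R.mem_PGL.1 hα
  have hgne : R.gl g ≠ 1 := PglType.ne_one R ho
  have hgtr := R.tr_of_inv hgne h
  have hgs := R.not_scalar_of_ne hgne
  by_cases ht : (m.1 0 0 + m.1 1 1) ^ 2 = 4
  · exfalso
    obtain ⟨s, rfl⟩ := R.surj y
    -- `s` commutes with `g`
    have hsg : g.1 * s.1 = s.1 * g.1 := by
      have h4 : R.gl (Matrix.SpecialLinearGroup.toGL s) * R.gl g =
          R.gl g * R.gl (Matrix.SpecialLinearGroup.toGL s) := by
        rw [← R.conj_π, Cfsg.Agent.GH.L2Aut.Rep.conj_comm_iff, hαy]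
      rcases R.comm_cases h4 with h5 | h5
      · exact h5.symm
      · exfalso
        have h6 := R.anticomm_inv h5
        rw [← R.conj_π, ← map_mul] at h6
        exact hsqne _ hy hy1 (R.conj_injective (by rw [h6, map_one]))
    obtain ⟨a, b, hab⟩ := exists_ab hgs hsg
    have hb : b ≠ 0 := by
      rintro rfl
      apply hy1
      rw [R.ker]
      apply (mem_center_iff R.two s).1
      rw [Subgroup.mem_center_iff]
      intro y
      apply Subtype.ext
      change y.1 * s.1 = s.1 * y.1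
      rw [hab, zero_smul, add_zero, Matrix.mul_smul, Matrix.smul_mul, Matrix.mul_one, Matrix.one_mul]
    obtain ⟨N, hN⟩ : ∃ N : M2, N = m.1 - ((m.1 0 0 + m.1 1 1) / 2) • (1 : M2) := ⟨_, rfl⟩
    have htwo := R.two
    have hNtr : N 0 0 + N 1 1 = 0 := by
      rw [hN]
      simp
      field_simp
      ring
    have hmd : m.1 0 0 * m.1 1 1 - m.1 0 1 * m.1 1 0 = 1 := by
      have := m.2
      rwa [Matrix.det_fin_two] at this
    have hNd : N 0 0 * N 1 1 - N 0 1 * N 1 0 = 0 := by
      rw [hN]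
      simp
      field_simp
      linear_combination 4 * hmd - ht
    have hN0 : N ≠ 0 := fun h1 => hms _ (by rw [hN] at h1; exact sub_eq_zero.1 h1)
    have hsN : ∃ c : F, s.1 * N = c • (N * s.1) := by
      obtain ⟨c, hc⟩ := (step R.two hms (hlift s hy)).2 ht
      exact ⟨c, by rw [hN]; exact hc⟩
    obtain ⟨c, hc⟩ := hsN
    have hNN : N * N = 0 := by
      apply mat_ext' <;> simp only [mat_mul', Matrix.zero_apply]
      · linear_combination N 0 0 * hNtr - hNd
      · linear_combination N 0 1 * hNtr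
      · linear_combination N 1 0 * hNtr
      · linear_combination N 1 1 * hNtr - hNd
    have hNgN : N * g.1 * N = 0 := by
      have h1 : N * (s.1 * N) = 0 := by
        rw [hc, Matrix.mul_smul, ← Matrix.mul_assoc, hNN, Matrix.zero_mul, smul_zero]
      rw [hab, Matrix.add_mul, Matrix.smul_mul, Matrix.smul_mul, Matrix.one_mul, Matrix.mul_add,
        Matrix.mul_smul, Matrix.mul_smul, hNN, smul_zero, zero_add, ← Matrix.mul_assoc] at h1
      exact (smul_eq_zero.1 h1).resolve_left hb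
    rw [nil_mul hNd] at hNgN
    have hgN := (smul_eq_zero.1 hNgN).resolve_right hN0
    have hgtr' : g.1 0 0 + g.1 1 1 = 0 := by rwa [Matrix.trace_fin_two] at hgtr
    have h1 := lemA hN0 hNtr hNd hgtr' hgN
    have h3 : IsSquare g.1.det := by
      obtain ⟨u, hu⟩ := h1
      obtain ⟨v, hv⟩ := hsq
      refine ⟨u * v, ?_⟩
      rw [Matrix.det_fin_two]
      linear_combination (-1 : F) * hu + (u * u) * hv
    rw [R.o1_gl_eq_one_iff.2 h3] at ho
    exact absurd ho (by decide)
  · -- `n` is central in `H`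
    have hcomm : ∀ k ∈ H, R.π m * k = k * R.π m := by
      intro k hk
      obtain ⟨s, rfl⟩ := R.surj k
      refine comm_of_odd (hoH _ hk) hnn ?_
      rcases (step R.two hms (hlift s hk)).1 ht with h1 | h1
      · left
        rw [← map_inv, ← map_mul, ← map_mul, h1]
      · right
        rw [← map_inv, ← map_mul, ← map_mul, h1, map_inv]
    have hn2 := Cfsg.Agent.UGT.FourB.KB.comm_fix R h ho hαy (hsqne y hy hy1) (hcomm y hy).symm
    intro k hk
    exact Cfsg.Agent.UGT.FourB.KB.comm_fix R h ho hn2 hnn (hcomm k hk)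

end Cfsg.Agent.UGT.PQ.OddSub
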