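import Cfsg.Agent.UGT.PQ.FunDefs
import Cfsg.Agent.UGT.PQ.OddSub
import Cfsg.Agent.UGT.PQ.Frame
import Cfsg.Agent.UGT.Res.Gen
import Cfsg.Agent.UGT.Res.FldCens
import Cfsg.Agent.UGT.Res.TorFacts

/-!
# (Q2): the facts on `L / O(L)`: `FunDefs.KF`
-/

set_option autoImplicit false

open Cfsg Subgroup
open Cfsg.Agent.SignalizersComponents Cfsg.Agent.Lib
open Cfsg.Agent.SignalizersComponents.IntrinsicBasic
open Cfsg.Agent.SignalizersComponents.PLayerAut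
open Cfsg.Agent.Intrinsic.Basic Cfsg.Agent.Intrinsic.Cen Cfsg.Agent.Intrinsic.Diag
open Cfsg.Agent.McLLyComp.Act
open Cfsg.Agent.UGT.Triple Cfsg.Agent.UGT.TriBase Cfsg.Agent.UGT.Iface
open Cfsg.Agent.UGT.Res.KFacts (Pgl exists_lift)
open Cfsg.Agent.UGT.PQ.Defs Cfsg.Agent.UGT.PQ.SylDefs Cfsg.Agent.UGT.PQ.FunDefs Cfsg.Agent.UGT.PQ.Frame
open Cfsg.Agent.GH.L2Aut (Dih Inn)
open Cfsg.Agent.OddHalf.D6 (PglType.inverts)
open scoped commutatorElement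

namespace Cfsg.Agent.UGT.PQ.KF

universe u

variable {G : Type u} [Group G] [Finite G]

/-- fixed points of an involution on `L / O(L)` lift -/
theorem lift_fix {L : Subgroup G} {u : G} (hu : u ∈ normalizer (L : Set G)) (huu : u * u = 1)
    {k : ↥L ⧸ oddCore ↥L} (hk : act L ⟨u, hu⟩ k = k) :
    ∃ (w : G) (hw : w ∈ L), w * u = u * w ∧ QuotientGroup.mk ⟨w, hw⟩ = k := by
  obtain ⟨⟨c, hc⟩, rfl⟩ := QuotientGroup.mk_surjective k
  rw [act_mk hu hc] at hk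
  have h1 := (mk_eq_iff hc (conj_mem hu hc)).mp hk.symm
  obtain ⟨o, ho, hco⟩ := Intrinsic.Lifting.exists_commute (n := 1) (odd_card_core L)
    (by rw [pow_one, pow_two]; exact huu) (normalizer_le_normalizer_core L hu) h1
  have hoL := core_le L ho
  refine ⟨c * o, mul_mem hc hoL, hco.symm, ?_⟩
  rw [mk_eq_iff (mul_mem hc hoL) hc]
  have : (c * o)⁻¹ * c = o⁻¹ := by group
  rw [this]
  exact inv_mem ho

/-- `H` covers `L / O(L)` -/
theorem le_of_top {L H : Subgroup G} (hc : core L ≤ H)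
    (h : ∀ k : ↥L ⧸ oddCore ↥L, ∃ (w : G) (hw : w ∈ L), w ∈ H ∧ QuotientGroup.mk ⟨w, hw⟩ = k) :
    L ≤ H := by
  intro l hl
  obtain ⟨w, hw, hwH, e⟩ := h (QuotientGroup.mk ⟨l, hl⟩)
  have h1 := (mk_eq_iff hw hl).mp e
  have h2 := mul_mem hwH (hc h1)
  rwa [mul_inv_cancel_left] at h2

/-- the image of `H` in `L / O(L)` -/
def img (H L : Subgroup G) : Subgroup (↥L ⧸ oddCore ↥L) :=
  (H.subgroupOf L).map (QuotientGroup.mk' (oddCore ↥L))

theorem mem_img {H L : Subgroup G} {k : ↥L ⧸ oddCore ↥L} :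
    k ∈ img H L ↔ ∃ (w : G) (hw : w ∈ L), w ∈ H ∧ QuotientGroup.mk ⟨w, hw⟩ = k := by
  constructor
  · rintro ⟨⟨w, hw⟩, hwH, rfl⟩
    exact ⟨w, hw, hwH, rfl⟩
  · rintro ⟨w, hw, hwH, rfl⟩
    exact ⟨⟨w, hw⟩, hwH, rfl⟩

theorem mk_mem_img {H L : Subgroup G} {w : G} (hw : w ∈ L) (hwH : w ∈ H) :
    (QuotientGroup.mk ⟨w, hw⟩ : ↥L ⧸ oddCore ↥L) ∈ img H L := mem_img.mpr ⟨w, hw, hwH, rfl⟩

theorem odd_img {H L : Subgroup G} (h : Odd (Nat.card ↥H)) : Odd (Nat.card ↥(img H L)) := by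
  refine Odd.of_dvd_nat h ((card_map_dvd _ _).trans ?_)
  exact card_comap_dvd_of_injective _ _ (subtype_injective _)

section

variable {x a z c : G} {L : Subgroup G}

theorem YY_le_L (hLN : centralizer ({a} : Set G) ≤ normalizer (L : Set G)) (hz : z ∈ L) :
    YY x a z ≤ L := by
  rw [YY, commutator_le]
  rintro d ⟨-, hd⟩ k hk
  have hkL : k ∈ L := (zpowers_le.mpr hz) hk
  rw [commutatorElement_def]
  exact mul_mem (conj_mem (hLN hd) hkL) (inv_mem hkL)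

theorem YY_le_Oc (hxz : x * z = z * x) : YY x a z ≤ Oc x := by
  rw [YY, commutator_le]
  rintro d ⟨hd, -⟩ k hk
  have hkx : k ∈ centralizer ({x} : Set G) := by
    have h1 : zpowers z ≤ centralizer ({x} : Set G) := by
      rw [zpowers_le]; exact mem_c hxz.symm
    exact h1 hk
  rw [commutatorElement_def]
  have h2 : d * k * d⁻¹ * k⁻¹ = d * (k * d⁻¹ * k⁻¹) := by group
  rw [h2]
  exact mul_mem hd (conj_core hkx (inv_mem hd))

theorem YY_odd (hxz : x * z = z * x) : Odd (Nat.card ↥(YY x a z)) :=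
  Odd.of_dvd_nat (odd_card_core _) (card_dvd_of_le (YY_le_Oc hxz))

/-- an element inverted by itself and of odd order -/
theorem one_of_sq {A : Type*} [Group A] {s : A} (h : s⁻¹ = s) (hso : Odd (orderOf s)) : s = 1 := by
  have h5 : s * s = 1 := by nth_rw 1 [← h]; exact inv_mul_cancel s
  have h7 : orderOf s ∣ 2 := orderOf_dvd_of_pow_eq_one (by rw [pow_two, h5])
  have h8 : orderOf s = 1 := by
    rcases (Nat.dvd_prime Nat.prime_two).mp h7 with h | h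
    · exact h
    · rw [h] at hso; exact absurd hso (by decide)
  exact orderOf_eq_one_iff.mp h8

end

/-- the input data -/
structure Inp (x a z c : G) (L : Subgroup G) : Prop where
  T₀ : IsTriple x a L
  LN : centralizer ({a} : Set G) ≤ normalizer (L : Set G)
  zL : z ∈ L
  zz : z * z = 1
  z1 : z ≠ 1
  xz : x * z = z * x
  cL : c ∈ L
  cc : c * c = z
  cx : c * x * c⁻¹ = x * z

section

variable {x a z c : G} {L : Subgroup G} (D : Inp x a z c L)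
  {F : Type} [Field F] [Finite F] (R : Cfsg.Agent.GH.L2Aut.Rep F (↥L ⧸ oddCore ↥L))
include D

theorem Inp.xN : x ∈ normalizer (L : Set G) := D.T₀.x_mem

theorem Inp.xx : x * x = 1 := sq_of_order D.T₀.invx

theorem Inp.sq : act L ⟨x, D.xN⟩ * act L ⟨x, D.xN⟩ = 1 := Cfsg.Agent.UGT.Res.KFacts.act_sq D.T₀

theorem Inp.fz : act L ⟨x, D.xN⟩ (QuotientGroup.mk ⟨z, D.zL⟩) = QuotientGroup.mk ⟨z, D.zL⟩ := by
  rw [act_mk D.xN D.zL]
  congr 1
  apply Subtype.ext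
  change x * z * x⁻¹ = z
  rw [D.xz]; group

theorem Inp.zz' : (QuotientGroup.mk ⟨z, D.zL⟩ : ↥L ⧸ oddCore ↥L) * QuotientGroup.mk ⟨z, D.zL⟩ = 1 := by
  rw [← QuotientGroup.mk_mul]
  have : (⟨z, D.zL⟩ : ↥L) * ⟨z, D.zL⟩ = 1 := Subtype.ext D.zz
  rw [this]; rfl

theorem Inp.z1' : (QuotientGroup.mk ⟨z, D.zL⟩ : ↥L ⧸ oddCore ↥L) ≠ 1 := by
  intro h
  exact D.z1 (eq_one_of_mem_core_sq ((mk_eq_one_iff D.zL).mp h) D.zz)

/-- `z` inverts the torus -/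
theorem Inp.inv (ho : R.o1 (act L ⟨x, D.xN⟩) = -1) {t : ↥L ⧸ oddCore ↥L}
    (ht : act L ⟨x, D.xN⟩ t = t) (hto : Odd (orderOf t)) :
    QuotientGroup.mk ⟨z, D.zL⟩ * t * (QuotientGroup.mk ⟨z, D.zL⟩)⁻¹ = t⁻¹ :=
  PglType.inverts R D.sq ho D.fz D.zz' D.z1' ht hto

/-- `[C_L(x), z]` covers the torus -/
theorem Inp.mem_of_comm (ho : R.o1 (act L ⟨x, D.xN⟩) = -1) {H : Subgroup G}
    (h1 : ∀ w ∈ L, w * x = x * w → ⁅w, z⁆ ∈ H) {t : ↥L ⧸ oddCore ↥L}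
    (ht : act L ⟨x, D.xN⟩ t = t) (hto : Odd (orderOf t)) : t ∈ img H L := by
  obtain ⟨w, hw, hwx, rfl⟩ := lift_fix D.xN D.xx ht
  have h2 := D.inv R ho ht hto
  have h3 : (QuotientGroup.mk ⟨w, hw⟩ : ↥L ⧸ oddCore ↥L) * QuotientGroup.mk ⟨w, hw⟩ ∈ img H L := by
    have h4 : ⁅w, z⁆ ∈ L := by
      rw [commutatorElement_def]
      exact mul_mem (mul_mem (mul_mem hw D.zL) (inv_mem hw)) (inv_mem D.zL)
    have h5 : (QuotientGroup.mk ⟨w, hw⟩ : ↥L ⧸ oddCore ↥L) * QuotientGroup.mk ⟨w, hw⟩ =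
        QuotientGroup.mk ⟨⁅w, z⁆, h4⟩ := by
      have h6 : (QuotientGroup.mk ⟨⁅w, z⁆, h4⟩ : ↥L ⧸ oddCore ↥L) = QuotientGroup.mk ⟨w, hw⟩ *
          (QuotientGroup.mk ⟨z, D.zL⟩ * (QuotientGroup.mk ⟨w, hw⟩)⁻¹ * (QuotientGroup.mk ⟨z, D.zL⟩)⁻¹) := by
        rw [← QuotientGroup.mk_inv, ← QuotientGroup.mk_inv, ← QuotientGroup.mk_mul, ← QuotientGroup.mk_mul,
          ← QuotientGroup.mk_mul]
        congr 1
        apply Subtype.ext
        change ⁅w, z⁆ = w * (z * w⁻¹ * z⁻¹)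
        rw [commutatorElement_def]; group
      rw [h6]
      have h7 : QuotientGroup.mk ⟨z, D.zL⟩ * (QuotientGroup.mk ⟨w, hw⟩)⁻¹ * (QuotientGroup.mk ⟨z, D.zL⟩)⁻¹ =
          (QuotientGroup.mk ⟨w, hw⟩ : ↥L ⧸ oddCore ↥L) := by
        rw [← inv_inj]
        rw [_root_.mul_inv_rev, _root_.mul_inv_rev, inv_inv, inv_inv, ← mul_assoc]
        exact h2
      rw [h7]
    rw [h5]
    exact mk_mem_img h4 (h1 w hw hwx)
  exact Cfsg.Agent.UGT.Res.PGLFacts.mem_of_sq_mem h3 hto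

/-- conjugation by `c` -/
theorem Inp.T₁ : IsTriple (x * z) a L := by
  have h1 := D.T₀.cj c
  have h2 : c * a = a * c := comm_c (D.T₀.comp.le D.cL)
  have e1 : c * a * c⁻¹ = a := by rw [h2]; group
  have e2 : cj c L = L := mem_normalizer_iff_cj.mp (le_normalizer D.cL)
  rwa [e1, e2, D.cx] at h1

theorem Inp.act_xz : act L ⟨x * z, D.T₁.x_mem⟩ =
    act L ⟨x, D.xN⟩ * MulAut.conj (QuotientGroup.mk ⟨z, D.zL⟩) := by
  rw [act_mul D.xN (le_normalizer D.zL), act_of_mem D.zL]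

theorem Inp.act_xz' : act L ⟨x * z, D.T₁.x_mem⟩ =
    MulAut.conj (QuotientGroup.mk ⟨c, D.cL⟩) * act L ⟨x, D.xN⟩ *
      (MulAut.conj (QuotientGroup.mk ⟨c, D.cL⟩))⁻¹ := by
  rw [← act_of_mem D.cL, ← act_inv (le_normalizer D.cL), ← act_mul (le_normalizer D.cL) D.xN, ← act_mul]
  exact act_congr _ D.cx.symm

theorem Inp.ho₁ (ho : R.o1 (act L ⟨x, D.xN⟩) = -1) : R.o1 (act L ⟨x * z, D.T₁.x_mem⟩) = -1 := by
  rw [D.act_xz', R.o1_conj_eq, ho]

theorem Inp.act_c (ho : R.o1 (act L ⟨x, D.xN⟩) = -1) :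
    act L ⟨x, D.xN⟩ (QuotientGroup.mk ⟨c, D.cL⟩) =
      QuotientGroup.mk ⟨z, D.zL⟩ * QuotientGroup.mk ⟨c, D.cL⟩ := by
  have _ := ho
  rw [act_mk D.xN D.cL, ← QuotientGroup.mk_mul]
  congr 1
  apply Subtype.ext
  change x * c * x⁻¹ = z * c
  have h1 : c * x = x * z * c := by rw [← D.cx]; group
  have h2 : x⁻¹ = x := inv_eq_of_mul_eq_one_left D.xx
  calc x * c * x⁻¹ = x * (c * x) := by rw [h2]; group
    _ = x * x * z * c := by rw [h1]; group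
    _ = z * c := by rw [D.xx]; group

/-- the triple of `x z` -/
theorem Inp.swap : Inp (x * z) a z c L where
  T₀ := D.T₁
  LN := D.LN
  zL := D.zL
  zz := D.zz
  z1 := D.z1
  xz := by rw [D.xz, mul_assoc, D.xz]
  cL := D.cL
  cc := D.cc
  cx := by
    have h1 : c * z * c⁻¹ = z := by rw [← D.cc]; group
    calc c * (x * z) * c⁻¹ = c * x * c⁻¹ * (c * z * c⁻¹) := by group
      _ = x * z * z := by rw [D.cx, h1]

/-- an automorphism of odd order commuting with `α`, fixing `z` and its conjugates under the torus -/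
theorem Inp.one_of (ho : R.o1 (act L ⟨x, D.xN⟩) = -1) (h5 : 5 ≤ Nat.card F)
    {δ : MulAut (↥L ⧸ oddCore ↥L)} (hδ : Odd (orderOf δ))
    (hz : δ (QuotientGroup.mk ⟨z, D.zL⟩) = QuotientGroup.mk ⟨z, D.zL⟩)
    (ht : ∀ t, act L ⟨x, D.xN⟩ t = t → Odd (orderOf t) →
      δ (t * QuotientGroup.mk ⟨z, D.zL⟩ * t⁻¹) = t * QuotientGroup.mk ⟨z, D.zL⟩ * t⁻¹) : δ = 1 := by
  obtain ⟨w, hw⟩ : ∃ w : ↥L ⧸ oddCore ↥L, w = QuotientGroup.mk ⟨z, D.zL⟩ := ⟨_, rfl⟩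
  have hinv := fun t (h1 : act L ⟨x, D.xN⟩ t = t) h2 => D.inv R ho h1 h2
  rw [← hw] at hz ht hinv
  have htor : ∀ t, act L ⟨x, D.xN⟩ t = t → Odd (orderOf t) → δ t = t := by
    intro t h1 h2
    have h3 := ht t h1 h2
    have h4 : t * w * t⁻¹ * w⁻¹ = t * t := by
      have h5 := hinv t h1 h2
      calc t * w * t⁻¹ * w⁻¹ = t * (w * t * w⁻¹)⁻¹ := by group
        _ = t * t := by rw [h5, inv_inv]
    have h5 : δ (t * t) = t * t := by
      rw [← h4, map_mul, h3, map_inv, hz]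
    obtain ⟨S, hS⟩ : ∃ S : Subgroup (↥L ⧸ oddCore ↥L), ∀ k, k ∈ S ↔ δ k = k := by
      refine ⟨{ carrier := {k | δ k = k}
                mul_mem' := ?_
                one_mem' := map_one δ
                inv_mem' := ?_ }, fun k => Iff.rfl⟩
      · intro k l hk hl
        change δ (k * l) = k * l
        rw [map_mul]
        change δ k = k at hk
        change δ l = l at hl
        rw [hk, hl]
      · intro k hk
        change δ k⁻¹ = k⁻¹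
        change δ k = k at hk
        rw [map_inv, hk]
    exact (hS t).mp (Cfsg.Agent.UGT.Res.PGLFacts.mem_of_sq_mem ((hS _).mpr h5) h2)
  obtain ⟨s, hs, hso, h⟩ := Cfsg.Agent.UGT.Res.TorFacts.cen_tor R (by omega) D.sq ho htor
  have ho1 := Cfsg.Agent.UGT.Res.L2Fact.o1_of_odd R hδ
  rcases h with h | h
  · have h1 : s * w * s⁻¹ = w := by
      have h2 := hz
      rw [h] at h2
      exact h2
    have h2 := hinv s hs hso
    have h3 : s * w = w * s := by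
      calc s * w = s * w * s⁻¹ * s := by group
        _ = w * s := by rw [h1]
    have h4 : s⁻¹ = s := by
      rw [← h2, ← h3]; group
    have h5 : s * s = 1 := by nth_rw 1 [← h4]; exact inv_mul_cancel s
    have h6 : s = 1 := by
      have h7 : orderOf s ∣ 2 := orderOf_dvd_of_pow_eq_one (by rw [pow_two, h5])
      have h8 : orderOf s = 1 := by
        rcases (Nat.dvd_prime Nat.prime_two).mp h7 with h | h
        · exact h
        · rw [h] at hso; exact absurd hso (by decide)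
      exact orderOf_eq_one_iff.mp h8
    rw [h, h6, map_one]
  · exfalso
    rw [h, map_mul, R.o1_conj, one_mul, ho] at ho1
    exact absurd ho1 (by decide)

theorem Inp.YL (ho : R.o1 (act L ⟨x, D.xN⟩) = -1) (h5 : 5 ≤ Nat.card F) : ¬ YY x a z ≤ core L := by
  intro hY
  obtain ⟨d, hd, hda, hnf⟩ := D.T₀.bad
  have hdN := D.LN hda
  have hcore : ∀ e ∈ core (centralizer ({x} : Set G)), e ∈ centralizer ({a} : Set G) →
      e * z * e⁻¹ * z⁻¹ ∈ core L := by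
    intro e he hea
    have h1 : ⁅e, z⁆ ∈ YY x a z := commutator_mem_commutator ⟨he, hea⟩ (mem_zpowers z)
    have h2 := hY h1
    rwa [commutatorElement_def] at h2
  apply hnf
  rw [← act_eq_one_iff hdN]
  refine D.one_of R ho h5 ?_ ?_ ?_
  · have h1 : Odd (orderOf (⟨d, hdN⟩ : ↥(normalizer (L : Set G)))) := by
      rw [Subgroup.orderOf_mk]
      have h2 := odd_card_core (centralizer ({x} : Set G))
      have h3 : orderOf (⟨d, hd⟩ : ↥(core (centralizer ({x} : Set G)))) ∣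
        Nat.card ↥(core (centralizer ({x} : Set G))) := orderOf_dvd_natCard _
      rw [Subgroup.orderOf_mk] at h3
      exact Odd.of_dvd_nat h2 h3
    exact Odd.of_dvd_nat h1 (orderOf_map_dvd _ _)
  · rw [act_mk hdN D.zL, mk_eq_iff]
    have h1 := hcore d hd hda
    have h2 := inv_mem h1
    have h3 : (d * z * d⁻¹ * z⁻¹)⁻¹ = z * d * z⁻¹ * d⁻¹ := by group
    have h4 : (d * z * d⁻¹)⁻¹ * z = d * z⁻¹ * d⁻¹ * z := by group
    rw [h4]
    have h5 := conj_core (le_refl L (inv_mem D.zL)) h2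
    rw [h3] at h5
    have h6 : z⁻¹ * (z * d * z⁻¹ * d⁻¹) * z⁻¹⁻¹ = d * z⁻¹ * d⁻¹ * z := by group
    rwa [h6] at h5
  · intro t ht hto
    obtain ⟨w, hw, hwx, rfl⟩ := lift_fix D.xN D.xx ht
    have e1 : (QuotientGroup.mk ⟨w, hw⟩ : ↥L ⧸ oddCore ↥L) * QuotientGroup.mk ⟨z, D.zL⟩ *
        (QuotientGroup.mk ⟨w, hw⟩)⁻¹ =
        QuotientGroup.mk ⟨w * z * w⁻¹, mul_mem (mul_mem hw D.zL) (inv_mem hw)⟩ := rfl
    rw [e1, act_mk hdN, mk_eq_iff]
    have hwc : w ∈ centralizer ({x} : Set G) := mem_c hwx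
    have hwa : w ∈ centralizer ({a} : Set G) := D.T₀.comp.le hw
    have hd' : w⁻¹ * d * w ∈ core (centralizer ({x} : Set G)) := by
      have h1 := conj_core (inv_mem hwc) hd
      rwa [inv_inv] at h1
    have hda' : w⁻¹ * d * w ∈ centralizer ({a} : Set G) := mul_mem (mul_mem (inv_mem hwa) hda) hwa
    have h1 := inv_mem (hcore _ hd' hda')
    have h2 := conj_core (mul_mem hw (inv_mem D.zL)) h1
    have h3 : w * z⁻¹ * (w⁻¹ * d * w * z * (w⁻¹ * d * w)⁻¹ * z⁻¹)⁻¹ * (w * z⁻¹)⁻¹ =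
        (d * (w * z * w⁻¹) * d⁻¹)⁻¹ * (w * z * w⁻¹) := by
      have : z⁻¹ * z⁻¹ = 1 := by rw [← _root_.mul_inv_rev, D.zz, inv_one]
      group
    rwa [h3] at h2


theorem Inp.conj_inj {β : MulAut (↥L ⧸ oddCore ↥L)} (h : β * MulAut.conj (QuotientGroup.mk ⟨z, D.zL⟩) = β)
    (R : Cfsg.Agent.GH.L2Aut.Rep F (↥L ⧸ oddCore ↥L)) : False := by
  have h1 : MulAut.conj (QuotientGroup.mk ⟨z, D.zL⟩ : ↥L ⧸ oddCore ↥L) = 1 := by
    have h2 : β⁻¹ * (β * MulAut.conj (QuotientGroup.mk ⟨z, D.zL⟩)) = β⁻¹ * β := by rw [h]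
    rwa [inv_mul_cancel_left, inv_mul_cancel] at h2
  exact D.z1' (R.conj_injective (h1.trans (map_one _).symm))

theorem Inp.Yodd (ho : R.o1 (act L ⟨x, D.xN⟩) = -1) (h5 : 5 ≤ Nat.card F) (hsq : IsSquare (-1 : F))
    (FT : ∀ Y : Subgroup G, Odd (Nat.card ↥Y) → Group.IsSolvable ↥Y) (J : Subgroup G) (hJL : J ≤ L)
    (hJ : Odd (Nat.card ↥J)) (hc : c ∈ normalizer (J : Set G))
    (hY : YY x a z ≤ normalizer (J : Set G)) : J ≤ core L := by
  obtain ⟨H, hH⟩ : ∃ H, H = YY x a z ⊔ J := ⟨_, rfl⟩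
  have hHodd : Odd (Nat.card ↥H) := by
    rw [hH]
    exact Cfsg.Agent.UGT.LemG.odd_sup (YY_odd D.xz) hJ hY
  have hHL : H ≤ L := by
    rw [hH]; exact sup_le (YY_le_L D.LN D.zL) hJL
  have hYH : YY x a z ≤ H := by rw [hH]; exact le_sup_left
  have hJH : J ≤ H := by rw [hH]; exact le_sup_right
  have hsol : Group.IsSolvable ↥(img H L) := by
    have h1 := FT H hHodd
    obtain ⟨f, hf⟩ : ∃ f : ↥H →* ↥L ⧸ oddCore ↥L, ∀ (h : G) (hh : h ∈ H), f ⟨h, hh⟩ =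
        QuotientGroup.mk ⟨h, hHL hh⟩ :=
      ⟨(QuotientGroup.mk' (oddCore ↥L)).comp (inclusion hHL), fun h hh => rfl⟩
    have e : img H L = f.range := by
      ext k
      rw [mem_img]
      constructor
      · rintro ⟨w, hw, hwH, rfl⟩
        exact ⟨⟨w, hwH⟩, hf w hwH⟩
      · rintro ⟨⟨w, hw⟩, rfl⟩
        exact ⟨w, hHL hw, hw, (hf w hw).symm⟩
    rw [e]
    exact Group.isSolvable_of_surjective f.rangeRestrict_surjective
  obtain ⟨y, hy, hyn⟩ := SetLike.not_le_iff_exists.mp (D.YL R ho h5)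
  have hyL := YY_le_L D.LN D.zL hy
  have hyx : x * y = y * x := by
    have h1 : y ∈ centralizer ({x} : Set G) := core_le _ (YY_le_Oc D.xz hy)
    exact (comm_c h1).symm
  have hfix := Cfsg.Agent.UGT.PQ.OddSub.odd_fix R hsq D.sq ho (odd_img (L := L) hHodd) hsol
    (mk_mem_img hyL (hYH hy)) (fun h => hyn ((mk_eq_one_iff hyL).mp h)) (by
      rw [act_mk D.xN hyL]
      congr 1
      apply Subtype.ext
      change x * y * x⁻¹ = y
      rw [hyx]; group)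
  intro k hk
  have hkL := hJL hk
  rw [← mk_eq_one_iff hkL]
  have hc' : c * k * c⁻¹ ∈ J := (mem_normalizer_iff.mp hc k).mp hk
  obtain ⟨u, hu⟩ : ∃ u : ↥L ⧸ oddCore ↥L, u = QuotientGroup.mk ⟨k, hkL⟩ := ⟨_, rfl⟩
  obtain ⟨v, hv⟩ : ∃ v : ↥L ⧸ oddCore ↥L, v = QuotientGroup.mk ⟨c, D.cL⟩ := ⟨_, rfl⟩
  obtain ⟨w, hw⟩ : ∃ w : ↥L ⧸ oddCore ↥L, w = QuotientGroup.mk ⟨z, D.zL⟩ := ⟨_, rfl⟩
  have h1 := hfix _ (mk_mem_img hkL (hJH hk))
  have h2 := hfix _ (mk_mem_img (hJL hc') (hJH hc'))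
  have h3 : (QuotientGroup.mk ⟨c * k * c⁻¹, hJL hc'⟩ : ↥L ⧸ oddCore ↥L) = v * u * v⁻¹ := by
    rw [hu, hv]; rfl
  have hodd : Odd (orderOf (v * u * v⁻¹)) := by
    have h4 : orderOf (⟨v * u * v⁻¹, h3 ▸ mk_mem_img (hJL hc') (hJH hc')⟩ : ↥(img H L)) ∣
      Nat.card ↥(img H L) := orderOf_dvd_natCard _
    rw [Subgroup.orderOf_mk] at h4
    exact Odd.of_dvd_nat (odd_img hHodd) h4
  rw [h3] at h2
  rw [← hu] at h1 ⊢
  have h4 := D.act_c R ho
  rw [← hv, ← hw] at h4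
  have h5 := D.inv R ho h2 hodd
  rw [← hw] at h5
  rw [map_mul, map_mul, map_inv, h4, h1] at h2
  have h6 : w * (v * u * v⁻¹) * w⁻¹ = v * u * v⁻¹ := by
    calc w * (v * u * v⁻¹) * w⁻¹ = w * v * u * (w * v)⁻¹ := by group
      _ = v * u * v⁻¹ := h2
  rw [h6] at h5
  have h7 := one_of_sq h5.symm hodd
  calc u = v⁻¹ * (v * u * v⁻¹) * v := by group
    _ = 1 := by rw [h7]; group

/-- a non-trivial element of the image of `Y` -/
theorem Inp.exists_y (ho : R.o1 (act L ⟨x, D.xN⟩) = -1) (h5 : 5 ≤ Nat.card F) :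
    ∃ (y : G) (hy : y ∈ L), y ∈ YY x a z ∧
      act L ⟨x, D.xN⟩ (QuotientGroup.mk ⟨y, hy⟩) = QuotientGroup.mk ⟨y, hy⟩ ∧
      (QuotientGroup.mk ⟨y, hy⟩ : ↥L ⧸ oddCore ↥L) * QuotientGroup.mk ⟨y, hy⟩ ≠ 1 := by
  obtain ⟨y, hy, hyn⟩ := SetLike.not_le_iff_exists.mp (D.YL R ho h5)
  have hyL := YY_le_L D.LN D.zL hy
  have hyx : x * y = y * x := by
    have h1 : y ∈ centralizer ({x} : Set G) := core_le _ (YY_le_Oc D.xz hy)
    exact (comm_c h1).symm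
  refine ⟨y, hyL, hy, ?_, ?_⟩
  · rw [act_mk D.xN hyL]
    congr 1
    apply Subtype.ext
    change x * y * x⁻¹ = y
    rw [hyx]; group
  · intro h
    apply hyn
    rw [← mk_eq_one_iff hyL]
    refine one_of_sq (inv_eq_of_mul_eq_one_left h) ?_
    have h4 : orderOf (⟨QuotientGroup.mk ⟨y, hyL⟩, mk_mem_img hyL hy⟩ : ↥(img (YY x a z) L)) ∣
      Nat.card ↥(img (YY x a z) L) := orderOf_dvd_natCard _
    rw [Subgroup.orderOf_mk] at h4
    exact Odd.of_dvd_nat (odd_img (YY_odd D.xz)) h4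

theorem Inp.two (ho : R.o1 (act L ⟨x, D.xN⟩) = -1) (h5 : 5 ≤ Nat.card F) (hQ : Q2 G) (t : G)
    (hta : t * a = a * t) (htx : t * x = x * t) (ht : ∃ n : ℕ, t ^ 2 ^ n = 1)
    (hY : ∀ y ∈ YY x a z, ⁅t, y⁆ ∈ core L ∧ ⁅t, c * y * c⁻¹⁆ ∈ core L) : t = 1 ∨ t = a := by
  have _ := htx
  have htN : t ∈ normalizer (L : Set G) := D.LN (mem_c hta)
  obtain ⟨y, hyL, hy, hfy, hy2⟩ := D.exists_y R ho h5
  obtain ⟨h1, h2⟩ := hY y hy
  have hcy : c * y * c⁻¹ ∈ L := mul_mem (mul_mem D.cL hyL) (inv_mem D.cL)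
  have hβ2 : ∃ n : ℕ, act L ⟨t, htN⟩ ^ 2 ^ n = 1 := by
    obtain ⟨n, hn⟩ := ht
    refine ⟨n, ?_⟩
    rw [← map_pow]
    have : (⟨t, htN⟩ : ↥(normalizer (L : Set G))) ^ 2 ^ n = 1 := Subtype.ext hn
    rw [this, map_one]
  have key : ∀ (k : G) (hk : k ∈ L), ⁅t, k⁆ ∈ core L →
      act L ⟨t, htN⟩ (QuotientGroup.mk ⟨k, hk⟩) = QuotientGroup.mk ⟨k, hk⟩ := by
    intro k hk h
    rw [act_mk htN hk, eq_comm, mk_eq_iff]
    rw [commutatorElement_def] at h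
    have h3 := conj_core (inv_mem hk) h
    have h4 : k⁻¹ * (t * k * t⁻¹ * k⁻¹) * k⁻¹⁻¹ = k⁻¹ * (t * k * t⁻¹) := by group
    rwa [h4] at h3
  have hb1 := key y hyL h1
  have hb2 := key _ hcy h2
  have e3 : (QuotientGroup.mk ⟨c * y * c⁻¹, hcy⟩ : ↥L ⧸ oddCore ↥L) =
      MulAut.conj (QuotientGroup.mk ⟨c, D.cL⟩) (QuotientGroup.mk ⟨y, hyL⟩) := rfl
  have hfy' : act L ⟨x * z, D.T₁.x_mem⟩ (QuotientGroup.mk ⟨c * y * c⁻¹, hcy⟩) =
      QuotientGroup.mk ⟨c * y * c⁻¹, hcy⟩ := by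
    rw [D.act_xz', e3, MulAut.mul_apply, MulAut.mul_apply, MulAut.inv_apply_self, hfy]
  have hy2' : (QuotientGroup.mk ⟨c * y * c⁻¹, hcy⟩ : ↥L ⧸ oddCore ↥L) *
      QuotientGroup.mk ⟨c * y * c⁻¹, hcy⟩ ≠ 1 := by
    rw [e3, ← map_mul]
    intro h
    apply hy2
    exact (map_eq_one_iff _ (MulAut.conj (QuotientGroup.mk ⟨c, D.cL⟩)).injective).mp h
  have hor : act L ⟨t, htN⟩ = 1 := by
    rcases Cfsg.Agent.UGT.Res.PGLFacts.two_unique R D.sq ho hy2 hfy hβ2 hb1 with h | h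
    · exact h
    · rcases Cfsg.Agent.UGT.Res.PGLFacts.two_unique R D.swap.sq (D.ho₁ R ho) hy2' hfy' hβ2 hb2 with
        h' | h'
      · exact h'
      · exfalso
        refine D.conj_inj (β := act L ⟨x, D.xN⟩) ?_ R
        rw [← D.act_xz]
        exact h'.symm.trans h
  exact hQ x a L D.T₀ t hta ht ((act_eq_one_iff htN).mp hor)

theorem Inp.gen (ho : R.o1 (act L ⟨x, D.xN⟩) = -1) (h5 : 5 ≤ Nat.card F) (H : Subgroup G)
    (hc : core L ≤ H) (h1 : ∀ w ∈ L, w * x = x * w → ⁅w, z⁆ ∈ H)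
    (h2 : ∀ w ∈ L, w * (x * z) = x * z * w → ⁅w, z⁆ ∈ H) : L ≤ H := by
  have h3 : img H L = ⊤ := by
    refine Cfsg.Agent.UGT.Res.Gen.gen R (by omega) D.sq ho D.fz D.zz' D.z1' _ ?_ ?_
    · intro t ht hto
      exact D.mem_of_comm R ho h1 ht hto
    · intro t ht hto
      refine D.swap.mem_of_comm R (D.ho₁ R ho) h2 ?_ hto
      change act L ⟨x * z, D.T₁.x_mem⟩ t = t
      rw [D.act_xz, MulAut.mul_apply, MulAut.conj_apply, map_mul, map_mul, map_inv, D.fz, ht]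
      group
  refine le_of_top hc fun k => ?_
  have h4 : k ∈ img H L := by rw [h3]; exact mem_top k
  obtain ⟨w, hw, hwH, e⟩ := mem_img.mp h4
  exact ⟨w, hw, hwH, e⟩

theorem Inp.genf {φ : G} (hφN : φ ∈ normalizer (L : Set G)) (hφφ : φ * φ = 1)
    (hφz : φ * z = z * φ) (hφf : R.fld (act L ⟨φ, hφN⟩) ≠ 1) (H : Subgroup G) (hc : core L ≤ H)
    (h1 : ∀ l ∈ L, l * φ = φ * l → l ∈ H) (h2 : ∀ l ∈ L, l * z = z * l → l ∈ H)
    (h3 : ∀ l ∈ L, l * (φ * z) = φ * z * l → l ∈ H) : L ≤ H := by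
  have hzN : z ∈ normalizer (L : Set G) := le_normalizer D.zL
  have hφzN : φ * z ∈ normalizer (L : Set G) := mul_mem hφN hzN
  have hφz2 : φ * z * (φ * z) = 1 := by
    calc φ * z * (φ * z) = φ * (z * φ) * z := by group
      _ = φ * φ * (z * z) := by rw [← hφz]; group
      _ = 1 := by rw [hφφ, D.zz, one_mul]
  have e1 : act L ⟨φ, hφN⟩ * act L ⟨φ, hφN⟩ = 1 := by
    rw [← act_mul hφN hφN]
    have : (⟨φ * φ, mul_mem hφN hφN⟩ : ↥(normalizer (L : Set G))) = 1 := Subtype.ext hφφ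
    rw [this, map_one]
  have e2 : act L ⟨z, hzN⟩ * act L ⟨z, hzN⟩ = 1 := by
    rw [← act_mul hzN hzN]
    have : (⟨z * z, mul_mem hzN hzN⟩ : ↥(normalizer (L : Set G))) = 1 := Subtype.ext D.zz
    rw [this, map_one]
  have e3 : act L ⟨z, hzN⟩ = MulAut.conj (QuotientGroup.mk ⟨z, D.zL⟩) := act_of_mem D.zL
  have e4 : R.fld (act L ⟨z, hzN⟩) = 1 := by
    rw [e3]; exact R.mem_PGL_iff_fld.mp (R.conj_mem_PGL _)
  have h4 : img H L = ⊤ := by
    refine Cfsg.Agent.UGT.Res.FldCens.gen_pair R (α := act L ⟨φ, hφN⟩) (β := act L ⟨z, hzN⟩) e1 e2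
      ?_ ?_ ?_ ?_ (Or.inl hφf) _ ?_ ?_ ?_
    · intro h; apply hφf; rw [h, map_one]
    · intro h
      rw [e3] at h
      exact D.conj_inj (β := 1) (by rw [h, one_mul]) R
    · intro h; apply hφf; rw [h, e4]
    · rw [← act_mul hφN hzN, ← act_mul hzN hφN]
      exact act_congr _ hφz
    · intro k hk
      obtain ⟨w, hw, hwφ, rfl⟩ := lift_fix hφN hφφ hk
      exact mk_mem_img hw (h1 w hw hwφ)
    · intro k hk
      obtain ⟨w, hw, hwφ, rfl⟩ := lift_fix hzN D.zz hk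
      exact mk_mem_img hw (h2 w hw hwφ)
    · intro k hk
      have hk' : act L ⟨φ * z, hφzN⟩ k = k := by
        rw [act_mul hφN hzN]; exact hk
      obtain ⟨w, hw, hwφ, rfl⟩ := lift_fix hφzN hφz2 hk'
      exact mk_mem_img hw (h3 w hw hwφ)
  refine le_of_top hc fun k => ?_
  have h5 : k ∈ img H L := by rw [h4]; exact mem_top k
  obtain ⟨w, hw, hwH, e⟩ := mem_img.mp h5
  exact ⟨w, hw, hwH, e⟩

/-- **the facts on `L / O(L)`** -/
theorem kf_of {φ : G} (ho : R.o1 (act L ⟨x, D.xN⟩) = -1) (h5 : 5 ≤ Nat.card F) (hQ : Q2 G)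
    (FT : ∀ Y : Subgroup G, Odd (Nat.card ↥Y) → Group.IsSolvable ↥Y)
    (hφN : φ ∈ normalizer (L : Set G)) (hφφ : φ * φ = 1)
    (hφz : φ * z = z * φ) (hφf : R.fld (act L ⟨φ, hφN⟩) ≠ 1) : KF x a z c φ L where
  simp := Cfsg.Agent.OddHalf.D6.SubFix.isSimple R (by omega)
  nab := fun h => by
    have h1 : QuotientGroup.mk ⟨z, D.zL⟩ ∈ center (↥L ⧸ oddCore ↥L) := by
      rw [Subgroup.mem_center_iff]
      intro g
      exact h _ _
    rw [R.center_eq_bot, Subgroup.mem_bot] at h1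
    exact D.z1' h1
  nfz := fun h => by
    have h1 := (act_eq_one_iff (le_normalizer D.zL)).mpr h
    rw [act_of_mem D.zL] at h1
    exact D.conj_inj (β := 1) (by rw [h1, one_mul]) R
  YL := D.YL R ho h5
  Yodd := by
    refine D.Yodd R ho h5 ?_ FT
    have h1 : R.fld (act L ⟨φ, hφN⟩) * R.fld (act L ⟨φ, hφN⟩) = 1 := by
      rw [← map_mul, ← act_mul hφN hφN]
      have : (⟨φ * φ, mul_mem hφN hφN⟩ : ↥(normalizer (L : Set G))) = 1 := Subtype.ext hφφ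
      rw [this, map_one, map_one]
    refine Cfsg.Agent.GH.L2Aut.Rep.isSquare_of_fixed R.two h1 hφf ?_
    rw [map_neg, map_one]
  two := D.two R ho h5 hQ
  gen := D.gen R ho h5
  genf := D.genf R hφN hφφ hφz hφf

end

end Cfsg.Agent.UGT.PQ.KF
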