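import Cfsg.Agent.UGT.PQ.SylC

/-!
# (Q2), P1-P4: **`out_of`**
-/

set_option autoImplicit false
set_option linter.unusedSectionVars false

open Cfsg Subgroup
open Cfsg.Agent.SignalizersComponents Cfsg.Agent.Lib
open Cfsg.Agent.SignalizersComponents.IntrinsicBasic
open Cfsg.Agent.Intrinsic.Basic Cfsg.Agent.Intrinsic.Cen
open Cfsg.Agent.McLLyComp.Act
open Cfsg.Agent.UGT.Triple Cfsg.Agent.UGT.TriBase
open Cfsg.Agent.GH.L2Aut (Dih Four)
open scoped commutatorElement

namespace Cfsg.Agent.UGT.PQ.SylDefs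

variable {G A : Type*} [Group G] [Group A]

/-- extension of an elementary abelian group by an involution -/
theorem ext_card [Finite G] {H : Subgroup G} {t : G} (hH : ∀ e ∈ H, e * e = 1) (htt : t * t = 1)
    (hc : ∀ e ∈ H, t * e = e * t) (ht : t ∉ H) :
    (∀ e ∈ H ⊔ zpowers t, e * e = 1) ∧ Nat.card ↥(H ⊔ zpowers t) = 2 * Nat.card ↥H := by
  have hform : ∀ y ∈ H ⊔ zpowers t, ∃ h ∈ H, ∃ b : Bool, y = h * cond b t 1 := by
    intro y hy
    let K : Subgroup G :=
      { carrier := {y | ∃ h ∈ H, ∃ b : Bool, y = h * cond b t 1}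
        one_mem' := ⟨1, one_mem _, false, by simp⟩
        mul_mem' := by
          rintro _ _ ⟨h, hh, b, rfl⟩ ⟨h', hh', b', rfl⟩
          rcases b with _ | _
          · exact ⟨h * h', mul_mem hh hh', b', by simp [mul_assoc]⟩
          · rcases b' with _ | _
            · refine ⟨h * h', mul_mem hh hh', true, ?_⟩
              simp only [cond_true, cond_false, mul_one]
              rw [mul_assoc, hc h' hh', mul_assoc]
            · refine ⟨h * h', mul_mem hh hh', false, ?_⟩
              simp only [cond_true, cond_false, mul_one]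
              calc h * t * (h' * t) = h * (t * h') * t := by group
                _ = h * (h' * t) * t := by rw [hc h' hh']
                _ = h * h' * (t * t) := by group
                _ = h * h' := by rw [htt, mul_one]
        inv_mem' := by
          rintro _ ⟨h, hh, b, rfl⟩
          have hhi : h⁻¹ = h := inv_eq_of_mul_eq_one_left (hH h hh)
          refine ⟨h, hh, b, ?_⟩
          rcases b with _ | _
          · simp [hhi]
          · simp only [cond_true]
            rw [mul_inv_rev, hhi, inv_eq_of_mul_eq_one_left htt, hc h hh] }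
    have hle : H ⊔ zpowers t ≤ K := by
      rw [sup_le_iff, zpowers_le]
      exact ⟨fun h hh => ⟨h, hh, false, by simp⟩, ⟨1, one_mem _, true, by simp⟩⟩
    exact hle hy
  constructor
  · intro y hy
    obtain ⟨h, hh, b, rfl⟩ := hform y hy
    rcases b with _ | _
    · simp only [cond_false, mul_one]
      exact hH h hh
    · simp only [cond_true]
      calc h * t * (h * t) = h * (t * h) * t := by group
        _ = h * (h * t) * t := by rw [hc h hh]
        _ = (h * h) * (t * t) := by group
        _ = 1 := by rw [hH h hh, htt, one_mul]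
  · let f : H × Bool → ↥(H ⊔ zpowers t) := fun y => ⟨y.1 * cond y.2 t 1, by
      refine mul_mem ((le_sup_left : H ≤ _) y.1.2) ?_
      rcases y.2 with _ | _
      · exact one_mem _
      · exact (le_sup_right : zpowers t ≤ _) (mem_zpowers t)⟩
    have hf : Function.Bijective f := by
      constructor
      · rintro ⟨⟨h, hh⟩, b⟩ ⟨⟨h', hh'⟩, b'⟩ h1
        have h2 : h * cond b t 1 = h' * cond b' t 1 := congrArg Subtype.val h1
        rcases b with _ | _ <;> rcases b' with _ | _
        · simp only [cond_false, mul_one] at h2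
          subst h2; rfl
        · exfalso
          simp only [cond_false, cond_true, mul_one] at h2
          apply ht
          have : t = h'⁻¹ * h := by rw [h2]; group
          rw [this]
          exact mul_mem (inv_mem hh') hh
        · exfalso
          simp only [cond_false, cond_true, mul_one] at h2
          apply ht
          have : t = h⁻¹ * h' := by rw [← h2]; group
          rw [this]
          exact mul_mem (inv_mem hh) hh'
        · simp only [cond_true] at h2
          have h3 := mul_right_cancel h2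
          subst h3; rfl
      · rintro ⟨y, hy⟩
        obtain ⟨h, hh, b, rfl⟩ := hform y hy
        exact ⟨(⟨h, hh⟩, b), rfl⟩
    rw [← Nat.card_congr (Equiv.ofBijective f hf), Nat.card_prod, Nat.card_eq_fintype_card (α := Bool),
      Fintype.card_bool, mul_comm]

theorem four_dvd_relIndex [Finite G] {T H : Subgroup G} (hT : IsPGroup 2 ↥T) {y1 y2 : G} (h1T : y1 ∈ T)
    (h2T : y2 ∈ T) (h1 : y1 ∉ H) (h2 : y2 ∉ H) (h12 : y1⁻¹ * y2 ∉ H) : 4 ∣ H.relIndex T := by
  have : Fact (Nat.Prime 2) := ⟨Nat.prime_two⟩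
  obtain ⟨n, hn⟩ := hT.index (H.subgroupOf T)
  rw [relIndex, hn]
  rcases n with _ | _ | n
  · exfalso
    rw [pow_zero, index_eq_one] at hn
    apply h1
    have : (⟨y1, h1T⟩ : ↥T) ∈ H.subgroupOf T := by rw [hn]; exact mem_top _
    exact this
  · exfalso
    rw [zero_add, pow_one] at hn
    have h3 := mul_mem_iff_of_index_two hn (a := (⟨y1, h1T⟩ : ↥T)⁻¹) (b := ⟨y2, h2T⟩)
    have h4 : (⟨y1, h1T⟩ : ↥T)⁻¹ ∉ H.subgroupOf T := fun h => h1 (by
      have := inv_mem h
      rwa [inv_inv] at this)
    have h5 : (⟨y2, h2T⟩ : ↥T) ∉ H.subgroupOf T := fun h => h2 h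
    exact h12 (h3.2 ⟨fun h => absurd h h4, fun h => absurd h h5⟩)
  · exact ⟨2 ^ n, by rw [pow_succ, pow_succ]; ring⟩

namespace Fr

variable {x a d r : G} {T P : Subgroup G} {fl : ↥T →* A} {o : ↥T →* ℤˣ} (F : Fr x a d r T P fl o)
include F

variable [Finite G] {z : G} (hz : IsZ d z) {φ : G} (hφ : IsPhi a T P fl φ)
include hz hφ

theorem E16_of (hφ1 : φ * φ = 1) {v : G} (hv : v ∈ P) (hvv : v * v = 1) (hv1 : v ≠ 1) (hvz : v ≠ z) :
    (∀ e ∈ closure ({a, φ, z, v} : Set G), e * e = 1) ∧ Nat.card ↥(closure ({a, φ, z, v} : Set G)) = 16 ∧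
      closure ({a, φ, z, v} : Set G) ≤ T := by
  have hzP := F.z_P hz
  have h1 := ext_card (H := (⊥ : Subgroup G)) (t := z) (fun e he => by rw [mem_bot.1 he, one_mul]) hz.zz
    (fun e he => by rw [mem_bot.1 he, one_mul, mul_one]) (fun h => hz.z1 (mem_bot.1 h))
  rw [bot_sup_eq, card_bot, mul_one] at h1
  have hzp : ∀ e ∈ zpowers z, e = 1 ∨ e = z := by
    intro e he
    obtain ⟨n, rfl⟩ := mem_zpowers_iff.1 he
    rcases Int.even_or_odd' n with ⟨j, hj | hj⟩
    · left; rw [hj, zpow_mul, zpow_two, hz.zz, one_zpow]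
    · right; rw [hj, zpow_add, zpow_mul, zpow_two, hz.zz, one_zpow, one_mul, zpow_one]
  have h2 := ext_card (H := zpowers z) (t := v) h1.1 hvv
    (fun e he => by
      rcases hzp e he with rfl | rfl
      · rw [one_mul, mul_one]
      · exact (F.z_cP hz hv).symm)
    (fun h => by
      rcases hzp v h with h3 | h3
      · exact hv1 h3
      · exact hvz h3)
  have hP2 : zpowers z ⊔ zpowers v ≤ P := sup_le (zpowers_le.2 hzP) (zpowers_le.2 hv)
  have h3 := ext_card (H := zpowers z ⊔ zpowers v) (t := a) h2.1 F.aa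
    (fun e he => (F.aC (F.PT (hP2 he))).symm) (fun h => F.aP (hP2 h))
  have hT3 : zpowers z ⊔ zpowers v ⊔ zpowers a ≤ T := sup_le (hP2.trans F.PT) (zpowers_le.2 F.aT)
  have hf3 : ∀ e ∈ zpowers z ⊔ zpowers v ⊔ zpowers a, ex fl e = 1 ∧ φ * e = e * φ := by
    intro e he
    have hle : zpowers z ⊔ zpowers v ⊔ zpowers a ≤ (fl.ker.map T.subtype) ⊓ centralizer ({φ} : Set G) := by
      refine sup_le (le_inf (hP2.trans ?_) (hP2.trans ?_)) (le_inf (zpowers_le.2 ?_) (zpowers_le.2 ?_))
      · intro p hp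
        exact ⟨⟨p, F.PT hp⟩, F.flP p (F.PT hp) hp, rfl⟩
      · intro p hp
        exact mem_centralizer_singleton_iff.2 (hφ.P p hp).symm
      · exact ⟨⟨a, F.aT⟩, F.fla F.aT, rfl⟩
      · exact mem_centralizer_singleton_iff.2 (F.aC hφ.T).symm
    obtain ⟨⟨⟨y, hyT⟩, hy, hye⟩, h5⟩ := mem_inf.1 (hle he)
    have hye' : y = e := hye
    subst hye'
    exact ⟨by rw [ex_of fl hyT]; exact hy, (mem_centralizer_singleton_iff.1 h5).symm⟩
  have h4 := ext_card (H := zpowers z ⊔ zpowers v ⊔ zpowers a) (t := φ) h3.1 hφ1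
    (fun e he => (hf3 e he).2) (fun h => hφ.ne (hf3 φ h).1)
  have heq : closure ({a, φ, z, v} : Set G) = zpowers z ⊔ zpowers v ⊔ zpowers a ⊔ zpowers φ := by
    apply le_antisymm
    · rw [closure_le]
      have h5 : zpowers z ≤ zpowers z ⊔ zpowers v ⊔ zpowers a ⊔ zpowers φ :=
        le_sup_left.trans (le_sup_left.trans le_sup_left)
      have h6 : zpowers v ≤ zpowers z ⊔ zpowers v ⊔ zpowers a ⊔ zpowers φ :=
        le_sup_right.trans (le_sup_left.trans le_sup_left)
      have h7 : zpowers a ≤ zpowers z ⊔ zpowers v ⊔ zpowers a ⊔ zpowers φ := le_sup_right.trans le_sup_left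
      have h8 : zpowers φ ≤ zpowers z ⊔ zpowers v ⊔ zpowers a ⊔ zpowers φ := le_sup_right
      rintro y (rfl | rfl | rfl | rfl)
      · exact h7 (mem_zpowers _)
      · exact h8 (mem_zpowers _)
      · exact h5 (mem_zpowers _)
      · exact h6 (mem_zpowers _)
    · refine sup_le (sup_le (sup_le ?_ ?_) ?_) ?_ <;> rw [zpowers_le] <;> apply Subgroup.subset_closure <;> simp
  rw [heq]
  refine ⟨h4.1, ?_, sup_le hT3 (zpowers_le.2 hφ.T)⟩
  rw [h4.2, h3.2, h2.2, h1.2]

variable (hdd : d * d ≠ 1)
include hdd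

/-- the involutions of `T` -/
theorem inv_cases (hφ1 : φ * φ = 1) {t : G} (ht : t ∈ T) (htt : t * t = 1) :
    (t = 1 ∨ t = a ∨ t = z ∨ t = a * z) ∨
    (∃ v ∈ P, v * v = 1 ∧ v ≠ 1 ∧ v ≠ z ∧ t ∈ closure ({a, φ, z, v} : Set G)) ∨
    (∃ q : G, (q = 1 ∨ q = a) ∧ ∃ p ∈ P, t = q * (p * x * p⁻¹)) := by
  have hrz : r ≠ z := fun h => F.dih.r_not (by rw [h]; exact F.z_zp hz)
  have hmem : ∀ (v q : G), (q = 1 ∨ q = a) → q ∈ closure ({a, φ, z, v} : Set G) := by
    rintro v q (rfl | rfl)
    · exact one_mem _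
    · exact subset_closure (by simp)
  have hp_case : ∀ p ∈ P, p * p = 1 → ∃ v ∈ P, v * v = 1 ∧ v ≠ 1 ∧ v ≠ z ∧
      p ∈ closure ({a, φ, z, v} : Set G) := by
    intro p hp hpp
    by_cases h1 : p = 1
    · exact ⟨r, F.dih.r_mem, F.dih.rr, F.dih.r1, hrz, by rw [h1]; exact one_mem _⟩
    by_cases h2 : p = z
    · exact ⟨r, F.dih.r_mem, F.dih.rr, F.dih.r1, hrz, by rw [h2]; exact subset_closure (by simp)⟩
    · exact ⟨p, hp, hpp, h1, h2, subset_closure (by simp)⟩
  by_cases hf : ex fl t = 1
  · by_cases ho : ex o t = 1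
    · obtain ⟨q, hq, p, hp, rfl⟩ := F.cov_in ht hf ho
      have hpq := F.q_C hq (F.PT hp)
      have hpp : p * p = 1 := by
        calc p * p = (q * q) * (p * p) := by rw [F.q_q hq, one_mul]
          _ = q * (q * p) * p := by group
          _ = q * (p * q) * p := by rw [hpq]
          _ = q * p * (q * p) := by group
          _ = 1 := htt
      by_cases h1 : p = 1
      · left
        rw [h1, mul_one]
        rcases hq with h2 | h2
        · left; exact h2
        · right; left; exact h2
      by_cases h2 : p = z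
      · left
        rcases hq with h3 | h3
        · right; right; left; rw [h3, h2, one_mul]
        · right; right; right; rw [h3, h2]
      · right; left
        exact ⟨p, hp, hpp, h1, h2, mul_mem (hmem p q hq) (subset_closure (by simp))⟩
    · right; right
      obtain ⟨q, hq, p, hp, rfl⟩ := F.cov_out ht hf ho
      obtain ⟨k, rfl⟩ := F.out_form hq hp htt
      obtain ⟨p₁, hp₁, h1⟩ := F.conj_x k
      exact ⟨q, hq, p₁, hp₁, by rw [h1, mul_assoc]⟩
  · right; left
    obtain ⟨q, hq, p, hp, h1, h2⟩ := F.inv_field hz hdd hφ ht htt hf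
    rw [hφ1, one_mul] at h2
    obtain ⟨v, hv, h3, h4, h5, h6⟩ := hp_case p hp h2
    refine ⟨v, hv, h3, h4, h5, ?_⟩
    rw [h1]
    exact mul_mem (subset_closure (by simp)) (mul_mem (hmem v q hq) h6)

end Fr

/-- **P1-P4 of (Q2)** -/
theorem out_of [Finite G] {x a d r : G} {T P : Subgroup G} {fl : ↥T →* A} {o : ↥T →* ℤˣ}
    (F : Fr x a d r T P fl o) :
    SectionalPRankLE 2 4 G ∨ ∃ (z c i g φ : G) (k : ℕ), Out x a z c i g φ T P k fl := by
  have hp2 : Fact (Nat.Prime 2) := ⟨Nat.prime_two⟩
  obtain ⟨z, hz⟩ := F.exists_isZ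
  by_cases hU : ∃ u ∈ T, u * x = x * u ∧ ex fl u ≠ 1
  swap
  · push Not at hU
    exact Or.inl (F.rank_small hz hU)
  obtain ⟨φ, hφ⟩ := F.exists_phi (by
    obtain ⟨u, hu, -, h⟩ := hU
    exact ⟨u, hu, h⟩)
  have hdd := F.dd_ne hφ
  by_cases hφa : φ * φ = a
  · exact Or.inl (F.rank_phi hz hdd hφ hφa)
  have hφ1 : φ * φ = 1 := hφ.sq.resolve_right hφa
  obtain ⟨S, hS⟩ := F.T2.two.exists_le_sylow
  by_cases hST : (S : Subgroup G) ≤ T
  · left
    have h3 : T = (S : Subgroup G) := le_antisymm hS hST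
    rw [← GH.Rank.sylow_iff S, ← h3]
    exact F.rank_T
  right
  obtain ⟨g₀, hg₀S, hg₀T, hg₀n, -⟩ := RankOneR.exists_norm S.2 hS hST
  obtain ⟨k, w, i, hpw, hw, hi, hix, hii⟩ := F.exists_pw hz hdd hU
  obtain ⟨hg₀z, hg₀a⟩ := F.norm_T hz hdd hg₀n
  have hzP := F.z_P hz
  have hzT := F.PT hzP
  have haz : a ≠ z := fun h => F.aP (h ▸ hzP)
  have hSC : (S : Subgroup G) ⊓ centralizer ({a} : Set G) = T :=
    F.T2.max _ (S.2.to_le inf_le_left) inf_le_right (le_inf hS F.T2.le)
  have hg₀a' : g₀ * a * g₀⁻¹ = a * z := by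
    refine hg₀a.resolve_left fun h => hg₀T ?_
    rw [← hSC]
    exact ⟨hg₀S, mem_centralizer_singleton_iff.2 (mul_inv_eq_iff_eq_mul.1 h)⟩
  -- an involution whose centralizer in `T` is conjugate to `U` is not in an `E₁₆`
  have hno16 : ∀ E : Subgroup G, E ≤ T → (∀ e ∈ E, e * e = 1) → Nat.card ↥E = 16 →
      g₀ * x * g₀⁻¹ ∈ E → False := by
    intro E hET hE hcard hx
    have hEc : ∀ e ∈ E, e * (g₀ * x * g₀⁻¹) = g₀ * x * g₀⁻¹ * e := by
      intro e he
      have h1 := hE _ (mul_mem he hx)
      have h2 : e * (g₀ * x * g₀⁻¹) = (e * (g₀ * x * g₀⁻¹))⁻¹ := eq_inv_of_mul_eq_one_left h1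
      rw [h2, mul_inv_rev, inv_eq_of_mul_eq_one_left (hE _ hx), inv_eq_of_mul_eq_one_left (hE e he)]
    have hmem : ∀ e ∈ E, In8 a x z (g₀⁻¹ * e * g₀) := by
      intro e he
      refine F.U_inv hz hdd (conj_inv_mem hg₀n (hET he)) ?_ ?_
      · calc g₀⁻¹ * e * g₀ * x = g₀⁻¹ * (e * (g₀ * x * g₀⁻¹)) * g₀ := by group
          _ = g₀⁻¹ * (g₀ * x * g₀⁻¹ * e) * g₀ := by rw [hEc e he]
          _ = x * (g₀⁻¹ * e * g₀) := by group
      · calc g₀⁻¹ * e * g₀ * (g₀⁻¹ * e * g₀) = g₀⁻¹ * (e * e) * g₀ := by group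
          _ = 1 := by rw [hE e he]; group
    classical
    let W : Finset G := {1, a, x, z, a * x, a * z, x * z, a * x * z}
    have hW : W.card ≤ 8 := by
      have h1 := Finset.card_insert_le (1 : G) {a, x, z, a * x, a * z, x * z, a * x * z}
      have h2 := Finset.card_insert_le a {x, z, a * x, a * z, x * z, a * x * z}
      have h3 := Finset.card_insert_le x {z, a * x, a * z, x * z, a * x * z}
      have h4 := Finset.card_insert_le z {a * x, a * z, x * z, a * x * z}
      have h5 := Finset.card_le_four (a := a * x) (b := a * z) (c := x * z) (d := a * x * z)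
      simp only [W]
      omega
    let f : E → W := fun e => ⟨g₀⁻¹ * e * g₀, by
      rcases hmem e e.2 with h | h | h | h | h | h | h | h <;> rw [h] <;> simp [W]⟩
    have hf : Function.Injective f := by
      intro e e' h
      have h1 : g₀⁻¹ * (e : G) * g₀ = g₀⁻¹ * e' * g₀ := congrArg (fun y : W => (y : G)) h
      exact Subtype.ext (mul_left_cancel (mul_right_cancel h1))
    have h6 := Nat.card_le_card_of_injective f hf
    rw [hcard, Nat.card_eq_fintype_card, Fintype.card_coe] at h6
    omega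
  -- the element `g`
  obtain ⟨p', hp', q, hq, hgx⟩ : ∃ p' ∈ P, ∃ q : G, (q = 1 ∨ q = a) ∧ p' * g₀ * x * (p' * g₀)⁻¹ = q * x := by
    have hx'T := hg₀n x F.xT
    have hx'2 : g₀ * x * g₀⁻¹ * (g₀ * x * g₀⁻¹) = 1 := by
      calc g₀ * x * g₀⁻¹ * (g₀ * x * g₀⁻¹) = g₀ * (x * x) * g₀⁻¹ := by group
        _ = 1 := by rw [F.xx]; group
    rcases F.inv_cases hz hφ hdd hφ1 hx'T hx'2 with h1 | ⟨v, hv, hvv, hv1, hvz, h1⟩ | ⟨q, hq, p, hp, h1⟩
    · exfalso
      -- `x` would be central in `T`
      have h2 := F.four_cen hz hdd h1 (hg₀n d (F.PT F.dih.d_mem))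
      have h3 : x * d = d * x := by
        have h4 : g₀ * (x * d) * g₀⁻¹ = g₀ * (d * x) * g₀⁻¹ := by
          calc g₀ * (x * d) * g₀⁻¹ = g₀ * x * g₀⁻¹ * (g₀ * d * g₀⁻¹) := by group
            _ = g₀ * d * g₀⁻¹ * (g₀ * x * g₀⁻¹) := h2
            _ = _ := by group
        exact mul_left_cancel (mul_right_cancel h4)
      apply hdd
      have h4 := F.xd
      rw [h3, mul_inv_cancel_right] at h4
      nth_rw 1 [h4]
      exact inv_mul_cancel _
    · exfalso
      obtain ⟨h2, h3, h4⟩ := F.E16_of hz hφ hφ1 hv hvv hv1 hvz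
      exact hno16 _ h4 h2 h3 h1
    · refine ⟨p⁻¹, inv_mem hp, q, hq, ?_⟩
      calc p⁻¹ * g₀ * x * (p⁻¹ * g₀)⁻¹ = p⁻¹ * (g₀ * x * g₀⁻¹) * p := by group
        _ = p⁻¹ * (q * (p * x * p⁻¹)) * p := by rw [h1]
        _ = (p⁻¹ * q) * p * x := by group
        _ = (q * p⁻¹) * p * x := by rw [F.q_C hq (F.PT (inv_mem hp))]
        _ = q * x := by group
  have hp'T := F.PT hp'
  set g := p' * g₀ with hg
  have hgT : ∀ t ∈ T, g * t * g⁻¹ ∈ T := by
    intro t ht
    have h1 := mul_mem (mul_mem hp'T (hg₀n t ht)) (inv_mem hp'T)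
    have e : p' * (g₀ * t * g₀⁻¹) * p'⁻¹ = g * t * g⁻¹ := by rw [hg]; group
    rwa [e] at h1
  have hga : g * a * g⁻¹ = a * z := by
    have h1 := F.four_cen hz hdd (t := a * z) (Or.inr (Or.inr (Or.inr rfl))) hp'T
    calc g * a * g⁻¹ = p' * (g₀ * a * g₀⁻¹) * p'⁻¹ := by rw [hg]; group
      _ = p' * (a * z) * p'⁻¹ := by rw [hg₀a']
      _ = a * z * p' * p'⁻¹ := by rw [h1]
      _ = a * z := by group
  have hgz : g * z * g⁻¹ = z := (F.norm_T hz hdd hgT).1
  have hgxT : ∀ u ∈ T ⊓ centralizer ({x} : Set G), g * u * g⁻¹ ∈ T ⊓ centralizer ({x} : Set G) := by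
    rintro u ⟨huT, hux⟩
    have hux' := mem_centralizer_singleton_iff.1 hux
    have h1 := hgT u huT
    refine ⟨h1, mem_centralizer_singleton_iff.2 ?_⟩
    have h2 : g * u * g⁻¹ * (q * x) = q * x * (g * u * g⁻¹) := by
      rw [← hgx]
      calc g * u * g⁻¹ * (g * x * g⁻¹) = g * (u * x) * g⁻¹ := by group
        _ = g * (x * u) * g⁻¹ := by rw [hux']
        _ = g * x * g⁻¹ * (g * u * g⁻¹) := by group
    have h3 := F.q_C hq h1
    have h4 : q * (g * u * g⁻¹ * x) = q * (x * (g * u * g⁻¹)) := by
      calc q * (g * u * g⁻¹ * x) = q * (g * u * g⁻¹) * x := by group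
        _ = g * u * g⁻¹ * q * x := by rw [h3]
        _ = g * u * g⁻¹ * (q * x) := by group
        _ = q * x * (g * u * g⁻¹) := h2
        _ = _ := by group
    exact mul_left_cancel h4
  -- `w = z`
  have hwz : w = z := by
    refine hw.resolve_right fun h => ?_
    obtain ⟨t, ht, htw⟩ := hpw.ex
    have h1 := hpw.all _ (hgxT t ht)
    rw [conj_pow, htw] at h1
    have h2 : g * w * g⁻¹ = a := by
      calc g * w * g⁻¹ = g * a * g⁻¹ * (g * z * g⁻¹) := by rw [h]; group
        _ = a * z * z := by rw [hga, hgz]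
        _ = a := by rw [mul_assoc, hz.zz, mul_one]
    rw [h2] at h1
    rcases h1 with h1 | h1
    · exact F.a1 h1
    · rw [h] at h1
      exact hz.z1 (mul_eq_left.1 h1.symm)
  subst hwz
  -- the centre of `S`
  have hcS : ∀ s ∈ (S : Subgroup G), (∀ t ∈ (S : Subgroup G), s * t = t * s) → s = 1 ∨ s = w := by
    intro s hs hsc
    have hsT : s ∈ T := by
      rw [← hSC]
      exact ⟨hs, mem_centralizer_singleton_iff.2 (hsc a (hS F.aT))⟩
    have hsg := hsc g₀ hg₀S
    have hfix : g₀ * s * g₀⁻¹ = s := by rw [← hsg]; group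
    rcases F.cen_T hz hdd hsT fun t ht => hsc t (hS ht) with h | h | h | h
    · exact Or.inl h
    · exfalso
      rw [h, hg₀a'] at hfix
      exact hz.z1 (mul_eq_left.1 hfix)
    · exact Or.inr h
    · exfalso
      rw [h] at hfix
      have h2 : g₀ * (a * w) * g₀⁻¹ = a := by
        calc g₀ * (a * w) * g₀⁻¹ = g₀ * a * g₀⁻¹ * (g₀ * w * g₀⁻¹) := by group
          _ = a := by rw [hg₀a', hg₀z, mul_assoc, hz.zz, mul_one]
      rw [h2] at hfix
      exact hz.z1 (mul_eq_left.1 hfix.symm)
  have hzS : ∀ t ∈ (S : Subgroup G), t * w = w * t := by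
    have hSb : (S : Subgroup G) ≠ ⊥ := by
      intro h
      apply F.a1
      have := hS F.aT
      rwa [h, mem_bot] at this
    obtain ⟨e, heS, he2, hec⟩ := exists_central (T := (S : Subgroup G)) (N := (S : Subgroup G)) S.2 le_rfl
      le_normalizer hSb
    rcases hcS e heS fun t ht => (hec t ht).symm with h | h
    · exfalso
      rw [h, orderOf_one] at he2
      exact absurd he2 (by norm_num)
    · rw [← h]
      exact hec
  have hSz : IsSyl (centralizer ({w} : Set G)) (S : Subgroup G) := by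
    refine ⟨S.2, fun t ht => mem_centralizer_singleton_iff.2 (hzS t ht), fun R hR _ hSR => ?_⟩
    exact S.is_maximal' hR hSR
  -- an element of order 4
  obtain ⟨c, hcd, hcc⟩ : ∃ c ∈ zpowers d, c * c = w := by
    obtain ⟨n, hn⟩ := hz.pw
    rcases n with _ | n
    · exfalso
      rw [pow_zero, pow_one] at hn
      apply hdd
      rw [← hn]
      exact hz.zz
    · exact ⟨d ^ 2 ^ n, pow_mem (mem_zpowers d) _, by rw [hn, ← pow_add, ← two_mul, pow_succ']⟩
  have hcP : c ∈ P := (zpowers_le.2 F.dih.d_mem) hcd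
  have hdr : d * r ≠ r * d := by
    intro h
    apply hdd
    have h4 := F.dih.rd
    rw [← h, mul_inv_cancel_right] at h4
    nth_rw 1 [h4]
    exact inv_mul_cancel _
  have hxno : ∀ y : G, ex o y = 1 → y ≠ x := by
    rintro y hy rfl
    rw [F.o_x] at hy
    exact absurd hy (by decide)
  refine ⟨w, c, i, g, φ, k, ?_⟩
  exact
    { zP := hzP
      zz := hz.zz
      z1 := hz.z1
      cP := hcP
      cc := hcc
      cx := by
        obtain ⟨m, rfl⟩ := mem_zpowers_iff.1 hcd
        have h1 := F.dx m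
        rw [two_mul, zpow_add, hcc] at h1
        rw [h1, F.x_z hz]
      Pnab := ⟨d, F.dih.d_mem, r, F.dih.r_mem, hdr⟩
      zT := fun t ht => F.z_T hz hdd ht
      nax := hxno a F.o_a
      naz := haz
      nxz := (hxno w (F.o_P hzP)).symm
      naxz := by
        intro h
        have h1 := congrArg (ex o) h
        rw [ex_mul o F.aT F.xT, F.o_a, F.o_x, F.o_P hzP] at h1
        exact absurd h1 (by decide)
      Uc := fun u hu v hv => F.U_comm hz hdd hu.1 (mem_centralizer_singleton_iff.1 hu.2) hv.1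
        (mem_centralizer_singleton_iff.1 hv.2)
      Ui := fun u hu huu => F.U_inv hz hdd hu.1 (mem_centralizer_singleton_iff.1 hu.2) huu
      iT := hi
      ix := hix
      ii := hii
      pw := hpw
      cen := fun t ht h => F.cen_T hz hdd ht h
      nT := fun n hn => F.norm_T hz hdd hn
      gT := hgT
      ga := hga
      gz := hgz
      gx := by
        rcases hq with h | h
        · left; rw [hgx, h, one_mul]
        · right; rw [hgx, h, F.aC F.xT]
      Zz := by
        intro S' hS'
        obtain ⟨y, hy, hle⟩ := hSz.conj hS'.two hS'.le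
        have hyz := mem_centralizer_singleton_iff.1 hy
        have hcjle : cj y (S : Subgroup G) ≤ centralizer ({w} : Set G) := by
          intro s hs
          have h1 := mem_centralizer_singleton_iff.1 (hSz.le (mem_cj.1 hs))
          have h2 : s = y * (y⁻¹ * s * y) * y⁻¹ := by group
          rw [mem_centralizer_singleton_iff, h2]
          have hyi : y⁻¹ * w = w * y⁻¹ := by
            calc y⁻¹ * w = y⁻¹ * (w * y) * y⁻¹ := by group
              _ = y⁻¹ * (y * w) * y⁻¹ := by rw [hyz]
              _ = w * y⁻¹ := by group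
          calc y * (y⁻¹ * s * y) * y⁻¹ * w = y * (y⁻¹ * s * y) * (y⁻¹ * w) := by group
            _ = y * (y⁻¹ * s * y) * (w * y⁻¹) := by rw [hyi]
            _ = y * (y⁻¹ * s * y * w) * y⁻¹ := by group
            _ = y * (w * (y⁻¹ * s * y)) * y⁻¹ := by rw [h1]
            _ = y * w * (y⁻¹ * s * y) * y⁻¹ := by group
            _ = w * y * (y⁻¹ * s * y) * y⁻¹ := by rw [hyz]
            _ = w * (y * (y⁻¹ * s * y) * y⁻¹) := by group
        have heq : cj y (S : Subgroup G) = S' := hS'.max _ (isPGroup_cj S.2) hcjle hle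
        refine ⟨⟨hS'.two, le_top, fun R hR _ hSR => ?_⟩, fun s hs hss hsc => ?_⟩
        · have h1 : Nat.card ↥R ≤ Nat.card ↥S' := by
            rw [← heq, card_cj]
            obtain ⟨S₂, hS₂⟩ := hR.exists_le_sylow
            have h2 : Nat.card ↥(S₂ : Subgroup G) = Nat.card ↥(S : Subgroup G) :=
              S₂.card_eq_multiplicity.trans S.card_eq_multiplicity.symm
            rw [← h2]
            exact Nat.card_le_card_of_injective _ (inclusion_injective hS₂)
          exact (Subgroup.eq_of_le_of_card_ge hSR h1).symm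
        · rw [← heq] at hs hsc
          have h1 := mem_cj.1 hs
          have h3 := hcS (y⁻¹ * s * y) h1 fun t ht => by
            have h4 : y * t * y⁻¹ ∈ cj y (S : Subgroup G) := by
              rw [mem_cj]
              have e : y⁻¹ * (y * t * y⁻¹) * y = t := by group
              rw [e]
              exact ht
            have h5 := hsc _ h4
            calc y⁻¹ * s * y * t = y⁻¹ * (s * (y * t * y⁻¹)) * y := by group
              _ = y⁻¹ * (y * t * y⁻¹ * s) * y := by rw [h5]
              _ = t * (y⁻¹ * s * y) := by group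
          have h6 : s = y * (y⁻¹ * s * y) * y⁻¹ := by group
          rcases h3 with h3 | h3
          · left; rw [h6, h3]; group
          · right; rw [h6, h3, hyz]; group
      φT := hφ.T
      φφ := hφ1
      φP := hφ.P
      φfl := fun h => by
        have := hφ.ne
        rwa [ex_of fl h] at this
      E16 := fun v hv hvv hv1 hvz => by
        obtain ⟨h1, h2, -⟩ := F.E16_of hz hφ hφ1 hv hvv hv1 hvz
        exact ⟨h1, h2⟩
      exv := ⟨r, F.dih.r_mem, F.dih.rr, F.dih.r1, fun h => F.dih.r_not (by rw [h]; exact F.z_zp hz)⟩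
      inv := by
        intro t ht htt ht1
        rcases F.inv_cases hz hφ hdd hφ1 ht htt with h1 | ⟨v, hv, hvv, hv1, hvz, h1⟩ | ⟨q', hq', p, hp, h1⟩
        · left
          rcases h1 with h1 | h1 | h1 | h1
          · exact absurd h1 ht1
          · exact Or.inl h1
          · exact Or.inr (Or.inl h1)
          · exact Or.inr (Or.inr h1)
        · right; left
          obtain ⟨h2, h3, h4⟩ := F.E16_of hz hφ hφ1 hv hvv hv1 hvz
          exact ⟨_, h4, h2, h3, h1, subset_closure (by simp), subset_closure (by simp)⟩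
        · right; right
          have hpT := F.PT hp
          have hpz : p * w * p⁻¹ = w := by rw [← F.z_cP hz hp]; group
          -- `s` centralizes `t` iff `p⁻¹ s p` centralizes `x`
          have hct : ∀ s ∈ T, s * t = t * s ↔ p⁻¹ * s * p * x = x * (p⁻¹ * s * p) := by
            intro s hs
            have hqs := F.q_C hq' hs
            constructor
            · intro h
              have h2 : q' * (s * (p * x * p⁻¹)) = q' * (p * x * p⁻¹ * s) := by
                calc q' * (s * (p * x * p⁻¹)) = q' * s * (p * x * p⁻¹) := by group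
                  _ = s * q' * (p * x * p⁻¹) := by rw [hqs]
                  _ = s * t := by rw [h1]; group
                  _ = t * s := h
                  _ = _ := by rw [h1]; group
              have h3 := mul_left_cancel h2
              calc p⁻¹ * s * p * x = p⁻¹ * (s * (p * x * p⁻¹)) * p := by group
                _ = p⁻¹ * (p * x * p⁻¹ * s) * p := by rw [h3]
                _ = x * (p⁻¹ * s * p) := by group
            · intro h
              calc s * t = s * q' * (p * x * p⁻¹) := by rw [h1]; group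
                _ = q' * s * (p * x * p⁻¹) := by rw [hqs]
                _ = q' * p * (p⁻¹ * s * p * x) * p⁻¹ := by group
                _ = q' * p * (x * (p⁻¹ * s * p)) * p⁻¹ := by rw [h]
                _ = t * s := by rw [h1]; group
          refine ⟨⟨hpw.k1, hpw.z1, hpw.zz, ?_, ?_⟩, ?_⟩
          · obtain ⟨f, hf, hfw⟩ := hpw.ex
            have h2 : p * f * p⁻¹ ∈ T := mul_mem (mul_mem hpT hf.1) (inv_mem hpT)
            refine ⟨p * f * p⁻¹, ⟨h2, mem_centralizer_singleton_iff.2 ((hct _ h2).2 ?_)⟩, ?_⟩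
            · have e : p⁻¹ * (p * f * p⁻¹) * p = f := by group
              rw [e]
              exact mem_centralizer_singleton_iff.1 hf.2
            · rw [conj_pow, hfw, hpz]
          · rintro s ⟨hsT, hst⟩
            have h2 : p⁻¹ * s * p ∈ T := mul_mem (mul_mem (inv_mem hpT) hsT) hpT
            have h3 := hpw.all (p⁻¹ * s * p) ⟨h2, mem_centralizer_singleton_iff.2
              ((hct s hsT).1 (mem_centralizer_singleton_iff.1 hst))⟩
            have h4 : s ^ 2 ^ k = p * (p⁻¹ * s * p) ^ 2 ^ k * p⁻¹ := by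
              rw [← conj_pow]
              congr 1
              group
            rw [h4]
            rcases h3 with h3 | h3
            · left; rw [h3]; group
            · right; rw [h3, hpz]
          · have hdT := F.PT F.dih.d_mem
            have hrT := F.PT F.dih.r_mem
            have hyT : ∀ y ∈ T, p * y * p⁻¹ ∈ T := fun y hy => mul_mem (mul_mem hpT hy) (inv_mem hpT)
            have hnot : ∀ y ∈ T, y * x * y⁻¹ ≠ x → p * y * p⁻¹ ∉ T ⊓ centralizer ({t} : Set G) := by
              rintro y hy hyx ⟨h2, h3⟩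
              apply hyx
              have h4 := (hct _ h2).1 (mem_centralizer_singleton_iff.1 h3)
              have e : p⁻¹ * (p * y * p⁻¹) * p = y := by group
              rw [e] at h4
              rw [h4]
              group
            refine four_dvd_relIndex F.T2.two (hyT d hdT) (hyT r hrT) (hnot d hdT ?_) (hnot r hrT ?_) ?_
            · intro h
              have h2 := F.dx 1
              rw [zpow_one, h, mul_one, zpow_two] at h2
              exact hdd (mul_eq_right.1 h2.symm)
            · intro h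
              have h2 := F.rx
              rw [h] at h2
              have h3 : d⁻¹ = 1 := mul_eq_right.1 h2.symm
              exact F.dih.d1 (inv_eq_one.1 h3)
            · have h2 := hnot (d⁻¹ * r) (mul_mem (inv_mem hdT) hrT) ?_
              · have e : (p * d * p⁻¹)⁻¹ * (p * r * p⁻¹) = p * (d⁻¹ * r) * p⁻¹ := by group
                rw [e]
                exact h2
              · intro h
                have h3 : d⁻¹ * r * x * (d⁻¹ * r)⁻¹ = d⁻¹ * (r * x * r⁻¹) * d := by group
                rw [h3, F.rx] at h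
                have h4 := F.dx (-1)
                rw [zpow_neg_one, inv_inv] at h4
                have h5 : d⁻¹ * (d⁻¹ * x) * d = d ^ (-3 : ℤ) * x := by
                  calc d⁻¹ * (d⁻¹ * x) * d = d⁻¹ * (d⁻¹ * x * d) := by group
                    _ = d⁻¹ * (d ^ (2 * (-1) : ℤ) * x) := by rw [h4]
                    _ = d ^ (-3 : ℤ) * x := by rw [← mul_assoc, ← zpow_neg_one, ← zpow_add]; norm_num
                rw [h5] at h
                exact F.odd_ne (k := -3) ⟨-2, by norm_num⟩ (mul_eq_right.1 h) }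

end Cfsg.Agent.UGT.PQ.SylDefs
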