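import Cfsg.Agent.UGT.PQ.World
import Cfsg.Agent.UGT.PQ.CaseA
import Cfsg.Agent.UGT.PQ.Gamma
import Cfsg.Agent.UGT.PQ.Fus
import Cfsg.Agent.UGT.PQ.End
import Cfsg.Agent.UGT.PQ.Fun
import Cfsg.Agent.UGT.PQ.KF
import Cfsg.Agent.UGT.PQ.Syl
import Cfsg.Agent.UGT.NoGamma

/-!
# (Q2): the assembly

* `false_of_conf`: the configuration `Conf` is impossible.
* `conf_of`: `Conf` from `SylDefs.Out`, `FunDefs.KF`, `FunDefs.FOut` and `AllOut G`.
* `sg_of`: `G = F*(G)⟨x⟩`.
* `allOut_of`, `no_triple`: the end.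
-/

set_option autoImplicit false

open Cfsg Subgroup
open Cfsg.Agent.SignalizersComponents Cfsg.Agent.Lib
open Cfsg.Agent.SignalizersComponents.IntrinsicBasic
open Cfsg.Agent.SignalizersComponents.PLayerAut
open Cfsg.Agent.Intrinsic.Basic Cfsg.Agent.Intrinsic.Cen
open Cfsg.Agent.McLLyComp.Act
open Cfsg.Agent.UGT.Triple Cfsg.Agent.UGT.TriBase Cfsg.Agent.UGT.Iface
open Cfsg.Agent.UGT.Res.KFacts (Pgl)
open Cfsg.Agent.UGT.PQ.Defs Cfsg.Agent.UGT.PQ.SylDefs Cfsg.Agent.UGT.PQ.FunDefs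
open Cfsg.Agent.UGT.PQ.Tools
open scoped commutatorElement

namespace Cfsg.Agent.UGT.PQ.Main

universe u

local notation "Fs" => generalizedFittingSubgroup

variable {G : Type u} [Group G]

section conf

variable [Finite G] {x a z c i g : G} {L P U M W : Subgroup G}

theorem false_of_conf (C : Conf x a z c i g L P U M W) : False := by
  obtain ⟨h, B⟩ := CaseA.caseB_of C
  have Γ := Gamma.gam_of C B
  exact false_of C Γ (fus_of C Γ)

end conf

/-- `z` is the only `2 ^ k`-th power `≠ 1` in `U`: it is fixed by `N(U)` -/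
theorem pw_fixed {U : Subgroup G} {k : ℕ} {z : G} (h : Pw U k z) :
    ∀ n ∈ normalizer (U : Set G), n * z * n⁻¹ = z := by
  intro n hn
  obtain ⟨t, ht, htz⟩ := h.ex
  have h1 : n * t * n⁻¹ ∈ U := (mem_normalizer_iff.mp hn t).mp ht
  have h2 : (n * t * n⁻¹) ^ 2 ^ k = n * z * n⁻¹ := by rw [conj_pow, htz]
  rcases h.all _ h1 with h3 | h3
  · exfalso
    rw [h2] at h3
    apply h.z1
    calc z = n⁻¹ * (n * z * n⁻¹) * n := by group
      _ = 1 := by rw [h3]; group
  · rw [← h2]; exact h3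

/-- `g` normalises `C_T(x)` -/
theorem g_normalizes [Finite G] {x a g : G} {T : Subgroup G} (hTa : T ≤ centralizer ({a} : Set G))
    (hgT : ∀ t ∈ T, g * t * g⁻¹ ∈ T) (hgx : g * x * g⁻¹ = x ∨ g * x * g⁻¹ = x * a) :
    g ∈ normalizer ((T ⊓ centralizer ({x} : Set G) : Subgroup G) : Set G) := by
  apply mem_normalizer_of_conj
  rintro d ⟨hdT, hdx⟩
  have hd : d * x = x * d := comm_c hdx
  refine ⟨hgT d hdT, mem_c ?_⟩
  have h1 : g * d * g⁻¹ * (g * x * g⁻¹) = g * x * g⁻¹ * (g * d * g⁻¹) := by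
    calc g * d * g⁻¹ * (g * x * g⁻¹) = g * (d * x) * g⁻¹ := by group
      _ = g * (x * d) * g⁻¹ := by rw [hd]
      _ = _ := by group
  rcases hgx with h | h
  · rw [h] at h1; exact h1
  · rw [h] at h1
    have h2 : g * d * g⁻¹ * a = a * (g * d * g⁻¹) := comm_c (hTa (hgT d hdT))
    have h3 : g * d * g⁻¹ * x * a = x * (g * d * g⁻¹) * a := by
      calc g * d * g⁻¹ * x * a = g * d * g⁻¹ * (x * a) := by group
        _ = x * a * (g * d * g⁻¹) := h1
        _ = x * (a * (g * d * g⁻¹)) := by group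
        _ = x * (g * d * g⁻¹ * a) := by rw [h2]
        _ = _ := by group
    exact mul_right_cancel h3

/-- `G = F*(G)⟨x⟩` -/
theorem sg_of [Finite G] (hG : MinCex G) (H : Pgl G) {x a : G} {L : Subgroup G} (T : IsTriple x a L) :
    ∀ f : G →* ℤˣ, f x = 1 → ∀ y : G, f y = 1 := by
  intro f hfx y
  have htop := NoGamma.sup_eq_top_of_triple hG T (NoGamma.fgam_l2 (H x a L T).1)
  have hs : IsSimpleGroup ↥(Fs G) := hG.simple
  have hle : Fs G ≤ f.ker := by
    have hn : (f.ker.subgroupOf (Fs G)).Normal := inferInstance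
    rcases hn.eq_bot_or_eq_top with h1 | h1
    · exfalso
      apply hG.nonab
      refine ⟨⟨fun u v => ?_⟩⟩
      have h2 : u * v * (v * u)⁻¹ ∈ f.ker.subgroupOf (Fs G) := by
        rw [mem_subgroupOf, MonoidHom.mem_ker]
        change f ((u : G) * v * ((v : G) * u)⁻¹) = 1
        rw [map_mul, map_mul, map_inv, map_mul, mul_comm (f (v : G)), mul_inv_cancel]
      rw [h1, mem_bot] at h2
      exact mul_inv_eq_one.mp h2
    · intro w hw
      have h2 : (⟨w, hw⟩ : ↥(Fs G)) ∈ f.ker.subgroupOf (Fs G) := h1 ▸ mem_top _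
      exact h2
  have h3 : Fs G ⊔ zpowers x ≤ f.ker := sup_le hle (by rw [zpowers_le]; exact hfx)
  rw [htop] at h3
  exact h3 (mem_top y)

section out

variable [Finite G] {A : Type*} [Group A] {x a z c i g φ : G} {L T P M W : Subgroup G} {k : ℕ} {fl : ↥T →* A}

theorem conf_of (H : Pgl G) (hQ : Frame.Q2 G)
    (FT : ∀ Y : Subgroup G, Odd (Nat.card ↥Y) → Group.IsSolvable ↥Y) (hAll : AllOut G)
    (hT : IsTriple x a L) (T2 : IsSyl (centralizer ({a} : Set G)) T)
    (Tx : IsSyl (centralizer ({a} : Set G) ⊓ centralizer ({x} : Set G)) (T ⊓ centralizer ({x} : Set G)))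
    (xT : x ∈ T) (aT : a ∈ T) (hP : ∀ p, p ∈ P ↔ p ∈ T ∧ p ∈ L) (O : Out x a z c i g φ T P k fl)
    (K : KF x a z c φ L) (F : FOut x a z g L M W) (hsg : ∀ f : G →* ℤˣ, f x = 1 → ∀ y : G, f y = 1) :
    Conf x a z c i g L P (T ⊓ centralizer ({x} : Set G)) M W := by
  have hxx := sq_of_order hT.invx
  have haa := sq_of_order hT.inva
  have hzT : z ∈ T := ((hP z).mp O.zP).1
  have hzL : z ∈ L := ((hP z).mp O.zP).2
  have hax : a * x = x * a := hT.comm
  have haz : a * z = z * a := (comm_c (T2.le hzT)).symm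
  have hxz : x * z = z * x := O.zT x xT
  exact
    { tri := hT
      xx := hxx
      x1 := ne_one_of_order hT.invx
      aa := haa
      a1 := ne_one_of_order hT.inva
      zz := O.zz
      z1 := O.z1
      ax := hax
      az := haz
      xz := hxz
      nax := O.nax
      naz := O.naz
      nxz := O.nxz
      naxz := O.naxz
      LN := Frame.normal hQ hT
      simp := K.simp
      nab := K.nab
      zL := hzL
      nfz := K.nfz
      PL := fun p hp => ((hP p).mp hp).2
      Ptwo := T2.two.to_le (fun p hp => ((hP p).mp hp).1)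
      zP := O.zP
      Pz := fun p hp => O.zT p ((hP p).mp hp).1
      Pnab := O.Pnab
      cP := O.cP
      cc := O.cc
      cx := O.cx
      U2 := Tx
      Uc := O.Uc
      Ui := O.Ui
      Ua := ⟨aT, mem_c hax⟩
      Ux := ⟨xT, mem_c rfl⟩
      Uz := ⟨hzT, mem_c hxz.symm⟩
      Uch := pw_fixed O.pw
      iU := ⟨O.iT, mem_c O.ix⟩
      ii := O.ii
      nAz := World.nAz_of O hAll
      nAx := F.nAx
      Zz := fun S hS => (O.Zz S hS).2
      Wodd := F.Wodd
      MW := F.MW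
      WO := F.WO
      azM := F.azM
      LM := F.LM
      OxM := F.OxM
      gM := F.gM
      ga := O.ga
      gz := O.gz
      gU := g_normalizes T2.le O.gT O.gx
      gx := O.gx
      J1 := F.J1
      noE := F.noE
      YL := K.YL
      Yodd := K.Yodd
      two := K.two
      gen := K.gen
      cnt := World.cnt_of O hAll
      solv := World.solv_of H hQ FT
      sg := hsg }

end out

/-! ### the assembly -/

variable [Finite G]

theorem allOut_of (H : Pgl G) (hQ : Frame.Q2 G) (hr : ¬ SectionalPRankLE 2 4 G) : AllOut G := by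
  intro u t J hJ
  obtain ⟨F, i1, i2, -, R, ho⟩ := H.exists_rep hJ
  obtain ⟨T, P, d, r, hT, hP, hF⟩ := Frame.exists_frame hQ hJ R ho
  rcases SylDefs.out_of hF with h | ⟨z, c, i, g, φ, k, O⟩
  · exact absurd h hr
  · exact ⟨_, _, T, P, _, z, c, i, g, φ, k, hF.T2, hF.Tx, hF.xT, hF.aT, hP, O⟩

/-- **(Q2)**: no minimal counterexample in which all triples are of type `L₂(q)` with `x` of `PGL₂` type and `a` is the only
2-element `≠ 1` of `C(a)` trivial on `L / O(L)` -/
theorem no_triple (hG : MinCex G) (H : Pgl G) (hQ : Frame.Q2 G)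
    (FT : ∀ Y : Subgroup G, Odd (Nat.card ↥Y) → Group.IsSolvable ↥Y) (hr : ¬ SectionalPRankLE 2 4 G)
    {x a : G} {L : Subgroup G} (T : IsTriple x a L) : False := by
  have hAll := allOut_of H hQ hr
  obtain ⟨F, i1, i2, h5, R, ho⟩ := H.exists_rep T
  obtain ⟨S, P, d, r, hN, hP, hFr⟩ := Frame.exists_frame hQ T R ho
  rcases SylDefs.out_of hFr with h | ⟨z, c, i, g, φ, k, O⟩
  · exact hr h
  have hLN := Frame.normal hQ T
  have hzS : z ∈ S := ((hP z).mp O.zP).1
  have D : KF.Inp x a z c L :=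
    { T₀ := T
      LN := hLN
      zL := ((hP z).mp O.zP).2
      zz := O.zz
      z1 := O.z1
      xz := O.zT x hFr.xT
      cL := ((hP c).mp O.cP).2
      cc := O.cc
      cx := O.cx }
  have K : KF x a z c φ L := KF.kf_of D R ho h5 hQ FT (hN O.φT) O.φφ (O.zT φ O.φT) (O.φfl O.φT)
  obtain ⟨M, W, hM⟩ := Fun.fun_of FT hAll (World.nAz_of O hAll) T hLN
    (fun p hp => ((hP p).mp hp).2) hFr.T2 hFr.Tx O K
  exact false_of_conf (conf_of H hQ FT hAll T hFr.T2 hFr.Tx hFr.xT hFr.aT hP O K hM (sg_of hG H T))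

end Cfsg.Agent.UGT.PQ.Main
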