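import Cfsg.Agent.UGT.PQ.GTools
import Cfsg.Agent.UGT.TT.Basic

/-!
# (Q2): the quotient `N_G(N) / O(N)`

`q N g` is the image of `g ∈ N_G(N)` (and `1` for other `g`), `im N A` the image of `A ≤ N_G(N)`.
-/

set_option autoImplicit false

open Cfsg Subgroup
open Cfsg.Agent.SignalizersComponents Cfsg.Agent.Lib
open Cfsg.Agent.SignalizersComponents.IntrinsicBasic
open Cfsg.Agent.Intrinsic.Basic Cfsg.Agent.Intrinsic.Cen
open Cfsg.Agent.Lib.KleinGen
open Cfsg.Agent.UGT.Triple Cfsg.Agent.UGT.TriBase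
open Cfsg.Agent.UGT.PQ.Defs Cfsg.Agent.UGT.PQ.GT
open scoped commutatorElement

namespace Cfsg.Agent.UGT.PQ.Quo

variable {G : Type*} [Group G]

/-- the kernel -/
abbrev Ker (N : Subgroup G) : Subgroup ↥(normalizer (N : Set G)) := (core N).subgroupOf (normalizer (N : Set G))

instance kerNormal (N : Subgroup G) : (Ker N).Normal := by
  constructor
  rintro ⟨k, hk⟩ hk' ⟨g, hg⟩
  exact conj_mem_core hg hk'

/-- the quotient -/
abbrev Q (N : Subgroup G) : Type _ := ↥(normalizer (N : Set G)) ⧸ Ker N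

open Classical in
/-- the image of an element -/
noncomputable def q (N : Subgroup G) (g : G) : Q N :=
  if h : g ∈ normalizer (N : Set G) then QuotientGroup.mk (⟨g, h⟩ : ↥(normalizer (N : Set G))) else 1

/-- the image of a subgroup -/
def im (N A : Subgroup G) : Subgroup (Q N) := (A.subgroupOf (normalizer (N : Set G))).map (QuotientGroup.mk' (Ker N))

section basic

variable {N : Subgroup G} {g h : G}

theorem q_of (hg : g ∈ normalizer (N : Set G)) : q N g = QuotientGroup.mk (⟨g, hg⟩ : ↥(normalizer (N : Set G))) := by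
  unfold q
  rw [dif_pos hg]

theorem q_mul (hg : g ∈ normalizer (N : Set G)) (hh : h ∈ normalizer (N : Set G)) : q N (g * h) = q N g * q N h := by
  rw [q_of hg, q_of hh, q_of (mul_mem hg hh)]
  rfl

theorem q_one : q N (1 : G) = 1 := by
  rw [q_of (one_mem _)]
  rfl

theorem q_inv (g : G) : q N g⁻¹ = (q N g)⁻¹ := by
  by_cases hg : g ∈ normalizer (N : Set G)
  · rw [q_of hg, q_of (inv_mem hg)]
    rfl
  · have hg' : g⁻¹ ∉ normalizer (N : Set G) := fun h => hg (by simpa using inv_mem h)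
    unfold q
    rw [dif_neg hg, dif_neg hg', inv_one]

theorem q_conj (hg : g ∈ normalizer (N : Set G)) (hh : h ∈ normalizer (N : Set G)) :
    q N (g * h * g⁻¹) = q N g * q N h * (q N g)⁻¹ := by
  rw [q_mul (mul_mem hg hh) (inv_mem hg), q_mul hg hh, q_inv]

theorem q_pow (hg : g ∈ normalizer (N : Set G)) (n : ℕ) : q N (g ^ n) = q N g ^ n := by
  rw [q_of hg, q_of (pow_mem hg n)]
  rfl

theorem q_eq_one (hg : g ∈ normalizer (N : Set G)) : q N g = 1 ↔ g ∈ core N := by
  rw [q_of hg, QuotientGroup.eq_one_iff]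
  exact Subgroup.mem_subgroupOf

theorem q_core (hg : g ∈ core N) : q N g = 1 :=
  (q_eq_one (le_normalizer (core_le N hg))).mpr hg

theorem q_eq (hg : g ∈ normalizer (N : Set G)) (hh : h ∈ normalizer (N : Set G)) :
    q N g = q N h ↔ g⁻¹ * h ∈ core N := by
  rw [← q_eq_one (mul_mem (inv_mem hg) hh), q_mul (inv_mem hg) hh, q_inv, inv_mul_eq_one]

theorem q_comm (hg : g ∈ normalizer (N : Set G)) (hh : h ∈ normalizer (N : Set G)) :
    q N g * q N h = q N h * q N g ↔ ⁅g, h⁆ ∈ core N := by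
  have e : ⁅g, h⁆ = g * h * (h * g)⁻¹ := by rw [commutatorElement_def]; group
  rw [e, ← q_eq_one (mul_mem (mul_mem hg hh) (inv_mem (mul_mem hh hg))), q_mul (mul_mem hg hh) (inv_mem (mul_mem hh hg)),
    q_inv, q_mul hg hh, q_mul hh hg, mul_inv_eq_one]

theorem mem_im {A : Subgroup G} (hA : A ≤ normalizer (N : Set G)) {u : Q N} : u ∈ im N A ↔ ∃ a ∈ A, q N a = u := by
  unfold im
  rw [Subgroup.mem_map]
  constructor
  · rintro ⟨⟨a, ha⟩, haA, rfl⟩
    exact ⟨a, haA, q_of ha⟩
  · rintro ⟨a, ha, rfl⟩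
    exact ⟨⟨a, hA ha⟩, ha, (q_of (hA ha)).symm⟩

theorem q_mem_im {A : Subgroup G} (hA : A ≤ normalizer (N : Set G)) {a : G} (ha : a ∈ A) : q N a ∈ im N A :=
  (mem_im hA).mpr ⟨a, ha, rfl⟩

theorem im_mono {A B : Subgroup G} (h : A ≤ B) : im N A ≤ im N B := Subgroup.map_mono (Subgroup.comap_mono h)

theorem im_sup {A B : Subgroup G} (hA : A ≤ normalizer (N : Set G)) (hB : B ≤ normalizer (N : Set G)) :
    im N (A ⊔ B) = im N A ⊔ im N B := by
  unfold im
  rw [Subgroup.subgroupOf_sup hA hB, Subgroup.map_sup]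

theorem im_core : im N (core N) = ⊥ := by
  rw [eq_bot_iff]
  intro u hu
  obtain ⟨a, ha, rfl⟩ := (mem_im ((core_le N).trans le_normalizer)).mp hu
  rw [mem_bot]
  exact q_core ha

theorem surj (u : Q N) : ∃ g ∈ normalizer (N : Set G), q N g = u := by
  obtain ⟨⟨g, hg⟩, rfl⟩ := QuotientGroup.mk_surjective u
  exact ⟨g, hg, q_of hg⟩

end basic

section fin

variable [Finite G] {N : Subgroup G}

theorem odd_im {A : Subgroup G} (hA : A ≤ normalizer (N : Set G)) (h : Odd (Nat.card ↥A)) : Odd (Nat.card ↥(im N A)) := by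
  have h1 : Nat.card ↥(im N A) ∣ Nat.card ↥(A.subgroupOf (normalizer (N : Set G))) := by
    unfold im
    exact Subgroup.card_map_dvd _ _
  rw [Nat.card_congr (Subgroup.subgroupOfEquivOfLe hA).toEquiv] at h1
  exact Odd.of_dvd_nat h h1

/-- the preimage of a subgroup of the image of `N` -/
def pre (N : Subgroup G) (R : Subgroup (Q N)) : Subgroup G :=
  (R.comap (QuotientGroup.mk' (Ker N))).map (normalizer (N : Set G)).subtype

omit [Finite G] in
theorem mem_pre {R : Subgroup (Q N)} {g : G} : g ∈ pre N R ↔ g ∈ normalizer (N : Set G) ∧ q N g ∈ R := by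
  unfold pre
  rw [Subgroup.mem_map]
  constructor
  · rintro ⟨⟨g, hg⟩, h1, rfl⟩
    refine ⟨hg, ?_⟩
    change q N g ∈ R
    rw [q_of hg]
    exact h1
  · rintro ⟨hg, h1⟩
    refine ⟨⟨g, hg⟩, ?_, rfl⟩
    rw [q_of hg] at h1
    exact h1

omit [Finite G] in
theorem core_le_pre (R : Subgroup (Q N)) : core N ≤ pre N R := by
  intro g hg
  rw [mem_pre]
  refine ⟨le_normalizer (core_le N hg), ?_⟩
  rw [q_core hg]
  exact R.one_mem

omit [Finite G] in
theorem im_pre (R : Subgroup (Q N)) : im N (pre N R) = R := by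
  have h0 : pre N R ≤ normalizer (N : Set G) := fun g hg => (mem_pre.mp hg).1
  ext u
  rw [mem_im h0]
  constructor
  · rintro ⟨g, hg, rfl⟩
    exact (mem_pre.mp hg).2
  · intro hu
    obtain ⟨g, hg, rfl⟩ := surj u
    exact ⟨g, mem_pre.mpr ⟨hg, hu⟩, rfl⟩

omit [Finite G] in
theorem pre_le {R : Subgroup (Q N)} (hR : R ≤ im N N) : pre N R ≤ N := by
  intro g hg
  obtain ⟨hg1, hg2⟩ := mem_pre.mp hg
  obtain ⟨n, hn, hng⟩ := (mem_im le_normalizer).mp (hR hg2)
  have h1 := (q_eq (le_normalizer hn) hg1).mp hng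
  have h2 := N.mul_mem hn (core_le N h1)
  rwa [mul_inv_cancel_left] at h2

theorem card_pre (R : Subgroup (Q N)) : Nat.card ↥(pre N R) = Nat.card ↥(core N) * Nat.card ↥R := by
  unfold pre
  rw [Subgroup.card_subtype]
  have h1 : Nat.card ↥(R.comap (QuotientGroup.mk' (Ker N))) = Nat.card ↥(Ker N) * Nat.card ↥R := by
    have hk : (QuotientGroup.mk' (Ker N)).ker = Ker N := QuotientGroup.ker_mk' _
    have h2 : Ker N ≤ R.comap (QuotientGroup.mk' (Ker N)) := by
      intro k hk'
      rw [mem_comap]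
      have h3 : QuotientGroup.mk' (Ker N) k = 1 := by
        rw [QuotientGroup.mk'_apply, QuotientGroup.eq_one_iff]
        exact hk'
      rw [h3]
      exact R.one_mem
    have h3 := Subgroup.card_mul_index ((Ker N).subgroupOf (R.comap (QuotientGroup.mk' (Ker N))))
    rw [Nat.card_congr (Subgroup.subgroupOfEquivOfLe h2).toEquiv] at h3
    have h4 : ((Ker N).subgroupOf (R.comap (QuotientGroup.mk' (Ker N)))).index = Nat.card ↥R := by
      have h5 := Subgroup.relIndex_ker (K := R.comap (QuotientGroup.mk' (Ker N))) (QuotientGroup.mk' (Ker N))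
      rw [hk, Subgroup.map_comap_eq_self_of_surjective (QuotientGroup.mk'_surjective _)] at h5
      exact h5
    rw [h4] at h3
    exact h3.symm
  rw [h1, Nat.card_congr (Subgroup.subgroupOfEquivOfLe ((core_le N).trans le_normalizer)).toEquiv]

/-- `O(N / O(N)) = 1` -/
theorem no_odd {R : Subgroup (Q N)} (hR : R ≤ im N N) (hn : ∀ u ∈ im N N, ∀ r ∈ R, u * r * u⁻¹ ∈ R)
    (ho : Odd (Nat.card ↥R)) : R = ⊥ := by
  have h1 : pre N R ≤ core N := by
    refine le_core (pre_le hR) ?_ ?_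
    · intro n hn'
      rw [mem_normalizer_iff_cj]
      have hle : ∀ m ∈ N, cj m (pre N R) ≤ pre N R := by
        intro m hm g hg
        rw [mem_cj] at hg
        obtain ⟨hg1, hg2⟩ := mem_pre.mp hg
        rw [mem_pre]
        have e : g = m * (m⁻¹ * g * m) * m⁻¹ := by group
        rw [e]
        refine ⟨mul_mem (mul_mem (le_normalizer hm) hg1) (inv_mem (le_normalizer hm)), ?_⟩
        rw [q_conj (le_normalizer hm) hg1]
        exact hn _ (q_mem_im le_normalizer hm) _ hg2
      refine le_antisymm (hle n hn') ?_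
      have h2 := cj_mono (g := n) (hle n⁻¹ (N.inv_mem hn'))
      rwa [cj_cj_inv] at h2
    · rw [card_pre]
      exact (odd_card_core N).mul ho
  rw [eq_bot_iff]
  have h2 := im_mono (N := N) h1
  rwa [im_pre, im_core] at h2

/-- fixed points of an involution on an odd subgroup cover the fixed points on the image -/
theorem lift_fixed {A : Subgroup G} (hA : A ≤ normalizer (N : Set G)) (ho : Odd (Nat.card ↥A)) {s : G} (ss : s * s = 1)
    (hs : s ∈ normalizer (N : Set G)) (hsA : ∀ a ∈ A, s * a * s⁻¹ ∈ A) {u : Q N} (hu : u ∈ im N A)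
    (hc : q N s * u = u * q N s) : ∃ a ∈ A, a * s = s * a ∧ q N a = u := by
  obtain ⟨a, ha, rfl⟩ := (mem_im hA).mp hu
  obtain ⟨c, hcA, d, hd, h1, h2, rfl⟩ := exists_centralizer_mul_inverted A ho s ss hsA ha
  refine ⟨c, hcA, h1.symm, ?_⟩
  have h3 : q N s * q N c = q N c * q N s := by rw [← q_mul hs (hA hcA), h1, q_mul (hA hcA) hs]
  have h4 : q N s * q N d * (q N s)⁻¹ = (q N d)⁻¹ := by rw [← q_conj hs (hA hd), h2, q_inv]
  rw [q_mul (hA hcA) (hA hd)] at hc ⊢
  have h5 : q N s * q N d * (q N s)⁻¹ = q N d := by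
    have h6 : q N c * (q N s * q N d) = q N c * (q N d * q N s) := by
      rw [← mul_assoc, ← h3, mul_assoc, hc, mul_assoc]
    have h7 := mul_left_cancel h6
    rw [h7, mul_inv_cancel_right]
  rw [h4] at h5
  have h6 : q N d = 1 := by
    refine eq_of_mul_self_eq (odd_im hA ho) (q_mem_im hA hd) (one_mem _) ?_
    rw [one_mul]
    nth_rw 1 [← h5]
    exact inv_mul_cancel _
  rw [h6, mul_one]

/-- a 2-group `T` and an element whose coset of `O(N)` is fixed by `T` -/
theorem lift_coset {T : Subgroup G} (hT : IsPGroup 2 ↥T) (hTN : T ≤ normalizer (N : Set G)) {g : G}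
    (hg : g ∈ normalizer (N : Set G)) (hc : ∀ t ∈ T, q N t * q N g = q N g * q N t) :
    ∃ w ∈ core N, ∀ t ∈ T, t * (g * w) = g * w * t := by
  refine Cfsg.Agent.UGT.TT.exists_fix_coset (odd_card_core N) hT (fun t ht w hw => conj_mem_core (hTN ht) hw) ?_
  intro t ht
  rw [← q_eq hg (mul_mem (mul_mem (hTN ht) hg) (inv_mem (hTN ht))), q_conj (hTN ht) hg, hc t ht, mul_inv_cancel_right]

end fin

end Cfsg.Agent.UGT.PQ.Quo
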