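import Cfsg.Agent.UGT.PQ.SylDefs
import Cfsg.Agent.UGT.RankOneR

/-!
# (Q2), P1-P4: the group `T`

Elementary facts on `Fr x a d r T P fl o`: the kernel `{1, a} P {1, x}` of `fl`, the central involution `z` of `P`, the
group `U = T ∩ C(x)`, `Z(T) = {1, a, z, az}`, the normalizer of `T`.
-/

set_option autoImplicit false
set_option linter.unusedSectionVars false

open Cfsg Subgroup
open Cfsg.Agent.SignalizersComponents Cfsg.Agent.Lib
open Cfsg.Agent.SignalizersComponents.IntrinsicBasic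
open Cfsg.Agent.Intrinsic.Basic Cfsg.Agent.Intrinsic.Cen
open Cfsg.Agent.McLLyComp.Act
open Cfsg.Agent.UGT.Triple Cfsg.Agent.UGT.TriBase
open Cfsg.Agent.GH.L2Aut (Dih Four)
open scoped commutatorElement

namespace Cfsg.Agent.UGT.PQ.SylDefs

variable {G A : Type*} [Group G] [Group A]

section ex

variable {B : Type*} [Group B] {T : Subgroup G} (f : ↥T →* B)

open Classical in
/-- extension by `1` -/
noncomputable def ex (t : G) : B := if h : t ∈ T then f ⟨t, h⟩ else 1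

theorem ex_of {t : G} (h : t ∈ T) : ex f t = f ⟨t, h⟩ := dif_pos h

theorem ex_mul {s t : G} (hs : s ∈ T) (ht : t ∈ T) : ex f (s * t) = ex f s * ex f t := by
  rw [ex_of f hs, ex_of f ht, ex_of f (mul_mem hs ht), ← map_mul]
  rfl

theorem ex_one : ex f (1 : G) = 1 := by
  rw [ex_of f (one_mem T)]
  exact map_one f

theorem ex_inv {t : G} (ht : t ∈ T) : ex f t⁻¹ = (ex f t)⁻¹ := by
  rw [ex_of f ht, ex_of f (inv_mem ht), ← map_inv]
  rfl

theorem ex_conj {s t : G} (hs : s ∈ T) (ht : t ∈ T) : ex f (s * t * s⁻¹) = ex f s * ex f t * (ex f s)⁻¹ := by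
  rw [ex_mul f (mul_mem hs ht) (inv_mem hs), ex_mul f hs ht, ex_inv f hs]

theorem ex_zpow {t : G} (ht : t ∈ T) (n : ℤ) : ex f (t ^ n) = ex f t ^ n := by
  rw [ex_of f ht, ex_of f (zpow_mem ht n), ← map_zpow]
  rfl

theorem ex_pow {t : G} (ht : t ∈ T) (n : ℕ) : ex f (t ^ n) = ex f t ^ n := by
  rw [ex_of f ht, ex_of f (pow_mem ht n), ← map_pow]
  rfl

end ex

/-- the eight elements of `⟨a, x, z⟩` -/
def In8 (a x z u : G) : Prop := u = 1 ∨ u = a ∨ u = x ∨ u = z ∨ u = a * x ∨ u = a * z ∨ u = x * z ∨ u = a * x * z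

/-- `z` is the central involution of `⟨d, r⟩` -/
structure IsZ (d z : G) : Prop where
  pw : ∃ n : ℕ, z = d ^ 2 ^ n
  zz : z * z = 1
  z1 : z ≠ 1

namespace Fr

variable {x a d r : G} {T P : Subgroup G} {fl : ↥T →* A} {o : ↥T →* ℤˣ} (F : Fr x a d r T P fl o)
include F

theorem aC {t : G} (ht : t ∈ T) : t * a = a * t := mem_centralizer_singleton_iff.1 (F.T2.le ht)

theorem f_a : ex fl a = 1 := by rw [ex_of fl F.aT]; exact F.fla F.aT

theorem f_x : ex fl x = 1 := by rw [ex_of fl F.xT]; exact F.flx F.xT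

theorem f_P {p : G} (hp : p ∈ P) : ex fl p = 1 := by rw [ex_of fl (F.PT hp)]; exact F.flP p (F.PT hp) hp

theorem o_a : ex o a = 1 := by rw [ex_of o F.aT]; exact F.oa F.aT

theorem o_x : ex o x = -1 := by rw [ex_of o F.xT]; exact F.ox F.xT

theorem o_P {p : G} (hp : p ∈ P) : ex o p = 1 := by rw [ex_of o (F.PT hp)]; exact F.oP p (F.PT hp) hp

theorem xi : x⁻¹ = x := inv_eq_of_mul_eq_one_left F.xx

theorem ai : a⁻¹ = a := inv_eq_of_mul_eq_one_left F.aa

theorem Pc {t p : G} (ht : t ∈ T) (hp : p ∈ P) : t * p * t⁻¹ ∈ P :=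
  F.norm t (F.aC ht) (fun _ hs => mul_mem (mul_mem ht hs) (inv_mem ht)) p hp

theorem q_T {q : G} (hq : q = 1 ∨ q = a) : q ∈ T := by
  rcases hq with rfl | rfl
  · exact one_mem _
  · exact F.aT

theorem q_q {q : G} (hq : q = 1 ∨ q = a) : q * q = 1 := by
  rcases hq with rfl | rfl
  · exact one_mul _
  · exact F.aa

theorem q_C {q t : G} (hq : q = 1 ∨ q = a) (ht : t ∈ T) : t * q = q * t := by
  rcases hq with rfl | rfl
  · rw [one_mul, mul_one]
  · exact F.aC ht

theorem q_f {q : G} (hq : q = 1 ∨ q = a) : ex fl q = 1 := by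
  rcases hq with rfl | rfl
  · exact ex_one _
  · exact F.f_a

theorem q_o {q : G} (hq : q = 1 ∨ q = a) : ex o q = 1 := by
  rcases hq with rfl | rfl
  · exact ex_one _
  · exact F.o_a

theorem f_qp {q p : G} (hq : q = 1 ∨ q = a) (hp : p ∈ P) : ex fl (q * p) = 1 := by
  rw [ex_mul fl (F.q_T hq) (F.PT hp), F.q_f hq, F.f_P hp, one_mul]

theorem o_qp {q p : G} (hq : q = 1 ∨ q = a) (hp : p ∈ P) : ex o (q * p) = 1 := by
  rw [ex_mul o (F.q_T hq) (F.PT hp), F.q_o hq, F.o_P hp, one_mul]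

theorem o_qpx {q p : G} (hq : q = 1 ∨ q = a) (hp : p ∈ P) : ex o (q * p * x) = -1 := by
  rw [ex_mul o (mul_mem (F.q_T hq) (F.PT hp)) F.xT, F.o_qp hq hp, F.o_x, one_mul]

theorem cov_in {t : G} (ht : t ∈ T) (h : ex fl t = 1) (ho : ex o t = 1) :
    ∃ q : G, (q = 1 ∨ q = a) ∧ ∃ p ∈ P, t = q * p := by
  rw [ex_of fl ht] at h
  obtain ⟨q, hq, p, hp, h1 | h1⟩ := F.cov t ht h
  · exact ⟨q, hq, p, hp, h1⟩
  · exfalso
    rw [h1, F.o_qpx hq hp] at ho
    exact absurd ho (by decide)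

theorem cov_out {t : G} (ht : t ∈ T) (h : ex fl t = 1) (ho : ex o t ≠ 1) :
    ∃ q : G, (q = 1 ∨ q = a) ∧ ∃ p ∈ P, t = q * p * x := by
  rw [ex_of fl ht] at h
  obtain ⟨q, hq, p, hp, h1 | h1⟩ := F.cov t ht h
  · exfalso
    rw [h1, F.o_qp hq hp] at ho
    exact ho rfl
  · exact ⟨q, hq, p, hp, h1⟩

/-! ### the dihedral group -/

theorem xdk (k : ℤ) : x * d ^ k * x⁻¹ = d ^ (-k) := by
  rw [← conj_zpow, F.xd, inv_zpow, zpow_neg]

theorem xdkr (k : ℤ) : x * (d ^ k * r) * x⁻¹ = d ^ (1 - k) * r := by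
  calc x * (d ^ k * r) * x⁻¹ = (x * d ^ k * x⁻¹) * (x * r * x⁻¹) := by group
    _ = d ^ (-k) * (d * r) := by rw [F.xdk, F.xr]
    _ = d ^ (1 - k) * r := by
      rw [← mul_assoc]
      nth_rw 2 [← zpow_one d]
      rw [← zpow_add]
      congr 2
      ring

theorem rx : r * x * r⁻¹ = d⁻¹ * x := by
  have h1 : x * r = d * r * x := by rw [← F.xr]; group
  have h2 : r * x = d⁻¹ * (x * r) := by rw [h1]; group
  rw [h2]; group

/-- `d ^ j x d ^ (-j) = d ^ (2 j) x` -/
theorem dx (j : ℤ) : d ^ j * x * (d ^ j)⁻¹ = d ^ (2 * j) * x := by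
  have h1 : x * d ^ (-j) = d ^ j * x := by
    have := F.xdk (-j)
    rw [neg_neg] at this
    rw [← this]; group
  rw [← zpow_neg, mul_assoc, h1, ← mul_assoc, ← zpow_add, two_mul]

/-- all `d ^ k x` are conjugate to `x` -/
theorem conj_x (k : ℤ) : ∃ p ∈ P, p * x * p⁻¹ = d ^ k * x := by
  rcases Int.even_or_odd' k with ⟨j, h | h⟩
  · exact ⟨d ^ j, zpow_mem F.dih.d_mem j, by rw [F.dx, h]⟩
  · refine ⟨d ^ (j + 1) * r, mul_mem (zpow_mem F.dih.d_mem _) F.dih.r_mem, ?_⟩
    have e : d ^ (j + 1) * r * x * (d ^ (j + 1) * r)⁻¹ = d ^ (j + 1) * (r * x * r⁻¹) * (d ^ (j + 1))⁻¹ := by group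
    have h1 : d ^ (j + 1) * (d⁻¹ * x) * (d ^ (j + 1))⁻¹ = d⁻¹ * (d ^ (j + 1) * x * (d ^ (j + 1))⁻¹) := by
      have h2 : d ^ (j + 1) * d⁻¹ = d⁻¹ * d ^ (j + 1) := by group
      calc d ^ (j + 1) * (d⁻¹ * x) * (d ^ (j + 1))⁻¹ = (d ^ (j + 1) * d⁻¹) * x * (d ^ (j + 1))⁻¹ := by group
        _ = (d⁻¹ * d ^ (j + 1)) * x * (d ^ (j + 1))⁻¹ := by rw [h2]
        _ = _ := by group
    rw [e, F.rx, h1, F.dx, h, ← mul_assoc, ← zpow_neg_one, ← zpow_add]
    congr 2
    ring

variable [Finite G]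

omit [Finite G] in
theorem exists_pow_two {t : G} (ht : t ∈ T) : ∃ n : ℕ, t ^ 2 ^ n = 1 := by
  obtain ⟨n, hn⟩ := F.T2.two ⟨t, ht⟩
  exact ⟨n, congrArg Subtype.val hn⟩

/-- an odd power of `d` is not trivial -/
theorem odd_ne {k : ℤ} (hk : Odd k) : d ^ k ≠ 1 := by
  intro h
  have h6 := Cfsg.Agent.GH.L2Aut.zpowers_odd (F.exists_pow_two (F.PT F.dih.d_mem)) hk
  rw [h, Subgroup.zpowers_one_eq_bot, Subgroup.mem_bot] at h6
  exact F.dih.d1 h6

omit [Finite G] in
theorem exists_isZ [Finite G] : ∃ z, IsZ d z := by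
  obtain ⟨n, -, h1, h2⟩ := F.dih.exists_z (F.T2.two.to_le F.PT)
  exact ⟨_, ⟨n, rfl⟩, h1, h2⟩

/-- an involution of `T` in the coset of `x` -/
theorem out_form {q p : G} (hq : q = 1 ∨ q = a) (hp : p ∈ P) (h : q * p * x * (q * p * x) = 1) :
    ∃ k : ℤ, p = d ^ k := by
  have h1 : p * (x * p * x⁻¹) = 1 := by
    have hqc := F.q_C hq (mul_mem (F.PT hp) F.xT)
    calc p * (x * p * x⁻¹) = (q * q) * (p * x * (p * x)) := by rw [F.q_q hq, one_mul, F.xi]; group
      _ = q * (q * (p * x)) * (p * x) := by group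
      _ = q * (p * x * q) * (p * x) := by rw [hqc]
      _ = q * p * x * (q * p * x) := by group
      _ = 1 := h
  rcases F.dih.cov p hp with h2 | ⟨k, rfl⟩
  · obtain ⟨k, rfl⟩ := mem_zpowers_iff.1 h2
    exact ⟨k, rfl⟩
  · exfalso
    rw [F.xdkr] at h1
    refine F.odd_ne (k := 2 * (k - 1) + 1) ⟨k - 1, rfl⟩ ?_
    rw [← h1]
    calc d ^ (2 * (k - 1) + 1) = d ^ k * d ^ (-(1 - k)) := by rw [← zpow_add]; congr 1; ring
      _ = d ^ k * (r * d ^ (1 - k) * r⁻¹) := by rw [F.dih.r_pow]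
      _ = d ^ k * r * (d ^ (1 - k) * r) := by rw [F.dih.rinv]; group

section Z

variable {z : G} (hz : IsZ d z)
include hz

omit [Finite G] in
theorem z_zp : z ∈ zpowers d := by
  obtain ⟨n, rfl⟩ := hz.pw
  exact pow_mem (mem_zpowers d) _

omit [Finite G] in
theorem z_P : z ∈ P := by
  obtain ⟨n, rfl⟩ := hz.pw
  exact pow_mem F.dih.d_mem _

omit [Finite G] in
theorem z_inv : z⁻¹ = z := inv_eq_of_mul_eq_one_left hz.zz

theorem z_uniq {y : G} (hy : y ∈ zpowers d) (hyy : y * y = 1) : y = 1 ∨ y = z := by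
  by_contra hcon
  push Not at hcon
  have hzz := F.z_zp hz
  obtain ⟨k, rfl⟩ := mem_zpowers_iff.1 hy
  obtain ⟨l, rfl⟩ := mem_zpowers_iff.1 hzz
  exact Cfsg.Agent.GH.L2Aut.four_not_cyc (c := d) (a := d ^ k) (b := d ^ l)
    { aa := hyy, bb := hz.zz, a1 := hcon.1, b1 := hz.z1, ne := hcon.2
      comm := ((Commute.refl d).zpow_left k).zpow_right l } hy hzz

omit [Finite G] in
theorem z_d (k : ℤ) : z * d ^ k = d ^ k * z := by
  obtain ⟨n, rfl⟩ := hz.pw
  exact ((Commute.refl d).pow_left _).zpow_right _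

omit [Finite G] in
theorem z_r : z * r = r * z := by
  have h2 := F.z_inv hz
  obtain ⟨n, rfl⟩ := hz.pw
  have h1 := F.dih.r_pow' ((2 ^ n : ℕ) : ℤ)
  rw [zpow_natCast, zpow_neg, zpow_natCast, h2] at h1
  exact h1.symm

omit [Finite G] in
theorem z_cP {p : G} (hp : p ∈ P) : z * p = p * z := by
  rcases F.dih.cov p hp with h | ⟨k, rfl⟩
  · obtain ⟨k, rfl⟩ := mem_zpowers_iff.1 h
    exact F.z_d hz k
  · rw [← mul_assoc, F.z_d hz, mul_assoc, F.z_r hz, mul_assoc]

omit [Finite G] in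
theorem x_z : x * z = z * x := by
  have h2 := F.z_inv hz
  obtain ⟨n, rfl⟩ := hz.pw
  have h1 := F.xdk ((2 ^ n : ℕ) : ℤ)
  rw [zpow_natCast, zpow_neg, zpow_natCast, h2] at h1
  calc x * d ^ 2 ^ n = (x * d ^ 2 ^ n * x⁻¹) * x := by group
    _ = d ^ 2 ^ n * x := by rw [h1]

/-- `C_P(x) = ⟨z⟩` -/
theorem cx {p : G} (hp : p ∈ P) (h : x * p = p * x) : p = 1 ∨ p = z := by
  rcases F.dih.cov p hp with h2 | ⟨k, rfl⟩
  · refine F.z_uniq hz h2 ?_
    obtain ⟨k, rfl⟩ := mem_zpowers_iff.1 h2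
    have h3 := F.xdk k
    rw [h, mul_inv_cancel_right, zpow_neg] at h3
    nth_rw 1 [h3]
    exact inv_mul_cancel _
  · exfalso
    have h3 := F.xdkr k
    rw [h, mul_inv_cancel_right] at h3
    have h4 := mul_right_cancel h3
    refine F.odd_ne (k := 2 * (k - 1) + 1) ⟨k - 1, rfl⟩ ?_
    have h5 : d ^ (2 * (k - 1) + 1) = d ^ k * (d ^ (1 - k))⁻¹ := by
      rw [← zpow_neg, ← zpow_add]; congr 1; ring
    rw [h5, h4]
    group

theorem in8 {u : G} (hu : u ∈ T) (hux : u * x = x * u) (hf : ex fl u = 1) : In8 a x z u := by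
  have key : ∀ q p : G, (q = 1 ∨ q = a) → p ∈ P → q * p * x = x * (q * p) → p = 1 ∨ p = z := by
    intro q p hq hp h
    refine F.cx hz hp ?_
    have h2 : q * (p * x) = q * (x * p) := by
      calc q * (p * x) = q * p * x := by group
        _ = x * (q * p) := h
        _ = (x * q) * p := by group
        _ = q * x * p := by rw [F.q_C hq F.xT]
        _ = q * (x * p) := by group
    exact (mul_left_cancel h2).symm
  by_cases ho : ex o u = 1
  · obtain ⟨q, hq, p, hp, rfl⟩ := F.cov_in hu hf ho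
    rcases key q p hq hp hux with rfl | rfl <;> rcases hq with rfl | rfl
    · left; rw [one_mul]
    · right; left; rw [mul_one]
    · right; right; right; left; rw [one_mul]
    · right; right; right; right; right; left; rfl
  · obtain ⟨q, hq, p, hp, rfl⟩ := F.cov_out hu hf ho
    have h1 : q * p * x = x * (q * p) := by
      have h2 : q * p * x * x = x * (q * p) * x := by rw [hux]; group
      exact mul_right_cancel h2
    rcases key q p hq hp h1 with rfl | rfl <;> rcases hq with rfl | rfl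
    · right; right; left; rw [one_mul, one_mul]
    · right; right; right; right; left; rw [mul_one]
    · right; right; right; right; right; right; left; rw [one_mul, F.x_z hz]
    · right; right; right; right; right; right; right
      rw [mul_assoc, ← F.x_z hz, mul_assoc]

theorem in8_sq {u : G} (hu : In8 a x z u) : u * u = 1 := by
  have hax : x * a = a * x := F.aC F.xT
  have haz : z * a = a * z := F.aC (F.PT (F.z_P hz))
  have hxz := F.x_z hz
  have sq : ∀ s t : G, s * s = 1 → t * t = 1 → t * s = s * t → s * t * (s * t) = 1 := by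
    intro s t h1 h2 h3
    calc s * t * (s * t) = s * (t * s) * t := by group
      _ = s * (s * t) * t := by rw [h3]
      _ = (s * s) * (t * t) := by group
      _ = 1 := by rw [h1, h2, one_mul]
  rcases hu with rfl | rfl | rfl | rfl | rfl | rfl | rfl | rfl
  · exact one_mul _
  · exact F.aa
  · exact F.xx
  · exact hz.zz
  · exact sq _ _ F.aa F.xx hax
  · exact sq _ _ F.aa hz.zz haz
  · exact sq _ _ F.xx hz.zz hxz.symm
  · refine sq _ _ (sq _ _ F.aa F.xx hax) hz.zz ?_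
    calc z * (a * x) = (z * a) * x := by group
      _ = a * (z * x) := by rw [haz]; group
      _ = a * (x * z) := by rw [hxz]
      _ = a * x * z := by group

end Z

/-! ### field elements -/

omit [Finite G] in
theorem f1' {t s : G} (ht : t ∈ T) (h : ex fl t ≠ 1) (h2 : t * t = 1 ∨ t * t = a) (hs : s ∈ T)
    (hc : ⁅s, t⁆ = 1 ∨ ⁅s, t⁆ = a) : ex o s = 1 := by
  rw [ex_of fl ht] at h
  rw [ex_of o hs]
  exact F.f1 t ht h h2 s hs hc

omit [Finite G] in
theorem o_self {t : G} (ht : t ∈ T) (h : ex fl t ≠ 1) (h2 : t * t = 1 ∨ t * t = a) : ex o t = 1 :=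
  F.f1' ht h h2 ht (Or.inl (commutatorElement_self t))

omit [Finite G] in
theorem not_x {t : G} (ht : t ∈ T) (h : ex fl t ≠ 1) (h2 : t * t = 1 ∨ t * t = a) (hx : t * x = x * t) :
    False := by
  have h1 := F.f1' ht h h2 F.xT (Or.inl (commutatorElement_eq_one_iff_mul_comm.2 hx.symm))
  rw [F.o_x] at h1
  exact absurd h1 (by decide)

/-- a field element centralizing `P` -/
structure IsPhi (a : G) (T P : Subgroup G) (fl : ↥T →* A) (φ : G) : Prop where
  T : φ ∈ T
  ne : ex fl φ ≠ 1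
  sq : φ * φ = 1 ∨ φ * φ = a
  P : ∀ p ∈ P, φ * p = p * φ

omit [Finite G] in
theorem exists_phi (h : ∃ t ∈ T, ex fl t ≠ 1) : ∃ φ, IsPhi a T P fl φ := by
  obtain ⟨t, ht, h⟩ := h
  rw [ex_of fl ht] at h
  obtain ⟨φ, hφ, h1, h2, h3⟩ := F.f2 ⟨⟨t, ht⟩, h⟩
  exact ⟨φ, hφ, by rwa [ex_of fl hφ], h2, h3⟩

/-- `|P| = 4` is impossible -/
theorem dd_ne {φ : G} (hφ : IsPhi a T P fl φ) : d * d ≠ 1 := by
  intro hdd
  have hdT := F.PT F.dih.d_mem
  have hrT := F.PT F.dih.r_mem
  have hcT : φ * x * φ⁻¹ ∈ T := mul_mem (mul_mem hφ.T F.xT) (inv_mem hφ.T)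
  have hcf : ex fl (φ * x * φ⁻¹) = 1 := by
    rw [ex_conj fl hφ.T F.xT, F.f_x, mul_one, mul_inv_cancel]
  have hco : ex o (φ * x * φ⁻¹) ≠ 1 := by
    rw [ex_conj o hφ.T F.xT, F.o_x]
    have h1 := F.o_self hφ.T hφ.ne hφ.sq
    rw [h1]
    decide
  obtain ⟨q, hq, p, hp, h1⟩ := F.cov_out hcT hcf hco
  have hqi : q⁻¹ = q := inv_eq_of_mul_eq_one_left (F.q_q hq)
  have h2 : q * p * x * (q * p * x) = 1 := by
    rw [← h1]
    have e : φ * x * φ⁻¹ * (φ * x * φ⁻¹) = φ * (x * x) * φ⁻¹ := by group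
    rw [e, F.xx]
    group
  obtain ⟨k, rfl⟩ := F.out_form hq hp h2
  have hk : d ^ k = 1 ∨ d ^ k = d := by
    rcases Int.even_or_odd' k with ⟨j, hj | hj⟩
    · left; rw [hj, zpow_mul, zpow_two, hdd, one_zpow]
    · right; rw [hj, zpow_add, zpow_mul, zpow_two, hdd, one_zpow, zpow_one, one_mul]
  have hd1 : ex o x = 1 := by
    rcases hk with hk | hk
    · rw [hk, mul_one] at h1
      refine F.f1' hφ.T hφ.ne hφ.sq F.xT ?_
      have e : ⁅x, φ⁆ = q := by
        calc ⁅x, φ⁆ = x * (φ * x⁻¹ * φ⁻¹) := by rw [commutatorElement_def]; group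
          _ = x * (φ * x * φ⁻¹) := by rw [F.xi]
          _ = x * (q * x) := by rw [h1]
          _ = x * q * x := by group
          _ = q * x * x := by rw [F.q_C hq F.xT]
          _ = q := by rw [mul_assoc, F.xx, mul_one]
      rw [e]
      exact hq
    · rw [hk] at h1
      have hrφ := hφ.P r F.dih.r_mem
      refine F.f1' (t := r * φ) (mul_mem hrT hφ.T) ?_ ?_ F.xT ?_
      · rw [ex_mul fl hrT hφ.T, F.f_P F.dih.r_mem, one_mul]
        exact hφ.ne
      · have e : r * φ * (r * φ) = φ * φ := by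
          calc r * φ * (r * φ) = r * (φ * r) * φ := by group
            _ = r * (r * φ) * φ := by rw [hrφ]
            _ = (r * r) * (φ * φ) := by group
            _ = φ * φ := by rw [F.dih.rr, one_mul]
        rw [e]
        exact hφ.sq
      · have e2 : r * φ * x * (r * φ)⁻¹ = q * x := by
          calc r * φ * x * (r * φ)⁻¹ = r * (φ * x * φ⁻¹) * r⁻¹ := by group
            _ = r * (q * d * x) * r⁻¹ := by rw [h1]
            _ = (r * q) * d * x * r⁻¹ := by group
            _ = (q * r) * d * x * r⁻¹ := by rw [F.q_C hq hrT]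
            _ = q * ((r * d * r⁻¹) * (r * x * r⁻¹)) := by group
            _ = q * (d⁻¹ * (d⁻¹ * x)) := by rw [F.dih.rd, F.rx]
            _ = q * ((d * d)⁻¹ * x) := by group
            _ = q * x := by rw [hdd, inv_one, one_mul]
        have e : ⁅x, r * φ⁆ = q := by
          calc ⁅x, r * φ⁆ = x * (r * φ * x⁻¹ * (r * φ)⁻¹) := by rw [commutatorElement_def]; group
            _ = x * (r * φ * x * (r * φ)⁻¹) := by rw [F.xi]
            _ = x * (q * x) := by rw [e2]
            _ = x * q * x := by group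
            _ = q * x * x := by rw [F.q_C hq F.xT]
            _ = q := by rw [mul_assoc, F.xx, mul_one]
        rw [e]
        exact hq
  rw [F.o_x] at hd1
  exact absurd hd1 (by decide)

section dd

variable {z : G} (hz : IsZ d z) (hdd : d * d ≠ 1)
include hz hdd

/-- the centre of `P` -/
theorem cP {p : G} (hp : p ∈ P) (h : ∀ p' ∈ P, p * p' = p' * p) : p = 1 ∨ p = z := by
  rcases F.dih.cov p hp with h2 | ⟨k, rfl⟩
  · refine F.z_uniq hz h2 ?_
    obtain ⟨k, rfl⟩ := mem_zpowers_iff.1 h2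
    have h3 := F.dih.r_pow k
    rw [← h r F.dih.r_mem, mul_inv_cancel_right, zpow_neg] at h3
    nth_rw 1 [h3]
    exact inv_mul_cancel _
  · exfalso
    apply hdd
    have h3 := h d F.dih.d_mem
    have h4 := F.dih.pow_r_conj k 1
    rw [zpow_one, h3, mul_inv_cancel_right, zpow_neg, zpow_one] at h4
    nth_rw 1 [h4]
    exact inv_mul_cancel _

/-- `z` is central in `T` -/
theorem z_T {t : G} (ht : t ∈ T) : t * z = z * t := by
  have h1 := F.Pc ht (F.z_P hz)
  have h2 : ∀ p ∈ P, t * z * t⁻¹ * p = p * (t * z * t⁻¹) := by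
    intro p hp
    have h3 := F.z_cP hz (F.Pc (inv_mem ht) hp)
    rw [inv_inv] at h3
    calc t * z * t⁻¹ * p = t * (z * (t⁻¹ * p * t)) * t⁻¹ := by group
      _ = t * (t⁻¹ * p * t * z) * t⁻¹ := by rw [h3]
      _ = p * (t * z * t⁻¹) := by group
  rcases F.cP hz hdd h1 h2 with h3 | h3
  · exfalso
    apply hz.z1
    calc z = t⁻¹ * (t * z * t⁻¹) * t := by group
      _ = 1 := by rw [h3]; group
  · exact mul_inv_eq_iff_eq_mul.1 h3

/-- elements of the kernel of `fl` centralizing `P` -/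
theorem cen_ker {t : G} (ht : t ∈ T) (hf : ex fl t = 1) (hP : ∀ p ∈ P, t * p = p * t) :
    t = 1 ∨ t = a ∨ t = z ∨ t = a * z := by
  by_cases ho : ex o t = 1
  · obtain ⟨q, hq, p, hp, rfl⟩ := F.cov_in ht hf ho
    have h1 : p = 1 ∨ p = z := by
      refine F.cP hz hdd hp fun p' hp' => ?_
      have h2 := hP p' hp'
      rw [mul_assoc, ← mul_assoc p', F.q_C hq (F.PT hp'), mul_assoc] at h2
      exact mul_left_cancel h2
    rcases h1 with rfl | rfl <;> rcases hq with rfl | rfl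
    · left; rw [one_mul]
    · right; left; rw [mul_one]
    · right; right; left; rw [one_mul]
    · right; right; right; rfl
  · exfalso
    obtain ⟨q, hq, p, hp, rfl⟩ := F.cov_out ht hf ho
    have hqc : ∀ p' ∈ P, p * x * p' = p' * (p * x) := by
      intro p' hp'
      have h2 := hP p' hp'
      have h3 : q * (p * x * p') = q * (p' * (p * x)) := by
        calc q * (p * x * p') = q * p * x * p' := by group
          _ = p' * (q * p * x) := h2
          _ = (p' * q) * (p * x) := by group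
          _ = (q * p') * (p * x) := by rw [F.q_C hq (F.PT hp')]
          _ = _ := by group
      exact mul_left_cancel h3
    rcases F.dih.cov p hp with h2 | ⟨k, rfl⟩
    · obtain ⟨k, rfl⟩ := mem_zpowers_iff.1 h2
      apply hdd
      have h3 := hqc d F.dih.d_mem
      have h4 : d⁻¹ = d := by
        calc d⁻¹ = d ^ k * (x * d * x⁻¹) * (d ^ k)⁻¹ := by rw [F.xd]; group
          _ = d ^ k * x * d * (d ^ k * x)⁻¹ := by group
          _ = d * (d ^ k * x) * (d ^ k * x)⁻¹ := by rw [h3]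
          _ = d := by group
      nth_rw 1 [← h4]
      exact inv_mul_cancel _
    · have h3 := hqc r F.dih.r_mem
      refine F.odd_ne (k := 2 * (k - 1) + 1) ⟨k - 1, rfl⟩ ?_
      have h4 : d ^ k * r * x * r * (d ^ k * r * x)⁻¹ = d ^ (2 * (k - 1) + 1) * r := by
        have h5 : r * d = d⁻¹ * r := by
          have := F.dih.r_pow' 1
          rwa [zpow_one, zpow_neg, zpow_one] at this
        calc d ^ k * r * x * r * (d ^ k * r * x)⁻¹ = d ^ k * (r * (x * r * x⁻¹) * r⁻¹) * (d ^ k)⁻¹ := by group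
          _ = d ^ k * (r * (d * r) * r⁻¹) * (d ^ k)⁻¹ := by rw [F.xr]
          _ = d ^ k * (r * d) * (d ^ k)⁻¹ := by group
          _ = d ^ k * (d⁻¹ * r) * (d ^ k)⁻¹ := by rw [h5]
          _ = d ^ k * d⁻¹ * (r * d ^ (-k)) := by rw [zpow_neg]; group
          _ = d ^ k * d⁻¹ * (d ^ k * r) := by rw [F.dih.r_pow', neg_neg]
          _ = d ^ (2 * (k - 1) + 1) * r := by
            rw [← zpow_neg_one, ← zpow_add, ← mul_assoc, ← zpow_add]
            congr 2
            ring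
      rw [h3, mul_inv_cancel_right] at h4
      exact (mul_eq_right.1 h4.symm)

/-- `Z(T)` -/
theorem cen_T {t : G} (ht : t ∈ T) (h : ∀ s ∈ T, t * s = s * t) : t = 1 ∨ t = a ∨ t = z ∨ t = a * z := by
  have hP : ∀ p ∈ P, t * p = p * t := fun p hp => h p (F.PT hp)
  by_cases hf : ex fl t = 1
  · exact F.cen_ker hz hdd ht hf hP
  · exact absurd (F.f3 t ht hP) fun h2 => F.not_x ht hf h2 (h x F.xT)

theorem four_cen {t s : G} (ht : t = 1 ∨ t = a ∨ t = z ∨ t = a * z) (hs : s ∈ T) : t * s = s * t := by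
  rcases ht with rfl | rfl | rfl | rfl
  · rw [one_mul, mul_one]
  · exact (F.aC hs).symm
  · exact (F.z_T hz hdd hs).symm
  · rw [mul_assoc, ← F.z_T hz hdd hs, ← mul_assoc, ← F.aC hs, mul_assoc]

theorem four_P {t : G} (ht : t = 1 ∨ t = a ∨ t = z ∨ t = a * z) (hP : t ∈ P) : t = 1 ∨ t = z := by
  rcases ht with h | h | h | h
  · exact Or.inl h
  · exact absurd (h ▸ hP) F.aP
  · exact Or.inr h
  · exfalso
    rw [h] at hP
    have := mul_mem hP (F.z_P hz)
    rw [mul_assoc, hz.zz, mul_one] at this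
    exact F.aP this

end dd

end Fr

end Cfsg.Agent.UGT.PQ.SylDefs
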