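import Cfsg.Agent.UGT.PQ.SylA

/-!
# (Q2), P1-P4: `U = T ∩ C(x)`, `C_T(P)`, the normalizer of `T`
-/

set_option autoImplicit false
set_option linter.unusedSectionVars false

open Cfsg Subgroup
open Cfsg.Agent.SignalizersComponents Cfsg.Agent.Lib
open Cfsg.Agent.SignalizersComponents.IntrinsicBasic
open Cfsg.Agent.Intrinsic.Basic Cfsg.Agent.Intrinsic.Cen
open Cfsg.Agent.McLLyComp.Act
open Cfsg.Agent.UGT.Triple Cfsg.Agent.UGT.TriBase
open Cfsg.Agent.GH.L2Aut (Dih Four)
open scoped commutatorElement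

namespace Cfsg.Agent.UGT.PQ.SylDefs

variable {G A : Type*} [Group G] [Group A]

/-- conjugation by an element normalizing a finite subgroup is onto -/
theorem conj_inv_mem [Finite G] {T : Subgroup G} {n : G} (hn : ∀ t ∈ T, n * t * n⁻¹ ∈ T) {t : G} (ht : t ∈ T) :
    n⁻¹ * t * n ∈ T := by
  let f : T → T := fun s => ⟨n * s * n⁻¹, hn s s.2⟩
  have hf : Function.Injective f := by
    intro s s' h
    have h1 : n * (s : G) * n⁻¹ = n * s' * n⁻¹ := congrArg Subtype.val h
    exact Subtype.ext (mul_left_cancel (mul_right_cancel h1))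
  obtain ⟨s, hs⟩ := (Finite.injective_iff_surjective.1 hf) ⟨t, ht⟩
  have h1 : n * (s : G) * n⁻¹ = t := congrArg Subtype.val hs
  rw [← h1]
  have e : n⁻¹ * (n * (s : G) * n⁻¹) * n = s := by group
  rw [e]
  exact s.2

namespace Fr

variable {x a d r : G} {T P : Subgroup G} {fl : ↥T →* A} {o : ↥T →* ℤˣ} (F : Fr x a d r T P fl o)
include F

variable [Finite G]

omit [Finite G] in
theorem ex_range {t : G} (ht : t ∈ T) : ex fl t ∈ fl.range := by
  rw [ex_of fl ht]
  exact ⟨_, rfl⟩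

/-- the cyclic group `fl.range` has at most one involution -/
theorem cyc_inv {s t : G} (hs : s ∈ T) (ht : t ∈ T) (hs1 : ex fl s ≠ 1) (ht1 : ex fl t ≠ 1)
    (hs2 : ex fl s * ex fl s = 1) (ht2 : ex fl t * ex fl t = 1) : ex fl s = ex fl t := by
  by_contra hne
  have hc := F.cyc
  have hfin : Finite ↥fl.range := Finite.of_surjective fl.rangeRestrict fl.rangeRestrict_surjective
  obtain ⟨g, hg⟩ := IsCyclic.exists_generator (α := ↥fl.range)
  refine Cfsg.Agent.GH.L2Aut.four_not_cyc (c := g) (a := ⟨ex fl s, F.ex_range hs⟩) (b := ⟨ex fl t, F.ex_range ht⟩)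
    ?_ (hg _) (hg _)
  refine ⟨Subtype.ext hs2, Subtype.ext ht2, fun h => hs1 (congrArg Subtype.val h),
    fun h => ht1 (congrArg Subtype.val h), fun h => hne (congrArg Subtype.val h), ?_⟩
  obtain ⟨m, hm⟩ := mem_zpowers_iff.1 (hg ⟨ex fl s, F.ex_range hs⟩)
  obtain ⟨n, hn⟩ := mem_zpowers_iff.1 (hg ⟨ex fl t, F.ex_range ht⟩)
  rw [← hm, ← hn]
  exact ((Commute.refl g).zpow_left m).zpow_right n

section dd

variable {z : G} (hz : IsZ d z) (hdd : d * d ≠ 1)
include hz hdd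

/-- `C_T(P)` is abelian -/
theorem cenP_comm {s t : G} (hs : s ∈ T) (ht : t ∈ T) (hsP : ∀ p ∈ P, s * p = p * s)
    (htP : ∀ p ∈ P, t * p = p * t) : s * t = t * s := by
  have hf : ∀ s ∈ T, (∀ p ∈ P, s * p = p * s) → ex fl s * ex fl s = 1 := by
    intro s hs hsP
    rw [← ex_mul fl hs hs]
    rcases F.f3 s hs hsP with h | h
    · rw [h]; exact ex_one _
    · rw [h]; exact F.f_a
  by_cases h1 : ex fl s = 1
  · exact F.four_cen hz hdd (F.cen_ker hz hdd hs h1 hsP) ht
  by_cases h2 : ex fl t = 1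
  · exact (F.four_cen hz hdd (F.cen_ker hz hdd ht h2 htP) hs).symm
  have h3 := F.cyc_inv hs ht h1 h2 (hf s hs hsP) (hf t ht htP)
  have h4 : ex fl (s⁻¹ * t) = 1 := by
    rw [ex_mul fl (inv_mem hs) ht, ex_inv fl hs, h3, inv_mul_cancel]
  have h5 : ∀ p ∈ P, s⁻¹ * t * p = p * (s⁻¹ * t) := by
    intro p hp
    have h6 : s⁻¹ * p = p * s⁻¹ := by
      calc s⁻¹ * p = s⁻¹ * (p * s) * s⁻¹ := by group
        _ = s⁻¹ * (s * p) * s⁻¹ := by rw [hsP p hp]
        _ = p * s⁻¹ := by group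
    rw [mul_assoc, htP p hp, ← mul_assoc, h6, mul_assoc]
  have h6 := F.four_cen hz hdd (F.cen_ker hz hdd (mul_mem (inv_mem hs) ht) h4 h5) hs
  calc s * t = s * (s * (s⁻¹ * t)) := by group
    _ = s * (s⁻¹ * t * s) := by rw [h6]
    _ = t * s := by group

/-- an element `n` normalizing `T` does not map `a` to `z` -/
theorem norm_ne {n : G} (hn : ∀ t ∈ T, n * t * n⁻¹ ∈ T) : n * a * n⁻¹ ≠ z := by
  intro ha
  have hnP : ∀ p ∈ P, ∀ t ∈ T, t * (n * p * n⁻¹) * t⁻¹ ∈ cj n P := by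
    intro p hp t ht
    rw [mem_cj]
    have h1 := F.Pc (conj_inv_mem hn ht) hp
    have e : n⁻¹ * (t * (n * p * n⁻¹) * t⁻¹) * n = n⁻¹ * t * n * p * (n⁻¹ * t * n)⁻¹ := by group
    rw [e]
    exact h1
  -- `P ∩ P^n = 1`
  have hbot : P ⊓ cj n P = ⊥ := by
    by_contra hne
    obtain ⟨e, ⟨heP, he'⟩, he2, hec⟩ := exists_central (T := T) (N := P ⊓ cj n P) F.T2.two
      (inf_le_left.trans F.PT) (by
        intro t ht
        rw [mem_normalizer_iff]
        have key : ∀ t ∈ T, ∀ y ∈ P ⊓ cj n P, t * y * t⁻¹ ∈ P ⊓ cj n P := by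
          rintro t ht y ⟨hy1, hy2⟩
          refine ⟨F.Pc ht hy1, ?_⟩
          have h3 := hnP _ (mem_cj.1 hy2) t ht
          have e : n * (n⁻¹ * y * n) * n⁻¹ = y := by group
          rwa [e] at h3
        refine fun y => ⟨key t ht y, fun hy => ?_⟩
        have := key _ (inv_mem ht) _ hy
        have e : t⁻¹ * (t * y * t⁻¹) * t⁻¹⁻¹ = y := by group
        rwa [e] at this) hne
    have he1 : e ≠ 1 := by
      rintro rfl
      rw [orderOf_one] at he2
      exact absurd he2 (by norm_num)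
    have hez : e = z := by
      rcases F.four_P hz hdd (F.cen_T hz hdd (F.PT heP) fun s hs => (hec s hs).symm) heP with h | h
      · exact absurd h he1
      · exact h
    have hp := mem_cj.1 he'
    have h1 : n⁻¹ * e * n = a := by
      rw [hez, ← ha]
      group
    rw [h1] at hp
    exact F.aP hp
  -- `P^n` centralizes `P`
  have hcom : ∀ p ∈ P, ∀ p' ∈ P, n * p * n⁻¹ * p' = p' * (n * p * n⁻¹) := by
    intro p hp p' hp'
    have h1 : n * p * n⁻¹ * p' * (n * p * n⁻¹)⁻¹ * p'⁻¹ ∈ P ⊓ cj n P := by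
      refine mem_inf.2 ⟨P.mul_mem (F.Pc (hn p (F.PT hp)) hp') (P.inv_mem hp'), ?_⟩
      have h2 := hnP p⁻¹ (P.inv_mem hp) p' (F.PT hp')
      have h3 : n * p * n⁻¹ ∈ cj n P := by
        rw [mem_cj]
        have e : n⁻¹ * (n * p * n⁻¹) * n = p := by group
        rw [e]
        exact hp
      have h4 := mul_mem h3 h2
      have e : n * p * n⁻¹ * (p' * (n * p⁻¹ * n⁻¹) * p'⁻¹) = n * p * n⁻¹ * p' * (n * p * n⁻¹)⁻¹ * p'⁻¹ := by group
      rwa [e] at h4
    rw [hbot, mem_bot, mul_inv_eq_one, mul_inv_eq_iff_eq_mul] at h1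
    exact h1
  -- `P` would be abelian
  have h1 := F.cenP_comm hz hdd (hn d (F.PT F.dih.d_mem)) (hn r (F.PT F.dih.r_mem))
    (hcom d F.dih.d_mem) (hcom r F.dih.r_mem)
  have h2 : n * (d * r) * n⁻¹ = n * (r * d) * n⁻¹ := by
    calc n * (d * r) * n⁻¹ = n * d * n⁻¹ * (n * r * n⁻¹) := by group
      _ = n * r * n⁻¹ * (n * d * n⁻¹) := h1
      _ = _ := by group
  have h3 : d * r = r * d := mul_left_cancel (mul_right_cancel h2)
  apply hdd
  have h4 := F.dih.rd
  rw [← h3, mul_inv_cancel_right] at h4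
  nth_rw 1 [h4]
  exact inv_mul_cancel _

/-- the action of `N(T)` on `Z(T)` -/
theorem norm_T {n : G} (hn : ∀ t ∈ T, n * t * n⁻¹ ∈ T) :
    n * z * n⁻¹ = z ∧ (n * a * n⁻¹ = a ∨ n * a * n⁻¹ = a * z) := by
  have hcen : ∀ y : G, (y = 1 ∨ y = a ∨ y = z ∨ y = a * z) → y ∈ T →
      n * y * n⁻¹ = 1 ∨ n * y * n⁻¹ = a ∨ n * y * n⁻¹ = z ∨ n * y * n⁻¹ = a * z := by
    intro y hy hyT
    refine F.cen_T hz hdd (hn y hyT) fun s hs => ?_
    have h1 := F.four_cen hz hdd hy (conj_inv_mem hn hs)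
    calc n * y * n⁻¹ * s = n * (y * (n⁻¹ * s * n)) * n⁻¹ := by group
      _ = n * (n⁻¹ * s * n * y) * n⁻¹ := by rw [h1]
      _ = s * (n * y * n⁻¹) := by group
  have hne1 : ∀ y : G, y ≠ 1 → n * y * n⁻¹ ≠ 1 := by
    intro y hy h
    apply hy
    calc y = n⁻¹ * (n * y * n⁻¹) * n := by group
      _ = 1 := by rw [h]; group
  have hzT := F.PT (F.z_P hz)
  have haz : a ≠ z := fun h => F.aP (h ▸ F.z_P hz)
  have hinj : ∀ y y' : G, n * y * n⁻¹ = n * y' * n⁻¹ → y = y' := fun y y' h => mul_left_cancel (mul_right_cancel h)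
  have h1 := hcen a (Or.inr (Or.inl rfl)) F.aT
  have h2 := hcen z (Or.inr (Or.inr (Or.inl rfl))) hzT
  rcases h1 with h1 | h1 | h1 | h1
  · exact absurd h1 (hne1 a F.a1)
  · refine ⟨?_, Or.inl h1⟩
    have h3 : n * z * n⁻¹ ∈ P := F.norm n (mul_inv_eq_iff_eq_mul.1 h1) hn z (F.z_P hz)
    rcases F.four_P hz hdd h2 h3 with h4 | h4
    · exact absurd h4 (hne1 z hz.z1)
    · exact h4
  · exact absurd h1 (F.norm_ne hz hdd hn)
  · refine ⟨?_, Or.inr h1⟩
    rcases h2 with h2 | h2 | h2 | h2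
    · exact absurd h2 (hne1 z hz.z1)
    · exfalso
      refine F.norm_ne hz hdd (n := n * n) (fun t ht => ?_) ?_
      · have h3 := hn _ (hn t ht)
        have e : n * (n * t * n⁻¹) * n⁻¹ = n * n * t * (n * n)⁻¹ := by group
        rwa [e] at h3
      · calc n * n * a * (n * n)⁻¹ = n * (n * a * n⁻¹) * n⁻¹ := by group
          _ = n * (a * z) * n⁻¹ := by rw [h1]
          _ = n * a * n⁻¹ * (n * z * n⁻¹) := by group
          _ = a * z * a := by rw [h1, h2]
          _ = a * (z * a) := by group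
          _ = a * (a * z) := by rw [F.aC hzT]
          _ = z := by rw [← mul_assoc, F.aa, one_mul]
    · exact h2
    · exact absurd (hinj _ _ (h1.trans h2.symm)) haz

/-! ### `U = T ∩ C(x)` -/

theorem in8_comm {e u : G} (he : In8 a x z e) (hu : u ∈ T) (hux : u * x = x * u) : e * u = u * e := by
  have ha : a * u = u * a := (F.aC hu).symm
  have hzu : z * u = u * z := (F.z_T hz hdd hu).symm
  have hx : x * u = u * x := hux.symm
  have hm : ∀ s t : G, s * u = u * s → t * u = u * t → s * t * u = u * (s * t) := by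
    intro s t h1 h2
    rw [mul_assoc, h2, ← mul_assoc, h1, mul_assoc]
  rcases he with rfl | rfl | rfl | rfl | rfl | rfl | rfl | rfl
  · rw [one_mul, mul_one]
  · exact ha
  · exact hx
  · exact hzu
  · exact hm _ _ ha hx
  · exact hm _ _ ha hzu
  · exact hm _ _ hx hzu
  · exact hm _ _ (hm _ _ ha hx) hzu

/-- the structure of `U` -/
theorem exists_gen (h : ∃ u ∈ T, u * x = x * u ∧ ex fl u ≠ 1) :
    ∃ f ∈ T, f * x = x * f ∧ ex fl f ≠ 1 ∧ ∀ u ∈ T, u * x = x * u → ∃ (n : ℤ) (e : G), In8 a x z e ∧ u = f ^ n * e := by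
  obtain ⟨u₀, hu₀, hu₀x, h0⟩ := h
  let X : Subgroup A := ((T ⊓ centralizer ({x} : Set G)).subgroupOf T).map fl
  have hXle : X ≤ fl.range := map_le_range fl _
  have hcyc := F.cyc
  have hXc : IsCyclic ↥X := Subgroup.isCyclic_of_le hXle
  obtain ⟨⟨g, hg⟩, hgen⟩ := IsCyclic.exists_generator (α := ↥X)
  obtain ⟨⟨f, hfT⟩, hfU, hfg⟩ := hg
  have hfx : f * x = x * f := mem_centralizer_singleton_iff.1 (mem_subgroupOf.1 hfU).2
  have hfe : ex fl f = g := by rw [ex_of fl hfT]; exact hfg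
  have key : ∀ u ∈ T, u * x = x * u → ∃ n : ℤ, ex fl u = ex fl f ^ n := by
    intro u hu hux
    have h1 : ex fl u ∈ X := by
      rw [ex_of fl hu]
      exact ⟨⟨u, hu⟩, mem_subgroupOf.2 ⟨hu, mem_centralizer_singleton_iff.2 hux⟩, rfl⟩
    obtain ⟨n, hn⟩ := mem_zpowers_iff.1 (hgen ⟨_, h1⟩)
    refine ⟨n, ?_⟩
    have h2 := congrArg Subtype.val hn
    rw [hfe]
    exact h2.symm
  refine ⟨f, hfT, hfx, ?_, fun u hu hux => ?_⟩
  · intro h1
    obtain ⟨n, hn⟩ := key u₀ hu₀ hu₀x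
    rw [h1, one_zpow] at hn
    exact h0 hn
  · obtain ⟨n, hn⟩ := key u hu hux
    refine ⟨n, (f ^ n)⁻¹ * u, ?_, by group⟩
    have hfn : f ^ n ∈ T := zpow_mem hfT n
    refine F.in8 hz (mul_mem (inv_mem hfn) hu) ?_ ?_
    · have hc : Commute x (f ^ n) := (show Commute x f from hfx.symm).zpow_right n
      exact ((hc.inv_right).mul_right (show Commute x u from hux.symm)).symm
    · rw [ex_mul fl (inv_mem hfn) hu, ex_inv fl hfn, ex_zpow fl hfT, hn, inv_mul_cancel]

/-- `U` is abelian -/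
theorem U_comm {u v : G} (hu : u ∈ T) (hux : u * x = x * u) (hv : v ∈ T) (hvx : v * x = x * v) : u * v = v * u := by
  by_cases h : ∃ u ∈ T, u * x = x * u ∧ ex fl u ≠ 1
  · obtain ⟨f, hf, hfx, -, hgen⟩ := F.exists_gen hz hdd h
    obtain ⟨n, e, he, rfl⟩ := hgen u hu hux
    obtain ⟨m, e', he', rfl⟩ := hgen v hv hvx
    have h1 : Commute e f := F.in8_comm hz hdd he hf hfx
    have h2 : Commute e' f := F.in8_comm hz hdd he' hf hfx
    have h3 : Commute e e' := by
      have he'T : e' ∈ T := by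
        have := mul_mem (inv_mem (zpow_mem hf m)) hv
        rwa [inv_mul_cancel_left] at this
      have he'x : e' * x = x * e' := by
        have hc : Commute x (f ^ m) := (show Commute x f from hfx.symm).zpow_right m
        have h4 := ((hc.inv_right).mul_right (show Commute x (f ^ m * e') from hvx.symm)).symm
        rw [inv_mul_cancel_left] at h4
        exact h4
      exact F.in8_comm hz hdd he he'T he'x
    have h4 : Commute (f ^ n) (f ^ m * e') :=
      (((Commute.refl f).zpow_left n).zpow_right m).mul_right (h2.zpow_right n).symm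
    have h5 : Commute e (f ^ m * e') := (h1.zpow_right m).mul_right h3
    exact h4.mul_left h5
  · push Not at h
    exact F.in8_comm hz hdd (F.in8 hz hu hux (h u hu hux)) hv hvx

/-- the involutions of `U` -/
theorem U_inv {u : G} (hu : u ∈ T) (hux : u * x = x * u) (huu : u * u = 1) : In8 a x z u := by
  by_cases hf : ex fl u = 1
  · exact F.in8 hz hu hux hf
  · exact (F.not_x hu hf (Or.inl huu) hux).elim

/-- `℧ᵏ(U)` is of order 2 -/
theorem exists_pw (h : ∃ u ∈ T, u * x = x * u ∧ ex fl u ≠ 1) :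
    ∃ (k : ℕ) (w i : G), Pw (T ⊓ centralizer ({x} : Set G)) k w ∧ (w = z ∨ w = a * z) ∧ i ∈ T ∧ i * x = x * i ∧
      i * i = w := by
  obtain ⟨f, hf, hfx, hf1, hgen⟩ := F.exists_gen hz hdd h
  -- the order of `fl f`
  obtain ⟨N, hN⟩ := F.exists_pow_two hf
  have hord : ∃ m : ℕ, orderOf (ex fl f) = 2 ^ m := by
    have h1 : orderOf (ex fl f) ∣ 2 ^ N := by
      apply orderOf_dvd_of_pow_eq_one
      rw [← ex_pow fl hf, hN]
      exact ex_one _
    obtain ⟨m, -, hm⟩ := (Nat.dvd_prime_pow Nat.prime_two).1 h1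
    exact ⟨m, hm⟩
  obtain ⟨m, hm⟩ := hord
  obtain ⟨k, rfl⟩ : ∃ k, m = k + 1 := by
    rcases m with _ | k
    · rw [pow_zero, orderOf_eq_one_iff] at hm
      exact absurd hm hf1
    · exact ⟨k, rfl⟩
  set i := f ^ 2 ^ k with hi
  have hiT : i ∈ T := pow_mem hf _
  have hix : i * x = x * i := ((show Commute f x from hfx).pow_left _)
  have hii : i * i = f ^ 2 ^ (k + 1) := by rw [hi, ← pow_add, ← two_mul, pow_succ']
  have hi1 : ex fl i ≠ 1 := by
    rw [hi, ex_pow fl hf]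
    intro h1
    have h2 := Nat.le_of_dvd (pow_pos (by norm_num) _) (orderOf_dvd_of_pow_eq_one h1)
    rw [hm] at h2
    exact absurd h2 (not_le.2 (Nat.pow_lt_pow_right (by norm_num) (Nat.lt_succ_self k)))
  have hii1 : ex fl (i * i) = 1 := by
    rw [hii, ex_pow fl hf, ← hm, pow_orderOf_eq_one]
  have hiiT : i * i ∈ T := mul_mem hiT hiT
  have hii8 : In8 a x z (i * i) := by
    refine F.in8 hz hiiT ?_ hii1
    exact ((show Commute i x from hix).mul_left (show Commute i x from hix))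
  have hoi : ex o (i * i) = 1 := by
    rw [ex_mul o hiT hiT]
    rcases Int.units_eq_one_or (ex o i) with h1 | h1 <;> rw [h1] <;> decide
  have hw : i * i = z ∨ i * i = a * z := by
    have hno : ∀ y : G, ex o y = -1 → i * i ≠ y := by
      rintro y hy rfl
      rw [hoi] at hy
      exact absurd hy (by decide)
    have hzP := F.z_P hz
    have hox : ex o (a * x) = -1 := by rw [ex_mul o F.aT F.xT, F.o_a, F.o_x, one_mul]
    rcases hii8 with h1 | h1 | h1 | h1 | h1 | h1 | h1 | h1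
    · exact (F.not_x hiT hi1 (Or.inl h1) hix).elim
    · exact (F.not_x hiT hi1 (Or.inr h1) hix).elim
    · exact absurd h1 (hno _ F.o_x)
    · exact Or.inl h1
    · exact absurd h1 (hno _ hox)
    · exact Or.inr h1
    · exact absurd h1 (hno _ (by rw [ex_mul o F.xT (F.PT hzP), F.o_x, F.o_P hzP, mul_one]))
    · exact absurd h1 (hno _ (by
        rw [ex_mul o (mul_mem F.aT F.xT) (F.PT hzP), hox, F.o_P hzP, mul_one]))
  have hw1 : i * i ≠ 1 := by
    rcases hw with h1 | h1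
    · rw [h1]; exact hz.z1
    · rw [h1]
      intro h2
      have h3 : a = z := by
        have := eq_inv_of_mul_eq_one_left h2
        rw [F.z_inv hz] at this
        exact this
      exact F.aP (h3 ▸ F.z_P hz)
  have hww : i * i * (i * i) = 1 := F.in8_sq hz hii8
  refine ⟨k + 1, i * i, i, ⟨Nat.succ_le_succ (Nat.zero_le _), hw1, hww,
    ⟨f, ⟨hf, mem_centralizer_singleton_iff.2 hfx⟩, hii.symm⟩, ?_⟩, hw, hiT, hix, rfl⟩
  rintro t ⟨htT, htx⟩
  obtain ⟨n, e, he, rfl⟩ := hgen t htT (mem_centralizer_singleton_iff.1 htx)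
  have hcf : Commute (f ^ n) e := ((show Commute e f from F.in8_comm hz hdd he hf hfx).zpow_right n).symm
  have he2 : e ^ 2 ^ (k + 1) = 1 := by
    rw [pow_succ', pow_mul, pow_two, F.in8_sq hz he, one_pow]
  have h1 : (f ^ n * e) ^ 2 ^ (k + 1) = (i * i) ^ n := by
    rw [hcf.mul_pow, he2, mul_one, hii, ← zpow_natCast, ← zpow_mul, mul_comm, zpow_mul, zpow_natCast]
  rw [h1]
  rcases Int.even_or_odd' n with ⟨j, hj | hj⟩
  · left; rw [hj, zpow_mul, zpow_two, hww, one_zpow]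
  · right; rw [hj, zpow_add, zpow_mul, zpow_two, hww, one_zpow, one_mul, zpow_one]

end dd

end Fr

end Cfsg.Agent.UGT.PQ.SylDefs
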