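import Cfsg.Agent.UGT.PQ.SylB
import Cfsg.Agent.S0501
import Cfsg.Agent.S1232

/-!
# (Q2), P1-P4: sectional rank at most 4

* `rank_T`: `T` has sectional 2-rank at most 4;
* `rank_small`: `T ∩ C(x)` has no field elements: `T ∩ C(x)` is a self-centralizing `E₈` (S1232);
* `rank_phi`: `φ² = a`: no normal `E₈` (S0501).
-/

set_option autoImplicit false
set_option linter.unusedSectionVars false

open Cfsg Subgroup
open Cfsg.Agent.SignalizersComponents Cfsg.Agent.Lib
open Cfsg.Agent.SignalizersComponents.IntrinsicBasic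
open Cfsg.Agent.Intrinsic.Basic Cfsg.Agent.Intrinsic.Cen
open Cfsg.Agent.McLLyComp.Act
open Cfsg.Agent.UGT.Triple Cfsg.Agent.UGT.TriBase
open Cfsg.Agent.GH.L2Aut (Dih Four)
open scoped commutatorElement

namespace Cfsg.Agent.UGT.PQ.SylDefs

variable {G A : Type*} [Group G] [Group A]

/-- `C_S(a) = T`, elementary abelian normal subgroups of `S` meet `T` in a subgroup of `⟨a, z⟩` -/
theorem rank_of_four [Finite G] {a z : G} {T : Subgroup G} (S : Sylow 2 G) (hTS : T ≤ S) (haT : a ∈ T)
    (haa : a * a = 1) (hcT : ∀ g ∈ (S : Subgroup G), a * g = g * a → g ∈ T) (hzz : z * z = 1)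
    (hform : ∀ U : Subgroup G, (∀ g ∈ T, ∀ u ∈ U, g * u * g⁻¹ ∈ U) → (∀ u ∈ U, u * u = 1) →
      ∀ u ∈ U, u ∈ T → u = 1 ∨ u = z ∨ u = a ∨ u = a * z) : SectionalPRankLE 2 4 G := by
  classical
  have : Fact (Nat.Prime 2) := ⟨Nat.prime_two⟩
  rw [← GH.Rank.sylow_iff S]
  refine Cfsg.Agent.S0501.result S.isPGroup' ?_
  intro A0 hAn hAc hA2
  -- the image `U` in `G`
  set U := A0.map (S : Subgroup G).subtype with hU
  have hUS : ∀ u ∈ U, u ∈ (S : Subgroup G) := by
    rintro _ ⟨u, -, rfl⟩
    exact u.2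
  have hUn : ∀ g ∈ (S : Subgroup G), ∀ u ∈ U, g * u * g⁻¹ ∈ U := by
    rintro w hw _ ⟨u, hu, rfl⟩
    exact ⟨⟨w, hw⟩ * u * ⟨w, hw⟩⁻¹, hAn.conj_mem u hu ⟨w, hw⟩, rfl⟩
  have hUc : ∀ u ∈ U, ∀ v ∈ U, u * v = v * u := by
    rintro _ ⟨u, hu, rfl⟩ _ ⟨v, hv, rfl⟩
    exact congrArg (fun y : A0 => ((y : ↥(S : Subgroup G)) : G)) (hAc.is_comm.comm (⟨u, hu⟩ : A0) ⟨v, hv⟩)
  have hU2 : ∀ u ∈ U, u * u = 1 := by
    rintro _ ⟨u, hu, rfl⟩
    have h1 := hA2 u hu
    rw [pow_two] at h1
    exact congrArg Subtype.val h1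
  have hcard : Nat.card A0 = Nat.card U :=
    (card_map_of_injective (S : Subgroup G).subtype_injective).symm
  rw [hcard]
  have hUnT : ∀ g ∈ T, ∀ u ∈ U, g * u * g⁻¹ ∈ U := fun g hg => hUn g (hTS hg)
  have hform' := fun {u : G} (hu : u ∈ U) (huT : u ∈ T) => hform U hUnT hU2 u hu huT
  by_cases hUT : U ≤ T
  · let E : Finset G := {1, z, a, a * z}
    have hE : E.card ≤ 4 := Finset.card_le_four
    let φ : U → E := fun g => ⟨(g : G), by
      rcases hform' g.2 (hUT g.2) with h1 | h1 | h1 | h1 <;> rw [h1] <;> simp [E]⟩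
    have hφ : Function.Injective φ := fun g g' hgg =>
      Subtype.ext (congrArg (fun y : E => (y : G)) hgg)
    calc Nat.card U ≤ Nat.card E := Nat.card_le_card_of_injective φ hφ
      _ = E.card := by rw [Nat.card_eq_fintype_card, Fintype.card_coe]
      _ ≤ 4 := hE
  · -- `a ∉ U`
    have haU : a ∉ U := by
      intro ha
      apply hUT
      intro u hu
      exact hcT u (hUS u hu) (hUc a ha u hu)
    -- `|U ∩ T| ≤ 2`
    have h2 : Nat.card ↥(U ⊓ T) ≤ 2 := by
      have hxi : ¬ (z ∈ U ∧ a * z ∈ U) := by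
        rintro ⟨h3, h4⟩
        apply haU
        have h5 := U.mul_mem h4 h3
        rwa [mul_assoc, hzz, mul_one] at h5
      by_cases hz : z ∈ U
      · let E : Finset G := {1, z}
        have hE : E.card ≤ 2 := Finset.card_le_two
        let φ : ↥(U ⊓ T) → E := fun g => ⟨(g : G), by
          rcases hform' g.2.1 g.2.2 with h1 | h1 | h1 | h1
          · rw [h1]; simp [E]
          · rw [h1]; simp [E]
          · exact absurd (h1 ▸ g.2.1) haU
          · exact absurd ⟨hz, h1 ▸ g.2.1⟩ hxi⟩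
        have hφ : Function.Injective φ := fun g g' hgg =>
          Subtype.ext (congrArg (fun y : E => (y : G)) hgg)
        calc Nat.card ↥(U ⊓ T) ≤ Nat.card E := Nat.card_le_card_of_injective φ hφ
          _ = E.card := by rw [Nat.card_eq_fintype_card, Fintype.card_coe]
          _ ≤ 2 := hE
      · let E : Finset G := {1, a * z}
        have hE : E.card ≤ 2 := Finset.card_le_two
        let φ : ↥(U ⊓ T) → E := fun g => ⟨(g : G), by
          rcases hform' g.2.1 g.2.2 with h1 | h1 | h1 | h1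
          · rw [h1]; simp [E]
          · exact absurd (h1 ▸ g.2.1) hz
          · exact absurd (h1 ▸ g.2.1) haU
          · rw [h1]; simp [E]⟩
        have hφ : Function.Injective φ := fun g g' hgg =>
          Subtype.ext (congrArg (fun y : E => (y : G)) hgg)
        calc Nat.card ↥(U ⊓ T) ≤ Nat.card E := Nat.card_le_card_of_injective φ hφ
          _ = E.card := by rw [Nat.card_eq_fintype_card, Fintype.card_coe]
          _ ≤ 2 := hE
    -- the map `u ↦ u (a u a⁻¹)`
    have haS : a ∈ (S : Subgroup G) := hTS haT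
    have hmemv : ∀ u ∈ U, u * (a * u * a⁻¹) ∈ U ⊓ T := by
      intro u hu
      have h3 := hUn a haS u hu
      refine ⟨U.mul_mem hu h3, hcT _ (hUS _ (U.mul_mem hu h3)) ?_⟩
      calc a * (u * (a * u * a⁻¹)) = (a * u * a⁻¹) * (a * a * u * (a * a)⁻¹) * a := by group
        _ = ((a * u * a⁻¹) * u) * a := by rw [haa]; group
        _ = (u * (a * u * a⁻¹)) * a := by rw [hUc _ hu _ h3]
    let φ : U →* ↥(U ⊓ T) :=
      { toFun := fun u => ⟨(u : G) * (a * u * a⁻¹), hmemv u u.2⟩
        map_one' := by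
          apply Subtype.ext
          show (1 : G) * (a * 1 * a⁻¹) = 1
          group
        map_mul' := by
          intro u v
          apply Subtype.ext
          show ((u : G) * v) * (a * ((u : G) * v) * a⁻¹) =
            ((u : G) * (a * u * a⁻¹)) * ((v : G) * (a * v * a⁻¹))
          calc ((u : G) * v) * (a * ((u : G) * v) * a⁻¹)
              = (u : G) * (v * (a * u * a⁻¹)) * (a * v * a⁻¹) := by group
            _ = (u : G) * ((a * u * a⁻¹) * v) * (a * v * a⁻¹) := by
                rw [hUc _ v.2 _ (hUn a haS u u.2)]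
            _ = _ := by group }
    have hker : Nat.card φ.ker ≤ Nat.card ↥(U ⊓ T) := by
      let ψ : φ.ker → ↥(U ⊓ T) := fun u => ⟨((u : U) : G), (u : U).2, by
        have h3 : ((u : U) : G) * (a * (u : U) * a⁻¹) = 1 := congrArg Subtype.val ((MonoidHom.mem_ker).1 u.2)
        have h4 : ((u : U) : G)⁻¹ = (u : U) := inv_eq_of_mul_eq_one_right (hU2 _ (u : U).2)
        have h5 : a * ((u : U) : G) * a⁻¹ = (u : U) := by
          rw [← inv_eq_of_mul_eq_one_right h3, h4]
        exact hcT _ (hUS _ (u : U).2) (by rw [← mul_inv_eq_iff_eq_mul]; exact h5)⟩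
      exact Nat.card_le_card_of_injective ψ (fun u v huv =>
        Subtype.ext (Subtype.ext (congrArg (fun y : ↥(U ⊓ T) => (y : G)) huv)))
    have hrange : Nat.card φ.range ≤ Nat.card ↥(U ⊓ T) := Subgroup.card_le_card_group _
    have hmul : Nat.card φ.ker * Nat.card φ.range = Nat.card U := by
      rw [← Subgroup.index_ker, Subgroup.card_mul_index]
    rw [← hmul]
    calc Nat.card φ.ker * Nat.card φ.range ≤ 2 * 2 :=
          Nat.mul_le_mul (hker.trans h2) (hrange.trans h2)
      _ = 4 := rfl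

namespace Fr

variable {x a d r : G} {T P : Subgroup G} {fl : ↥T →* A} {o : ↥T →* ℤˣ} (F : Fr x a d r T P fl o)
include F

variable [Finite G]

omit [Finite G] in
/-- the kernel of `fl` over the cyclic group `⟨x r⟩` -/
theorem cosets {t : G} (ht : t ∈ T) (hf : ex fl t = 1) :
    ∃ (b : Bool × Bool) (m : ℤ), t = cond b.1 a 1 * cond b.2 x 1 * (x * r) ^ m := by
  have hxr2 : x * r * (x * r) = d := by
    calc x * r * (x * r) = (x * r * x⁻¹) * (x * x) * r := by group
      _ = d := by rw [F.xr, F.xx, mul_one, mul_assoc, F.dih.rr, mul_one]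
  have hdk : ∀ k : ℤ, d ^ k = (x * r) ^ (2 * k) := by
    intro k
    rw [zpow_mul, zpow_two, hxr2]
  have hinv : x⁻¹ * (x * r) * x = (x * r)⁻¹ := by
    rw [mul_inv_rev, F.xi, F.dih.rinv, ← mul_assoc, F.xx, one_mul]
  have hxm : ∀ m : ℤ, (x * r) ^ m * x = x * (x * r) ^ (-m) := by
    intro m
    have h1 : x⁻¹ * (x * r) ^ m * x = (x * r) ^ (-m) := by
      have h2 := conj_zpow (i := m) (a := x⁻¹) (b := x * r)
      rw [inv_inv, hinv, inv_zpow, ← zpow_neg] at h2
      exact h2.symm
    rw [← h1]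
    group
  have hr : r = x * (x * r) := by rw [← mul_assoc, F.xx, one_mul]
  -- the elements of `P`
  have hP : ∀ p ∈ P, ∃ (b : Bool) (m : ℤ), p = cond b x 1 * (x * r) ^ m := by
    intro p hp
    rcases F.dih.cov p hp with h | ⟨k, rfl⟩
    · obtain ⟨k, rfl⟩ := mem_zpowers_iff.1 h
      exact ⟨false, 2 * k, by rw [hdk]; simp⟩
    · refine ⟨true, -(2 * k) + 1, ?_⟩
      calc d ^ k * r = (x * r) ^ (2 * k) * x * (x * r) := by rw [hdk, mul_assoc, ← hr]
        _ = x * (x * r) ^ (-(2 * k)) * (x * r) := by rw [hxm]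
        _ = x * (x * r) ^ (-(2 * k) + 1) := by rw [zpow_add, zpow_one, mul_assoc]
  have hq : ∀ q : G, (q = 1 ∨ q = a) → ∃ b : Bool, q = cond b a 1 := by
    rintro q (rfl | rfl)
    · exact ⟨false, rfl⟩
    · exact ⟨true, rfl⟩
  rw [ex_of fl ht] at hf
  obtain ⟨q, hq', p, hp, h | h⟩ := F.cov t ht hf
  · obtain ⟨b1, rfl⟩ := hq q hq'
    obtain ⟨b2, m, rfl⟩ := hP p hp
    exact ⟨(b1, b2), m, by rw [h, mul_assoc]⟩
  · obtain ⟨b1, rfl⟩ := hq q hq'
    obtain ⟨b2, m, rfl⟩ := hP p hp
    rcases b2 with _ | _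
    · refine ⟨(b1, true), -m, ?_⟩
      rw [h]
      simp only [cond_true, cond_false, one_mul]
      rw [mul_assoc, hxm, mul_assoc]
    · refine ⟨(b1, false), -m, ?_⟩
      rw [h]
      simp only [cond_true, cond_false, mul_one]
      rw [mul_assoc, mul_assoc x, hxm, ← mul_assoc x, F.xx, one_mul]

theorem rank_ker : SectionalPRankLE 2 3 ↥fl.ker := by
  have hcT : x * r ∈ T := mul_mem F.xT (F.PT F.dih.r_mem)
  have hck : ∀ {y : G} (hy : y ∈ T), ex fl y = 1 → (⟨y, hy⟩ : ↥T) ∈ fl.ker := fun hy h => by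
    rw [ex_of fl hy] at h
    exact h
  have hc1 : ex fl (x * r) = 1 := by
    rw [ex_mul fl F.xT (F.PT F.dih.r_mem), F.f_x, F.f_P F.dih.r_mem, one_mul]
  let c : ↥fl.ker := ⟨⟨x * r, hcT⟩, hck hcT hc1⟩
  have hyT : ∀ b : Bool × Bool, cond b.1 a 1 * cond b.2 x 1 ∈ T := by
    rintro ⟨b1, b2⟩
    refine mul_mem ?_ ?_
    · rcases b1
      · exact one_mem _
      · exact F.aT
    · rcases b2
      · exact one_mem _
      · exact F.xT
  have hy1 : ∀ b : Bool × Bool, ex fl (cond b.1 a 1 * cond b.2 x 1) = 1 := by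
    rintro ⟨b1, b2⟩
    rcases b1 <;> rcases b2 <;> simp only [cond_true, cond_false, one_mul, mul_one]
    · exact ex_one _
    · exact F.f_x
    · exact F.f_a
    · rw [ex_mul fl F.aT F.xT, F.f_a, F.f_x, one_mul]
  let y : Bool × Bool → ↥fl.ker := fun b => ⟨⟨_, hyT b⟩, hck (hyT b) (hy1 b)⟩
  have hsurj : Function.Surjective (fun b : Bool × Bool => ((y b : ↥fl.ker) : ↥fl.ker ⧸ zpowers c)) := by
    intro q
    obtain ⟨⟨⟨t, ht⟩, htk⟩, rfl⟩ := QuotientGroup.mk_surjective q
    obtain ⟨b, m, h⟩ := F.cosets ht (by rw [ex_of fl ht]; exact htk)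
    refine ⟨b, ?_⟩
    rw [QuotientGroup.eq]
    refine mem_zpowers_iff.2 ⟨m, Subtype.ext (Subtype.ext ?_)⟩
    change (((c ^ m : ↥fl.ker) : ↥T) : G) = (cond b.1 a 1 * cond b.2 x 1)⁻¹ * t
    rw [h, inv_mul_cancel_left]
    push_cast
    rfl
  have hidx : (zpowers c).index ≤ 2 ^ 2 := by
    have h1 := Nat.card_le_card_of_surjective _ hsurj
    rw [Nat.card_eq_fintype_card (α := Bool × Bool)] at h1
    exact h1
  exact TwoFusion.SectionalRank.sectionalPRankLE_of_cyclic (p := 2) (k := 2) (by norm_num) (zpowers c) hidx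

/-- `T` has sectional 2-rank at most 4 -/
theorem rank_T : SectionalPRankLE 2 4 ↥T := by
  have hfin : Finite ↥fl.range := Finite.of_surjective fl.rangeRestrict fl.rangeRestrict_surjective
  have hc0 := F.cyc
  have hc : IsCyclic ↥(⊤ : Subgroup ↥fl.range) := inferInstance
  have h1 : SectionalPRankLE 2 1 ↥fl.range :=
    TwoFusion.SectionalRank.sectionalPRankLE_of_cyclic (p := 2) (k := 0) (by norm_num) ⊤ (by rw [index_top]; norm_num)
  exact GH.Rank.of_extension fl F.rank_ker h1

section Z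

variable {z : G} (hz : IsZ d z)
include hz

/-- `T ∩ C(x)` has no field elements -/
theorem rank_small (hno : ∀ u ∈ T, u * x = x * u → ex fl u = 1) : SectionalPRankLE 2 4 G := by
  have h2 : Fact (Nat.Prime 2) := ⟨Nat.prime_two⟩
  obtain ⟨S, hS⟩ := F.T2.two.exists_le_sylow
  rw [← GH.Rank.sylow_iff S]
  obtain ⟨E, hE⟩ : ∃ E, E = T ⊓ centralizer ({x} : Set G) := ⟨_, rfl⟩
  have hET : E ≤ T := hE ▸ inf_le_left
  have hES : E ≤ (S : Subgroup G) := hET.trans hS
  have hmem8 : ∀ t ∈ E, In8 a x z t := by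
    intro t ht
    rw [hE] at ht
    have htx := mem_centralizer_singleton_iff.1 ht.2
    exact F.in8 hz ht.1 htx (hno t ht.1 htx)
  have haE : a ∈ E := hE ▸ ⟨F.aT, mem_centralizer_singleton_iff.2 (F.aC F.xT).symm⟩
  have hzE : z ∈ E := hE ▸ ⟨F.PT (F.z_P hz), mem_centralizer_singleton_iff.2 (F.x_z hz).symm⟩
  have hxE : x ∈ E := hE ▸ ⟨F.xT, mem_centralizer_singleton_iff.2 rfl⟩
  have hsq : ∀ t ∈ E, t * t = 1 := fun t ht => F.in8_sq hz (hmem8 t ht)
  have hcomm : ∀ t ∈ E, ∀ u ∈ E, t * u = u * t := by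
    intro t ht u hu
    have h1 := hsq _ (mul_mem ht hu)
    have h3 : t * u = (t * u)⁻¹ := eq_inv_of_mul_eq_one_left h1
    rw [h3, mul_inv_rev, inv_eq_of_mul_eq_one_left (hsq t ht), inv_eq_of_mul_eq_one_left (hsq u hu)]
  have hmem : ∀ t, t ∈ E ↔ ∃ b : Bool × Bool × Bool, (cond b.1 a 1) * (cond b.2.1 z 1) * (cond b.2.2 x 1) = t := by
    intro t
    constructor
    · intro ht
      have hxz := F.x_z hz
      rcases hmem8 t ht with rfl | rfl | rfl | rfl | rfl | rfl | rfl | rfl
      · exact ⟨(false, false, false), by simp⟩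
      · exact ⟨(true, false, false), by simp⟩
      · exact ⟨(false, false, true), by simp⟩
      · exact ⟨(false, true, false), by simp⟩
      · exact ⟨(true, false, true), by simp⟩
      · exact ⟨(true, true, false), by simp⟩
      · exact ⟨(false, true, true), by simp [hxz]⟩
      · exact ⟨(true, true, true), by simp only [cond_true]; rw [mul_assoc, ← hxz, mul_assoc]⟩
    · rintro ⟨⟨e1, e2, e3⟩, rfl⟩
      refine mul_mem (mul_mem ?_ ?_) ?_
      · rcases e1
        · exact one_mem _
        · exact haE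
      · rcases e2
        · exact one_mem _
        · exact hzE
      · rcases e3
        · exact one_mem _
        · exact hxE
  have hcard : Nat.card E = 8 := by
    let f : Bool × Bool × Bool → E := fun b =>
      ⟨(cond b.1 a 1) * (cond b.2.1 z 1) * (cond b.2.2 x 1), (hmem _).2 ⟨b, rfl⟩⟩
    have hf : Function.Bijective f := by
      constructor
      · rintro ⟨b1, b2, b3⟩ ⟨c1, c2, c3⟩ h
        have h1 : (cond b1 a 1) * (cond b2 z 1) * (cond b3 x 1) =
            (cond c1 a 1) * (cond c2 z 1) * (cond c3 x 1) := congrArg Subtype.val h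
        have hq : ∀ e : Bool, (cond e a 1 = 1 ∨ cond e a 1 = a) := fun e => by
          rcases e
          · exact Or.inl rfl
          · exact Or.inr rfl
        have hp : ∀ e : Bool, cond e z 1 ∈ P := fun e => by
          rcases e
          · exact one_mem _
          · exact F.z_P hz
        have h3 : b3 = c3 := by
          have h2 := congrArg (ex o) h1
          rcases b3 with _ | _ <;> rcases c3 with _ | _
          · rfl
          · exfalso
            simp only [cond_true, cond_false, mul_one] at h2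
            rw [F.o_qp (hq b1) (hp b2), F.o_qpx (hq c1) (hp c2)] at h2
            exact absurd h2 (by decide)
          · exfalso
            simp only [cond_true, cond_false, mul_one] at h2
            rw [F.o_qp (hq c1) (hp c2), F.o_qpx (hq b1) (hp b2)] at h2
            exact absurd h2 (by decide)
          · rfl
        subst h3
        have h4 := mul_right_cancel h1
        have h7 : b1 = c1 := by
          have hz' : ∀ e e' : Bool, a * cond e z 1 = cond e' z 1 → False := by
            intro e e' h5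
            apply F.aP
            have h6 : a = cond e' z 1 * (cond e z 1)⁻¹ := eq_mul_inv_of_mul_eq h5
            rw [h6]
            exact mul_mem (hp e') (inv_mem (hp e))
          rcases b1 with _ | _ <;> rcases c1 with _ | _
          · rfl
          · simp only [cond_true, cond_false, one_mul] at h4
            exact (hz' _ _ h4.symm).elim
          · simp only [cond_true, cond_false, one_mul] at h4
            exact (hz' _ _ h4).elim
          · rfl
        subst h7
        have h5 := mul_left_cancel h4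
        have h8 : b2 = c2 := by
          rcases b2 with _ | _ <;> rcases c2 with _ | _
          · rfl
          · exact absurd h5.symm hz.z1
          · exact absurd h5 hz.z1
          · rfl
        rw [h8]
      · rintro ⟨t, ht⟩
        obtain ⟨b, hb⟩ := (hmem t).1 ht
        exact ⟨b, Subtype.ext hb⟩
    rw [← Nat.card_eq_of_bijective f hf, Nat.card_eq_fintype_card]
    rfl
  refine S1232.result S.2 (E.subgroupOf S) ⟨⟨⟨?_⟩⟩, ?_⟩ ?_ ?_
  · rintro ⟨t, ht⟩ ⟨u, hu⟩
    exact Subtype.ext (Subtype.ext (hcomm _ ht _ hu))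
  · intro t ht
    apply Subtype.ext
    change (t : G) ^ 2 = 1
    rw [pow_two]
    exact hsq _ ht
  · rw [← hcard]
    exact Nat.card_congr (Subgroup.subgroupOfEquivOfLe hES).toEquiv
  · apply le_antisymm
    · intro u hu
      have hc : ∀ t ∈ E, t * (u : G) = u * t := by
        intro t ht
        have := (mem_centralizer_iff.mp hu) ⟨t, hES ht⟩ ht
        exact congrArg Subtype.val this
      rw [mem_subgroupOf]
      -- `C_S(E)`
      obtain ⟨U, hU⟩ : ∃ U, U = (S : Subgroup G) ⊓ centralizer (E : Set G) := ⟨_, rfl⟩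
      have hUa : ∀ y ∈ U, ∀ t ∈ E, y * t = t * y := by
        intro y hy t ht
        rw [hU] at hy
        exact ((mem_centralizer_iff.mp hy.2) t ht).symm
      have h5 : U = T ⊓ centralizer ({x} : Set G) := by
        refine F.Tx.max U (S.2.to_le (hU ▸ inf_le_left)) ?_ ?_
        · intro y hy
          exact ⟨mem_centralizer_singleton_iff.2 (hUa y hy a haE), mem_centralizer_singleton_iff.2 (hUa y hy x hxE)⟩
        · rw [← hE, hU]
          exact le_inf hES fun t ht => mem_centralizer_iff.mpr fun w hw => hcomm w hw t ht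
      have h6 : (u : G) ∈ U := by
        rw [hU]
        exact ⟨u.2, mem_centralizer_iff.mpr fun t ht => hc t ht⟩
      rw [h5, ← hE] at h6
      exact h6
    · intro t ht
      rw [mem_centralizer_iff]
      intro w hw
      exact Subtype.ext (hcomm _ hw _ ht)

variable (hdd : d * d ≠ 1)
include hdd

/-- field involutions -/
theorem inv_field {φ : G} (hφ : IsPhi a T P fl φ) {t : G} (ht : t ∈ T) (htt : t * t = 1) (hf : ex fl t ≠ 1) :
    ∃ q : G, (q = 1 ∨ q = a) ∧ ∃ p ∈ P, t = φ * (q * p) ∧ φ * φ * (p * p) = 1 := by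
  have hφ2 : ex fl φ * ex fl φ = 1 := by
    rw [← ex_mul fl hφ.T hφ.T]
    rcases hφ.sq with h | h
    · rw [h]; exact ex_one _
    · rw [h]; exact F.f_a
  have ht2 : ex fl t * ex fl t = 1 := by rw [← ex_mul fl ht ht, htt]; exact ex_one _
  have h1 := F.cyc_inv hφ.T ht hφ.ne hf hφ2 ht2
  have h2 : ex fl (φ⁻¹ * t) = 1 := by rw [ex_mul fl (inv_mem hφ.T) ht, ex_inv fl hφ.T, h1, inv_mul_cancel]
  have h3 : ex o (φ⁻¹ * t) = 1 := by
    rw [ex_mul o (inv_mem hφ.T) ht, ex_inv o hφ.T, F.o_self hφ.T hφ.ne hφ.sq, F.o_self ht hf (Or.inl htt),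
      inv_one, one_mul]
  obtain ⟨q, hq, p, hp, h4⟩ := F.cov_in (mul_mem (inv_mem hφ.T) ht) h2 h3
  have h5 : t = φ * (q * p) := by rw [← h4]; group
  refine ⟨q, hq, p, hp, h5, ?_⟩
  have hφp := hφ.P p hp
  have hφq := F.q_C hq hφ.T
  have hpq := F.q_C hq (F.PT hp)
  have hqc : Commute q φ := hφq.symm
  have hc : Commute φ (q * p) := (show Commute φ q from hφq).mul_right hφp
  calc φ * φ * (p * p) = φ * φ * ((q * q) * (p * p)) := by rw [F.q_q hq, one_mul]
    _ = φ * φ * (q * (q * p) * p) := by group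
    _ = φ * φ * (q * (p * q) * p) := by rw [hpq]
    _ = φ * (φ * (q * p)) * (q * p) := by group
    _ = φ * (q * p * φ) * (q * p) := by rw [hc.eq]
    _ = φ * (q * p) * (φ * (q * p)) := by group
    _ = 1 := by rw [← h5, htt]

/-- `φ² = a`: sectional rank at most 4 -/
theorem rank_phi {φ : G} (hφ : IsPhi a T P fl φ) (hφa : φ * φ = a) : SectionalPRankLE 2 4 G := by
  obtain ⟨S, hS⟩ := F.T2.two.exists_le_sylow
  refine rank_of_four (z := z) S hS F.aT F.aa ?_ hz.zz ?_
  · intro g hg hag
    have h1 : (S : Subgroup G) ⊓ centralizer ({a} : Set G) = T :=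
      F.T2.max _ (S.2.to_le inf_le_left) inf_le_right (le_inf hS F.T2.le)
    rw [← h1]
    exact ⟨hg, mem_centralizer_singleton_iff.2 hag.symm⟩
  · intro U hUn hU2 u hu huT
    have huu := hU2 u hu
    have hrT := F.PT F.dih.r_mem
    have hfu : ex fl u = 1 := by
      by_contra hf
      obtain ⟨q, hq, p, hp, -, h1⟩ := F.inv_field hz hdd hφ huT huu hf
      apply F.aP
      have h2 : a = (p * p)⁻¹ := by rw [← hφa]; exact eq_inv_of_mul_eq_one_left h1
      rw [h2]
      exact inv_mem (mul_mem hp hp)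
    by_cases ho : ex o u = 1
    · obtain ⟨q, hq, p, hp, rfl⟩ := F.cov_in huT hfu ho
      have hpq := F.q_C hq (F.PT hp)
      have hpp : p * p = 1 := by
        calc p * p = (q * q) * (p * p) := by rw [F.q_q hq, one_mul]
          _ = q * (q * p) * p := by group
          _ = q * (p * q) * p := by rw [hpq]
          _ = q * p * (q * p) := by group
          _ = 1 := huu
      rcases F.dih.cov p hp with h2 | ⟨k, rfl⟩
      · rcases F.z_uniq hz h2 hpp with rfl | rfl <;> rcases hq with rfl | rfl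
        · left; rw [one_mul]
        · right; right; left; rw [mul_one]
        · right; left; rw [one_mul]
        · right; right; right; rfl
      · exfalso
        have h1 := U.mul_mem (hUn (x * r) (mul_mem F.xT hrT) _ hu) hu
        have hqx := F.q_C hq (mul_mem F.xT hrT)
        have h3 : x * r * (d ^ k * r) * (x * r)⁻¹ = d ^ (1 + k) * r := by
          calc x * r * (d ^ k * r) * (x * r)⁻¹ = x * (r * d ^ k) * x⁻¹ := by group
            _ = x * (d ^ (-k) * r) * x⁻¹ := by rw [F.dih.r_pow']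
            _ = d ^ (1 + k) * r := by rw [F.xdkr]; congr 2; ring
        have h4 : x * r * (q * (d ^ k * r)) * (x * r)⁻¹ * (q * (d ^ k * r)) = d := by
          calc x * r * (q * (d ^ k * r)) * (x * r)⁻¹ * (q * (d ^ k * r))
              = (x * r * q) * (d ^ k * r) * (x * r)⁻¹ * (q * (d ^ k * r)) := by group
            _ = (q * (x * r)) * (d ^ k * r) * (x * r)⁻¹ * (q * (d ^ k * r)) := by rw [hqx]
            _ = q * (x * r * (d ^ k * r) * (x * r)⁻¹) * (q * (d ^ k * r)) := by group
            _ = q * (d ^ (1 + k) * r) * (q * (d ^ k * r)) := by rw [h3]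
            _ = q * (d ^ (1 + k) * r * q) * (d ^ k * r) := by group
            _ = q * (q * (d ^ (1 + k) * r)) * (d ^ k * r) := by
              rw [F.q_C hq (mul_mem (zpow_mem (F.PT F.dih.d_mem) _) hrT)]
            _ = (q * q) * (d ^ (1 + k) * (r * d ^ k) * r) := by group
            _ = d ^ (1 + k) * (d ^ (-k) * r) * r := by rw [F.q_q hq, one_mul, F.dih.r_pow']
            _ = (d ^ (1 + k) * d ^ (-k)) * (r * r) := by group
            _ = d := by rw [F.dih.rr, mul_one, ← zpow_add, add_neg_cancel_right, zpow_one]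
        rw [h4] at h1
        exact hdd (hU2 d h1)
    · exfalso
      obtain ⟨q, hq, p, hp, rfl⟩ := F.cov_out huT hfu ho
      obtain ⟨k, rfl⟩ := F.out_form hq hp huu
      have h1 := U.mul_mem hu (hUn r hrT _ hu)
      have hdT : ∀ m : ℤ, d ^ m ∈ T := fun m => zpow_mem (F.PT F.dih.d_mem) m
      have h3 : r * (q * d ^ k * x) * r⁻¹ = q * (d ^ (-k - 1) * x) := by
        calc r * (q * d ^ k * x) * r⁻¹ = (r * q) * d ^ k * x * r⁻¹ := by group
          _ = (q * r) * d ^ k * x * r⁻¹ := by rw [F.q_C hq hrT]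
          _ = q * ((r * d ^ k * r⁻¹) * (r * x * r⁻¹)) := by group
          _ = q * (d ^ (-k) * (d⁻¹ * x)) := by rw [F.dih.r_pow, F.rx]
          _ = q * (d ^ (-k - 1) * x) := by rw [← mul_assoc (d ^ (-k)), ← zpow_neg_one, ← zpow_add, ← sub_eq_add_neg]
      have hxd : x * d ^ (-k - 1) = d ^ (k + 1) * x := by
        have h5 := F.xdk (-k - 1)
        have e : -(-k - 1) = k + 1 := by ring
        rw [e] at h5
        rw [← h5]
        group
      have h4 : q * d ^ k * x * (r * (q * d ^ k * x) * r⁻¹) = d ^ (2 * k + 1) := by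
        rw [h3]
        calc q * d ^ k * x * (q * (d ^ (-k - 1) * x)) = q * (d ^ k * x * q) * (d ^ (-k - 1) * x) := by group
          _ = q * (q * (d ^ k * x)) * (d ^ (-k - 1) * x) := by rw [F.q_C hq (mul_mem (hdT k) F.xT)]
          _ = (q * q) * d ^ k * (x * d ^ (-k - 1)) * x := by group
          _ = d ^ k * (d ^ (k + 1) * x) * x := by rw [F.q_q hq, one_mul, hxd]
          _ = d ^ k * d ^ (k + 1) * (x * x) := by group
          _ = d ^ (2 * k + 1) := by rw [F.xx, mul_one, ← zpow_add]; congr 1; ring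
      rw [h4] at h1
      have h5 := hU2 _ h1
      obtain ⟨j, hj⟩ := mem_zpowers_iff.1 (Cfsg.Agent.GH.L2Aut.zpowers_odd
        (F.exists_pow_two (F.PT F.dih.d_mem)) (k := 2 * k + 1) ⟨k, rfl⟩)
      apply hdd
      have h6 : d * d = (d ^ (2 * k + 1) * d ^ (2 * k + 1)) ^ j := by
        rw [(Commute.refl (d ^ (2 * k + 1))).mul_zpow, hj]
      rw [h6, h5, one_zpow]

end Z

end Fr

end Cfsg.Agent.UGT.PQ.SylDefs
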