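import Cfsg.Agent.UGT.PQ.Defs
import Cfsg.Agent.GH.L2AutDih

/-!
# (Q2), P1-P4: the Sylow level

* `Pw A k z`: `z` is the only `2ᵏ`-th power `≠ 1` in `A`, `k ≥ 1`.
* `Fr x a d r T P fl o`: `T` a Sylow 2-subgroup of `C(a)`, `T ∩ C(x)` of `C(a, x)`, `P = T ∩ L = ⟨d, r⟩` dihedral,
  `fl` the field part (values in a cyclic group), `o` the sign of the determinant of `t ∈ T` on `L / O(L)`; the kernel
  of `T` on `L / O(L)` is `{1, a}`.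
* `Out`: the output of P1-P4. **Theorem wanted** (`out_of`, file `Syl.lean`):
  `Fr x a d r T P fl o → SectionalPRankLE 2 4 G ∨ ∃ z c i g φ k, Out x a z c i g φ r T P k fl`.
-/

set_option autoImplicit false

open Cfsg Subgroup
open Cfsg.Agent.SignalizersComponents Cfsg.Agent.Lib
open Cfsg.Agent.SignalizersComponents.IntrinsicBasic
open Cfsg.Agent.Intrinsic.Basic Cfsg.Agent.Intrinsic.Cen
open Cfsg.Agent.McLLyComp.Act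
open Cfsg.Agent.UGT.Triple Cfsg.Agent.UGT.TriBase
open Cfsg.Agent.GH.L2Aut (Dih)
open scoped commutatorElement

namespace Cfsg.Agent.UGT.PQ.SylDefs

variable {G : Type*} [Group G]

/-- `z` is the only `2 ^ k`-th power `≠ 1` in `A` -/
structure Pw (A : Subgroup G) (k : ℕ) (z : G) : Prop where
  k1 : 1 ≤ k
  z1 : z ≠ 1
  zz : z * z = 1
  ex : ∃ t ∈ A, t ^ 2 ^ k = z
  all : ∀ t ∈ A, t ^ 2 ^ k = 1 ∨ t ^ 2 ^ k = z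

/-- see the header -/
structure Fr {A : Type*} [Group A] (x a d r : G) (T P : Subgroup G) (fl : ↥T →* A) (o : ↥T →* ℤˣ) :
    Prop where
  xx : x * x = 1
  aa : a * a = 1
  a1 : a ≠ 1
  T2 : IsSyl (centralizer ({a} : Set G)) T
  Tx : IsSyl (centralizer ({a} : Set G) ⊓ centralizer ({x} : Set G)) (T ⊓ centralizer ({x} : Set G))
  aT : a ∈ T
  xT : x ∈ T
  PT : P ≤ T
  /-- `P = T ∩ L`, `L` normal in `C(a)` -/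
  norm : ∀ n : G, n * a = a * n → (∀ t ∈ T, n * t * n⁻¹ ∈ T) → ∀ p ∈ P, n * p * n⁻¹ ∈ P
  aP : a ∉ P
  dih : Dih P d r
  xd : x * d * x⁻¹ = d⁻¹
  xr : x * r * x⁻¹ = d * r
  cyc : IsCyclic ↥fl.range
  fla : ∀ h : a ∈ T, fl ⟨a, h⟩ = 1
  flx : ∀ h : x ∈ T, fl ⟨x, h⟩ = 1
  flP : ∀ (p : G) (h : p ∈ T), p ∈ P → fl ⟨p, h⟩ = 1
  oa : ∀ h : a ∈ T, o ⟨a, h⟩ = 1
  ox : ∀ h : x ∈ T, o ⟨x, h⟩ = -1
  oP : ∀ (p : G) (h : p ∈ T), p ∈ P → o ⟨p, h⟩ = 1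
  /-- the inner-diagonal part of `T` -/
  cov : ∀ (t : G) (h : t ∈ T), fl ⟨t, h⟩ = 1 → ∃ q : G, (q = 1 ∨ q = a) ∧ ∃ p ∈ P, t = q * p ∨ t = q * p * x
  /-- `s` commuting modulo `⟨a⟩` with an involution (modulo `⟨a⟩`) of field type has `o s = 1` -/
  f1 : ∀ (t : G) (h : t ∈ T), fl ⟨t, h⟩ ≠ 1 → (t * t = 1 ∨ t * t = a) →
    ∀ (s : G) (hs : s ∈ T), (⁅s, t⁆ = 1 ∨ ⁅s, t⁆ = a) → o ⟨s, hs⟩ = 1
  /-- there is an involution (modulo `⟨a⟩`) of field type centralizing `P` -/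
  f2 : (∃ t : ↥T, fl t ≠ 1) → ∃ (φ : G) (h : φ ∈ T), fl ⟨φ, h⟩ ≠ 1 ∧ (φ * φ = 1 ∨ φ * φ = a) ∧
    ∀ p ∈ P, φ * p = p * φ
  /-- a 2-element centralizing a Sylow 2-subgroup of `L / O(L)` has square 1 on it -/
  f3 : ∀ t ∈ T, (∀ p ∈ P, t * p = p * t) → t * t = 1 ∨ t * t = a

/-- output of P1-P4 -/
structure Out {A : Type*} [Group A] (x a z c i g φ : G) (T P : Subgroup G) (k : ℕ) (fl : ↥T →* A) :
    Prop where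
  zP : z ∈ P
  zz : z * z = 1
  z1 : z ≠ 1
  cP : c ∈ P
  cc : c * c = z
  cx : c * x * c⁻¹ = x * z
  Pnab : ∃ p ∈ P, ∃ p' ∈ P, p * p' ≠ p' * p
  /-- `z` is central in `T` -/
  zT : ∀ t ∈ T, t * z = z * t
  nax : a ≠ x
  naz : a ≠ z
  nxz : x ≠ z
  naxz : a * x ≠ z
  Uc : ∀ u ∈ T ⊓ centralizer ({x} : Set G), ∀ v ∈ T ⊓ centralizer ({x} : Set G), u * v = v * u
  Ui : ∀ u ∈ T ⊓ centralizer ({x} : Set G), u * u = 1 → u = 1 ∨ u = a ∨ u = x ∨ u = z ∨ u = a * x ∨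
    u = a * z ∨ u = x * z ∨ u = a * x * z
  iT : i ∈ T
  ix : i * x = x * i
  ii : i * i = z
  pw : Pw (T ⊓ centralizer ({x} : Set G)) k z
  cen : ∀ t ∈ T, (∀ s ∈ T, t * s = s * t) → t = 1 ∨ t = a ∨ t = z ∨ t = a * z
  nT : ∀ n : G, (∀ t ∈ T, n * t * n⁻¹ ∈ T) → n * z * n⁻¹ = z ∧ (n * a * n⁻¹ = a ∨ n * a * n⁻¹ = a * z)
  gT : ∀ t ∈ T, g * t * g⁻¹ ∈ T
  ga : g * a * g⁻¹ = a * z
  gz : g * z * g⁻¹ = z
  gx : g * x * g⁻¹ = x ∨ g * x * g⁻¹ = x * a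
  /-- `T` is not a Sylow 2-subgroup of `G`; `z` generates the centre of a Sylow 2-subgroup of `G` -/
  Zz : ∀ S : Subgroup G, IsSyl (centralizer ({z} : Set G)) S → IsSyl ⊤ S ∧ ∀ s ∈ S, s * s = 1 →
    (∀ t ∈ S, s * t = t * s) → s = 1 ∨ s = z
  /-- the field involution centralizing `P` -/
  φT : φ ∈ T
  φφ : φ * φ = 1
  φP : ∀ p ∈ P, φ * p = p * φ
  φfl : ∀ h : φ ∈ T, fl ⟨φ, h⟩ ≠ 1
  /-- `⟨a, φ, z, v⟩` is elementary abelian of order 16 -/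
  E16 : ∀ v ∈ P, v * v = 1 → v ≠ 1 → v ≠ z →
    (∀ e ∈ closure ({a, φ, z, v} : Set G), e * e = 1) ∧ Nat.card ↥(closure ({a, φ, z, v} : Set G)) = 16
  exv : ∃ v ∈ P, v * v = 1 ∧ v ≠ 1 ∧ v ≠ z
  /-- the involutions of `T` -/
  inv : ∀ t ∈ T, t * t = 1 → t ≠ 1 → (t = a ∨ t = z ∨ t = a * z) ∨
    (∃ E ≤ T, (∀ e ∈ E, e * e = 1) ∧ Nat.card ↥E = 16 ∧ t ∈ E ∧ a ∈ E ∧ z ∈ E) ∨
    (Pw (T ⊓ centralizer ({t} : Set G)) k z ∧ 4 ∣ (T ⊓ centralizer ({t} : Set G)).relIndex T)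

end Cfsg.Agent.UGT.PQ.SylDefs
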