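import Cfsg.Agent.UGT.PQ.Defs
import Cfsg.Agent.UGT.FourA.Zst
import Cfsg.Agent.CoverCore.Abs
import Cfsg.Agent.Lib.KleinGen
import Cfsg.Agent.UGT.Q2.Om

/-!
# (Q2): tools (helper269)

Commutators modulo `core M` (`Cm M U`), inverting involutions, `Tor L x z` (generation of `L` by the commutators of `z` with
`C_L(x)` and `C_L(xz)`), `Hz z x` : `[C(x), z] ≤ O(C(x))`.
-/

set_option autoImplicit false

open Cfsg Subgroup
open Cfsg.Agent.SignalizersComponents Cfsg.Agent.Lib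
open Cfsg.Agent.SignalizersComponents.IntrinsicBasic
open Cfsg.Agent.Intrinsic.Basic Cfsg.Agent.Intrinsic.Cen
open Cfsg.Agent.UGT.Triple Cfsg.Agent.UGT.TriBase Cfsg.Agent.UGT.PQ.Defs
open scoped commutatorElement

namespace Cfsg.Agent.UGT.PQ.Tools

universe u

variable {G : Type u} [Group G]

theorem Oc_cj (g t : G) : Oc (g * t * g⁻¹) = cj g (Oc t) := by
  unfold Oc
  rw [← cj_centralizer, core_cj]

theorem conj_Oc {g t d : G} (hd : d ∈ Oc t) : g * d * g⁻¹ ∈ Oc (g * t * g⁻¹) := by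
  rw [Oc_cj, IntrinsicBasic.mem_cj]
  have e : g⁻¹ * (g * d * g⁻¹) * g = d := by group
  rwa [e]

theorem conj_Oc_comm {g t d : G} (h : g * t = t * g) (hd : d ∈ Oc t) : g * d * g⁻¹ ∈ Oc t := by
  have h1 := conj_Oc (g := g) hd
  have e : g * t * g⁻¹ = t := by rw [h]; group
  rwa [e] at h1

theorem Oc_comm {t d : G} (hd : d ∈ Oc t) : d * t = t * d :=
  mem_centralizer_singleton_iff.mp (core_le _ hd)

theorem conj_eq_of_comm {g t : G} (h : g * t = t * g) : g * t * g⁻¹ = t := by rw [h]; group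

theorem comm_of_conj_eq {g t : G} (h : g * t * g⁻¹ = t) : g * t = t * g := by
  calc g * t = (g * t * g⁻¹) * g := by group
    _ = t * g := by rw [h]

theorem inv_of_sq {t : G} (h : t * t = 1) : t⁻¹ = t := inv_eq_of_mul_eq_one_left h

/-- the elements commuting with the set `U` modulo `core M` -/
def Cm (M : Subgroup G) (U : Set G) : Subgroup G where
  carrier := {k | k ∈ M ∧ ∀ u ∈ U, ⁅k, u⁆ ∈ core M}
  one_mem' := ⟨M.one_mem, fun u _ => by
    have e : ⁅(1 : G), u⁆ = 1 := by group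
    rw [e]
    exact one_mem _⟩
  mul_mem' := by
    rintro k l ⟨hk, hk'⟩ ⟨hl, hl'⟩
    refine ⟨M.mul_mem hk hl, fun u hu => ?_⟩
    have e : ⁅k * l, u⁆ = k * ⁅l, u⁆ * k⁻¹ * ⁅k, u⁆ := by
      rw [commutatorElement_def, commutatorElement_def, commutatorElement_def]
      group
    rw [e]
    exact mul_mem (conj_core hk (hl' u hu)) (hk' u hu)
  inv_mem' := by
    rintro k ⟨hk, hk'⟩
    refine ⟨M.inv_mem hk, fun u hu => ?_⟩
    have e : ⁅k⁻¹, u⁆ = k⁻¹ * ⁅k, u⁆⁻¹ * k⁻¹⁻¹ := by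
      rw [commutatorElement_def, commutatorElement_def]
      group
    rw [e]
    exact conj_core (M.inv_mem hk) (inv_mem (hk' u hu))

theorem mem_Cm {M : Subgroup G} {U : Set G} {k : G} :
    k ∈ Cm M U ↔ k ∈ M ∧ ∀ u ∈ U, ⁅k, u⁆ ∈ core M := Iff.rfl

theorem core_le_Cm {M : Subgroup G} {U : Set G} (hU : U ⊆ M) : core M ≤ Cm M U := by
  intro k hk
  refine ⟨core_le _ hk, fun u hu => ?_⟩
  have e : ⁅k, u⁆ = k * (u * k⁻¹ * u⁻¹) := by
    rw [commutatorElement_def]
    group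
  rw [e]
  exact mul_mem hk (conj_core (hU hu) (inv_mem hk))

/-- symmetry of "commutes modulo `N`" -/
theorem comm_symm {N : Subgroup G} {k u : G} (h : ⁅k, u⁆ ∈ N) : ⁅u, k⁆ ∈ N := by
  rw [← commutatorElement_inv]
  exact inv_mem h

section fin

variable [Finite G]

omit [Finite G] in
/-- An involution `z` normalizing the odd group `D ≤ M` with `C_D(z) ≤ core M` inverts `D` modulo `core M`. -/
theorem inverts {M D : Subgroup G} (hD : Odd (Nat.card D)) {z : G} (hz : z * z = 1)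
    (hn : ∀ d ∈ D, z * d * z⁻¹ ∈ D) (hDM : D ≤ M) (hc : ∀ d ∈ D, d * z = z * d → d ∈ core M) {d : G}
    (hd : d ∈ D) : z * d * z⁻¹ * d ∈ core M := by
  obtain ⟨c, hcD, k, hkD, h1, h2, rfl⟩ := Cfsg.Agent.Lib.KleinGen.exists_fixed_mul_inverted D hD
    (MulAut.conj z).toMonoidHom (fun g => by
      change z * (z * g * z⁻¹) * z⁻¹ = g
      calc z * (z * g * z⁻¹) * z⁻¹ = (z * z) * g * (z * z)⁻¹ := by group
        _ = g := by rw [hz]; group) (fun g hg => hn g hg) hd
  have h1' : z * c * z⁻¹ = c := h1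
  have h2' : z * k * z⁻¹ = k⁻¹ := h2
  have h3 : c ∈ core M := hc c hcD (comm_of_conj_eq h1').symm
  have e : z * (c * k) * z⁻¹ * (c * k) = c * (k⁻¹ * c * k⁻¹⁻¹) := by
    calc z * (c * k) * z⁻¹ * (c * k) = (z * c * z⁻¹) * (z * k * z⁻¹) * (c * k) := by group
      _ = c * k⁻¹ * (c * k) := by rw [h1', h2']
      _ = c * (k⁻¹ * c * k⁻¹⁻¹) := by group
  rw [e]
  exact mul_mem h3 (conj_core (M.inv_mem (hDM hkD)) h3)

omit [Finite G] in
/-- elements inverted modulo `core M` commute modulo `core M` -/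
theorem comm_of_inverts {M D : Subgroup G} {z : G} (hDM : D ≤ M)
    (hi : ∀ d ∈ D, z * d * z⁻¹ * d ∈ core M) {d e : G} (hd : d ∈ D) (he : e ∈ D) : ⁅d, e⁆ ∈ core M := by
  have h1 := hi d⁻¹ (inv_mem hd)
  have h2 := hi e⁻¹ (inv_mem he)
  have h3 := hi (d⁻¹ * e⁻¹) (mul_mem (inv_mem hd) (inv_mem he))
  have e1 : z * (d⁻¹ * e⁻¹) * z⁻¹ * (d⁻¹ * e⁻¹) =
      (z * d⁻¹ * z⁻¹ * d⁻¹) * (d * (z * e⁻¹ * z⁻¹ * e⁻¹) * d⁻¹) * ⁅d, e⁆ := by
    rw [commutatorElement_def]
    group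
  rw [e1] at h3
  have h4 : (z * d⁻¹ * z⁻¹ * d⁻¹) * (d * (z * e⁻¹ * z⁻¹ * e⁻¹) * d⁻¹) ∈ core M :=
    mul_mem h1 (conj_core (hDM hd) h2)
  exact ((core M).mul_mem_cancel_left h4).mp h3

/-- `L ∩ core M ≤ core L` for `L ≤ M` -/
theorem inf_core_le {L M : Subgroup G} (hL : L ≤ M) {d : G} (hd : d ∈ L) (hdM : d ∈ core M) :
    d ∈ core L := by
  have h1 : L ⊓ core M ≤ core L := by
    refine le_core inf_le_left ?_ ?_
    · intro l hl
      rw [_root_.Subgroup.mem_normalizer_iff]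
      have h2 : l ∈ normalizer (core M : Set G) := le_normalizer_core _ (hL hl)
      intro y
      rw [mem_inf, mem_inf]
      refine and_congr ?_ (mem_normalizer_iff.mp h2 y)
      exact mem_normalizer_iff.mp (le_normalizer hl) y
    · exact Odd.of_dvd_nat (odd_card_core M) (card_dvd_of_le inf_le_right)
  exact h1 ⟨hd, hdM⟩

/-- conjugation by `v` preserves the finite group `M` if it maps `M` into itself -/
theorem inv_of_conj {M : Subgroup G} {v : G} (h1 : ∀ d ∈ M, v * d * v⁻¹ ∈ M) : ∀ d ∈ M, v⁻¹ * d * v ∈ M := by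
  have h2 : cj v M = M := by
    have h3 : cj v M ≤ M := by
      intro d hd
      have h4 := h1 _ (IntrinsicBasic.mem_cj.mp hd)
      have e : v * (v⁻¹ * d * v) * v⁻¹ = d := by group
      rwa [e] at h4
    exact eq_of_le_of_card_ge h3 (card_cj v M).ge
  intro d hd
  rw [← h2] at hd
  exact IntrinsicBasic.mem_cj.mp hd

theorem mem_normalizer_of_conj {M : Subgroup G} {v : G} (h1 : ∀ d ∈ M, v * d * v⁻¹ ∈ M) :
    v ∈ normalizer (M : Set G) := by
  rw [_root_.Subgroup.mem_normalizer_iff]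
  intro y
  refine ⟨fun hy => h1 y hy, fun hy => ?_⟩
  have h3 := inv_of_conj h1 _ hy
  have e : v⁻¹ * (v * y * v⁻¹) * v = y := by group
  rwa [e] at h3

end fin

theorem conj_mem_of_normalizer {M : Subgroup G} {v d : G} (hv : v ∈ normalizer (M : Set G)) (hd : d ∈ M) :
    v * d * v⁻¹ ∈ M := (mem_normalizer_iff.mp hv d).mp hd

theorem le_of_normalizer_le {M N : Subgroup G} (h : ∀ m ∈ M, m ∈ normalizer (N : Set G)) :
    M ≤ normalizer (N : Set G) := h

/-! ### the 2-component `L`, the involution `x` of `PGL`-type -/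

/-- `x` is of `PGL`-type on `L`, `z` an involution of `C_L(x)`: the commutators of `z` with `C_L(x)` and with `C_L(xz)`
generate `L` modulo `O(L)`; `z` is not central modulo `O(L)`. -/
structure Tor (L : Subgroup G) (x z : G) : Prop where
  zL : z ∈ L
  gen : ∀ H : Subgroup G, core L ≤ H → (∀ w ∈ L, w * x = x * w → ⁅w, z⁆ ∈ H) →
    (∀ w ∈ L, w * (x * z) = x * z * w → ⁅w, z⁆ ∈ H) → L ≤ H
  zne : ¬ ∀ l ∈ L, ⁅z, l⁆ ∈ core L

namespace Tor

variable {L : Subgroup G} {x z : G}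

theorem symm (h : Tor L x z) (hz : z * z = 1) : Tor L (x * z) z := by
  have e : x * z * z = x := by rw [mul_assoc, hz, mul_one]
  refine ⟨h.zL, fun K hK h1 h2 => h.gen K hK ?_ h1, h.zne⟩
  rw [e] at h2
  exact h2

/-- an element centralizing `L` may be multiplied to `x` -/
theorem mul (h : Tor L x z) {b : G} (hb : ∀ l ∈ L, l * b = b * l) : Tor L (x * b) z := by
  have hzb := hb z h.zL
  have key : ∀ t ∈ L, t * x = x * t → t * (x * b) = x * b * t := by
    intro t ht h2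
    calc t * (x * b) = (t * x) * b := by group
      _ = x * (t * b) := by rw [h2]; group
      _ = x * b * t := by rw [hb t ht]; group
  have key' : ∀ t ∈ L, t * (x * z) = x * z * t → t * (x * b * z) = x * b * z * t := by
    intro t ht h2
    have e : x * b * z = x * z * b := by rw [mul_assoc, ← hzb, ← mul_assoc]
    rw [e]
    calc t * (x * z * b) = (t * (x * z)) * b := by group
      _ = x * z * (t * b) := by rw [h2]; group
      _ = x * z * b * t := by rw [hb t ht]; group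
  exact ⟨h.zL, fun K hK h1 h2 => h.gen K hK (fun t ht h3 => h1 t ht (key t ht h3))
    (fun t ht h3 => h2 t ht (key' t ht h3)), h.zne⟩

theorem cj (h : Tor L x z) (g : G) : Tor (cj g L) (g * x * g⁻¹) (g * z * g⁻¹) := by
  have key' : ∀ {y t : G}, t * y = y * t → (g * t * g⁻¹) * (g * y * g⁻¹) = g * y * g⁻¹ * (g * t * g⁻¹) := by
    intro y t h1
    calc (g * t * g⁻¹) * (g * y * g⁻¹) = g * (t * y) * g⁻¹ := by group
      _ = g * (y * t) * g⁻¹ := by rw [h1]
      _ = g * y * g⁻¹ * (g * t * g⁻¹) := by group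
  have exz : g * x * g⁻¹ * (g * z * g⁻¹) = g * (x * z) * g⁻¹ := by group
  have mcj : ∀ t ∈ L, g * t * g⁻¹ ∈ IntrinsicBasic.cj g L := by
    intro t ht
    rw [IntrinsicBasic.mem_cj]
    have e : g⁻¹ * (g * t * g⁻¹) * g = t := by group
    rwa [e]
  refine ⟨mcj z h.zL, ?_, ?_⟩
  · intro K hK h1 h2
    have h3 : L ≤ IntrinsicBasic.cj g⁻¹ K := by
      refine h.gen _ ?_ ?_ ?_
      · intro d hd
        rw [IntrinsicBasic.mem_cj, inv_inv]
        apply hK
        rw [core_cj, IntrinsicBasic.mem_cj]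
        have e : g⁻¹ * (g * d * g⁻¹) * g = d := by group
        rwa [e]
      · intro t ht htx
        rw [IntrinsicBasic.mem_cj, inv_inv]
        have h4 := h1 _ (mcj t ht) (key' htx)
        have e : ⁅g * t * g⁻¹, g * z * g⁻¹⁆ = g * ⁅t, z⁆ * g⁻¹ := by
          rw [commutatorElement_def, commutatorElement_def]
          group
        rwa [e] at h4
      · intro t ht htx
        rw [IntrinsicBasic.mem_cj, inv_inv]
        have h4 := h2 _ (mcj t ht) (by rw [exz]; exact key' htx)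
        have e : ⁅g * t * g⁻¹, g * z * g⁻¹⁆ = g * ⁅t, z⁆ * g⁻¹ := by
          rw [commutatorElement_def, commutatorElement_def]
          group
        rwa [e] at h4
    intro l hl
    have h4 := h3 (IntrinsicBasic.mem_cj.mp hl)
    rw [IntrinsicBasic.mem_cj] at h4
    have e : g⁻¹⁻¹ * (g⁻¹ * l * g) * g⁻¹ = l := by group
    rwa [e] at h4
  · intro hc
    apply h.zne
    intro l hl
    have h3 := hc (g * l * g⁻¹) (mcj l hl)
    rw [core_cj, IntrinsicBasic.mem_cj] at h3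
    have e : g⁻¹ * ⁅g * z * g⁻¹, g * l * g⁻¹⁆ * g = ⁅z, l⁆ := by
      rw [commutatorElement_def, commutatorElement_def]
      group
    rwa [e] at h3

end Tor

/-- `[C(x), z] ≤ O(C(x))` -/
def Hz (z x : G) : Prop := ∀ w, w * x = x * w → ⁅w, z⁆ ∈ Oc x

theorem Hz.cj {z x : G} (h : Hz z x) {g : G} (hg : g * z = z * g) : Hz z (g * x * g⁻¹) := by
  intro y hy
  have h0 : g⁻¹ * y * g * x = x * (g⁻¹ * y * g) := by
    calc g⁻¹ * y * g * x = g⁻¹ * (y * (g * x * g⁻¹)) * g := by group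
      _ = g⁻¹ * (g * x * g⁻¹ * y) * g := by rw [hy]
      _ = x * (g⁻¹ * y * g) := by group
  have h2 := conj_Oc (g := g) (h _ h0)
  have hgz : g * z * g⁻¹ = z := conj_eq_of_comm hg
  have e : g * ⁅g⁻¹ * y * g, z⁆ * g⁻¹ = ⁅y, g * z * g⁻¹⁆ := by
    rw [commutatorElement_def, commutatorElement_def]
    group
  rwa [e, hgz] at h2

/-- `O(C(x))` is abelian modulo `core M` -/
def Ab (M : Subgroup G) (x : G) : Prop := ∀ d ∈ Oc x, ∀ e ∈ Oc x, ⁅d, e⁆ ∈ core M

theorem Ab.cj {M : Subgroup G} {x : G} (h : Ab M x) {g : G} (hg : g ∈ M) : Ab M (g * x * g⁻¹) := by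
  intro d hd e he
  rw [Oc_cj, IntrinsicBasic.mem_cj] at hd he
  have h1 := conj_core hg (h _ hd _ he)
  have h2 : g * ⁅g⁻¹ * d * g, g⁻¹ * e * g⁆ * g⁻¹ = ⁅d, e⁆ := by
    rw [commutatorElement_def, commutatorElement_def]
    group
  rwa [h2] at h1

end Cfsg.Agent.UGT.PQ.Tools
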