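import Cfsg.Agent.UGT.PQ.FunDefs
import Cfsg.Agent.UGT.PQ.Frame
import Cfsg.Agent.UGT.PQ.Tools
import Cfsg.Agent.UGT.TT.PGLSolv
import Cfsg.Agent.UGT.Q2.Om
import Cfsg.Agent.Schreier.Basic

/-!
# (Q2): facts on all triples

* `nAz_of`: `z` is not the centre of a triple (from `AllOut`).
* `cnt_of`: P16 (`Conf.cnt`).
* `solv_of`: P14 (`Conf.solv`).
* `rk`: no elementary abelian group of order 16 contains `u` and `t`, `(u, t, J)` a triple.
-/

set_option autoImplicit false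

open Cfsg Subgroup
open Cfsg.Agent.SignalizersComponents Cfsg.Agent.Lib
open Cfsg.Agent.SignalizersComponents.IntrinsicBasic
open Cfsg.Agent.SignalizersComponents.PLayerAut
open Cfsg.Agent.Intrinsic.Basic Cfsg.Agent.Intrinsic.Cen
open Cfsg.Agent.McLLyComp.Act
open Cfsg.Agent.UGT.Triple Cfsg.Agent.UGT.TriBase
open Cfsg.Agent.UGT.PQ.Defs Cfsg.Agent.UGT.PQ.SylDefs Cfsg.Agent.UGT.PQ.FunDefs
open Cfsg.Agent.UGT.PQ.Tools
open scoped commutatorElement

namespace Cfsg.Agent.UGT.PQ.World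

universe u

variable {G : Type u} [Group G]

theorem card_mul_relIndex' {H K : Subgroup G} (h : H ≤ K) :
    Nat.card ↥H * H.relIndex K = Nat.card ↥K := by
  have h1 := relIndex_mul_relIndex ⊥ H K bot_le h
  rwa [relIndex_bot_left, relIndex_bot_left] at h1

section out

variable {A : Type*} [Group A] {x a z c i g φ : G} {T P : Subgroup G} {k : ℕ} {fl : ↥T →* A}

/-- `z` is not the centre of a triple -/
theorem nAz_of (O : Out x a z c i g φ T P k fl) (hAll : AllOut G) : ¬ AT z := by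
  rintro ⟨u, J, hJ⟩
  obtain ⟨A', _, T', P', fl', z', c', i', g', φ', k', hT', -, -, hz, hP', O'⟩ := hAll u z J hJ
  have hz'T : z' ∈ T' := ((hP' z').mp O'.zP).1
  rcases (O.Zz T' hT').2 z' hz'T O'.zz (fun t ht => (O'.zT t ht).symm) with h | h
  · exact O'.z1 h
  · exact O'.naz h.symm

variable [Finite G]

/-- two involutions each generating the involutions of the centre of a Sylow 2-subgroup of `G` are conjugate -/
theorem conj_of_Zz {z z' : G} (hzz : z * z = 1) (hz1 : z ≠ 1)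
    (h : ∀ S : Subgroup G, IsSyl (centralizer ({z} : Set G)) S → IsSyl ⊤ S ∧ ∀ s ∈ S, s * s = 1 →
      (∀ t ∈ S, s * t = t * s) → s = 1 ∨ s = z)
    (h' : ∀ S : Subgroup G, IsSyl (centralizer ({z'} : Set G)) S → IsSyl ⊤ S ∧ ∀ s ∈ S, s * s = 1 →
      (∀ t ∈ S, s * t = t * s) → s = 1 ∨ s = z') : ∃ w : G, w * z * w⁻¹ = z' := by
  have hp : IsPGroup 2 ↥(zpowers z) := BalanceAux.isPGroup_zpowers_of_orderOf (order_two hzz hz1)
  obtain ⟨S, hS, hzS⟩ := exists_isSyl (E := centralizer ({z} : Set G)) hp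
    (by rw [zpowers_le]; exact mem_c rfl)
  obtain ⟨S', hS', -⟩ := exists_isSyl (E := centralizer ({z'} : Set G)) (R₀ := ⊥)
    IsPGroup.of_bot bot_le
  have hzS1 : z ∈ S := hzS (mem_zpowers z)
  obtain ⟨w, -, hw⟩ := (h S hS).1.conj hS'.two le_top
  have hw2 : cj w S = S' := (h' S' hS').1.max _ (isPGroup_cj hS.two) le_top hw
  refine ⟨w, ?_⟩
  rcases (h' S' hS').2 (w * z * w⁻¹) (by rw [← hw2]; exact conj_mem_cj hzS1) (by
      calc w * z * w⁻¹ * (w * z * w⁻¹) = w * (z * z) * w⁻¹ := by group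
        _ = 1 := by rw [hzz]; group) (by
      intro t ht
      rw [← hw2, IntrinsicBasic.mem_cj] at ht
      have h1 : w⁻¹ * t * w * z = z * (w⁻¹ * t * w) := comm_c (hS.le ht)
      calc w * z * w⁻¹ * t = w * (z * (w⁻¹ * t * w)) * w⁻¹ := by group
        _ = w * (w⁻¹ * t * w * z) * w⁻¹ := by rw [h1]
        _ = t * (w * z * w⁻¹) := by group) with h1 | h1
  · exfalso
    apply hz1
    calc z = w⁻¹ * (w * z * w⁻¹) * w := by group
      _ = 1 := by rw [h1]; group
  · exact h1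

theorem pow_dvd_of_mul {j n m : ℕ} (h : 2 ^ (j + 2) ∣ n * m) (hn : ¬ 4 ∣ n) : 2 ^ (j + 1) ∣ m := by
  rcases Nat.even_or_odd n with ⟨r, hr⟩ | ho
  · have hr2 : Odd r := by
      rw [← Nat.not_even_iff_odd]
      rintro ⟨s, hs⟩
      exact hn ⟨s, by omega⟩
    have h1 : 2 * 2 ^ (j + 1) ∣ 2 * (r * m) := by
      have e1 : 2 * 2 ^ (j + 1) = 2 ^ (j + 2) := by ring
      have e2 : 2 * (r * m) = n * m := by rw [hr]; ring
      rw [e1, e2]; exact h
    have h2 : 2 ^ (j + 1) ∣ r * m := Nat.dvd_of_mul_dvd_mul_left (by norm_num) h1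
    have h3 : Nat.Coprime (2 ^ (j + 1)) r := (Nat.coprime_two_left.mpr hr2).pow_left _
    exact h3.dvd_of_dvd_mul_left h2
  · have h3 : Nat.Coprime (2 ^ (j + 2)) n := (Nat.coprime_two_left.mpr ho).pow_left _
    exact (pow_dvd_pow 2 (by omega)).trans (h3.dvd_of_dvd_mul_left h)

/-- P16: the field `Conf.cnt` -/
theorem cnt_of (O : Out x a z c i g φ T P k fl) (hAll : AllOut G) :
    ∀ b : G, AT b → ∀ t : G, t * b = b * t → t * t = 1 → t ≠ 1 →
    AT t ∨ (∃ y : G, y * z * y⁻¹ = t) ∨ High t ∨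
      4 ∣ (centralizer ({b} : Set G) ⊓ centralizer ({t} : Set G)).relIndex (centralizer ({b} : Set G)) := by
  rintro b ⟨u, J, hJ⟩ t htb htt ht1
  have hAb : AT b := ⟨u, J, hJ⟩
  obtain ⟨A', _, T', P', fl', z', c', i', g', φ', k', hT', -, -, hbT, hP', O'⟩ := hAll u b J hJ
  -- a Sylow 2-subgroup of `C(b, t)`
  have hp : IsPGroup 2 ↥(zpowers t) := BalanceAux.isPGroup_zpowers_of_orderOf (order_two htt ht1)
  obtain ⟨R, hR, htR⟩ := exists_isSyl
    (E := centralizer ({b} : Set G) ⊓ centralizer ({t} : Set G)) hp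
    (by rw [zpowers_le]; exact ⟨mem_c htb, mem_c rfl⟩)
  have htR1 : t ∈ R := htR (mem_zpowers t)
  obtain ⟨y, hy, hRy⟩ := hT'.conj hR.two (hR.le.trans inf_le_left)
  obtain ⟨s, hs⟩ : ∃ s, s = y⁻¹ * t * y := ⟨_, rfl⟩
  have hst : y * s * y⁻¹ = t := by rw [hs]; group
  have hsT : s ∈ T' := by rw [hs]; exact IntrinsicBasic.mem_cj.mp (hRy htR1)
  have hss : s * s = 1 := by
    rw [hs]
    calc y⁻¹ * t * y * (y⁻¹ * t * y) = y⁻¹ * (t * t) * y := by group
      _ = 1 := by rw [htt]; group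
  have hs1 : s ≠ 1 := by
    intro h
    apply ht1
    rw [← hst, h]; group
  have hyb : y * b * y⁻¹ = b := conj_eq_of_comm (comm_c hy)
  have hRe : cj y (T' ⊓ centralizer ({s} : Set G)) = R := by
    refine hR.max _ (isPGroup_cj (hT'.two.to_le inf_le_left)) ?_ ?_
    · rw [cj_inf, cj_centralizer, hst]
      refine inf_le_inf_right _ ?_
      have h1 := cj_mono (g := y) hT'.le
      rwa [cj_centralizer, hyb] at h1
    · rw [cj_inf, cj_centralizer, hst]
      exact le_inf hRy (hR.le.trans inf_le_right)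
  have hcard : Nat.card ↥R = Nat.card ↥(T' ⊓ centralizer ({s} : Set G)) := by
    rw [← hRe, card_cj]
  rcases O'.inv s hsT hss hs1 with h | ⟨E, hET, hE2, hE16, hsE, -, -⟩ | ⟨-, h4⟩
  · rcases h with h | h | h
    · left
      rw [← hst, h]
      exact hAb.conj y
    · right; left
      obtain ⟨w, hw⟩ := conj_of_Zz O.zz O.z1 O.Zz O'.Zz
      refine ⟨y * w, ?_⟩
      rw [← hst, h, ← hw]; group
    · left
      rw [← hst, h, ← O'.ga]
      exact (hAb.conj g').conj y
  · right; right; left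
    refine ⟨cj y E, ?_, by rw [card_cj]; exact hE16, by rw [← hst]; exact conj_mem_cj hsE⟩
    intro e he
    have h1 := hE2 _ (IntrinsicBasic.mem_cj.mp he)
    calc e * e = y * (y⁻¹ * e * y * (y⁻¹ * e * y)) * y⁻¹ := by group
      _ = 1 := by rw [h1]; group
  · right; right; right
    by_contra hn
    have : Fact (Nat.Prime 2) := ⟨Nat.prime_two⟩
    obtain ⟨j, hj⟩ := hR.two.exists_card_eq
    have h5 : (T' ⊓ centralizer ({s} : Set G)).relIndex T' *
        Nat.card ↥(T' ⊓ centralizer ({s} : Set G)) = Nat.card ↥T' := by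
      rw [mul_comm]
      exact card_mul_relIndex' inf_le_left
    have h6 : (centralizer ({b} : Set G) ⊓ centralizer ({t} : Set G)).relIndex
        (centralizer ({b} : Set G)) *
        Nat.card ↥(centralizer ({b} : Set G) ⊓ centralizer ({t} : Set G)) =
        Nat.card ↥(centralizer ({b} : Set G)) := by
      rw [mul_comm]
      exact card_mul_relIndex' inf_le_left
    have h7 : 2 ^ (j + 2) ∣ Nat.card ↥T' := by
      rw [← h5, ← hcard, hj, pow_add, mul_comm (2 ^ j)]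
      exact mul_dvd_mul h4 dvd_rfl
    have h8 : 2 ^ (j + 2) ∣ Nat.card ↥(centralizer ({b} : Set G)) := h7.trans (card_dvd_of_le hT'.le)
    rw [← h6] at h8
    have h9 := hR.dvd_card (pow_dvd_of_mul h8 hn)
    rw [hj] at h9
    have h10 := Nat.le_of_dvd (by positivity) h9
    have h11 : 2 ^ (j + 1) = 2 * 2 ^ j := by ring
    have h12 : 0 < 2 ^ j := by positivity
    omega

end out

/-- a subgroup all of whose elements have square 1 is a 2-group -/
theorem isPGroup_of_sq {E : Subgroup G} (hE : ∀ e ∈ E, e * e = 1) : IsPGroup 2 ↥E := by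
  rintro ⟨e, he⟩
  refine ⟨1, Subtype.ext ?_⟩
  change e ^ 2 ^ 1 = 1
  rw [pow_one, pow_two]
  exact hE e he

variable [Finite G]

/-- `(u, t, J)` a triple: no elementary abelian group of order 16 contains `u` and `t` -/
theorem rk (hAll : AllOut G) {u t : G} {J : Subgroup G} (hJ : IsTriple u t J) {E : Subgroup G}
    (hE : ∀ e ∈ E, e * e = 1) (hc : Nat.card ↥E = 16) (hu : u ∈ E) : t ∉ E := by
  classical
  intro ht
  obtain ⟨A', _, T', P', fl', z', c', i', g', φ', k', hT', hU, -, -, hP', O'⟩ := hAll u t J hJ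
  have hcomm : ∀ e ∈ E, ∀ f ∈ E, e * f = f * e := by
    intro e he f hf
    have h1 := hE _ (mul_mem he hf)
    calc e * f = e * (e * f * (e * f)) * f := by rw [h1]; group
      _ = (e * e) * (f * e) * (f * f) := by group
      _ = f * e := by rw [hE e he, hE f hf]; group
  have hle : E ≤ centralizer ({t} : Set G) ⊓ centralizer ({u} : Set G) := fun e he =>
    ⟨mem_c (hcomm e he t ht), mem_c (hcomm e he u hu)⟩
  obtain ⟨w, -, hw⟩ := hU.conj (isPGroup_of_sq hE) hle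
  have h2 : cj w⁻¹ E ≤ T' ⊓ centralizer ({u} : Set G) := by
    have h3 := cj_mono (g := w⁻¹) hw
    rwa [cj_inv_cj] at h3
  have h4 : (cj w⁻¹ E : Set G) ⊆
      (({1, t, u, z', t * u, t * z', u * z', t * u * z'} : Finset G) : Set G) := by
    intro e he
    have h5 : e * e = 1 := by
      have h6 := hE _ (IntrinsicBasic.mem_cj.mp he)
      rw [inv_inv] at h6
      calc e * e = w⁻¹ * (w * e * w⁻¹ * (w * e * w⁻¹)) * w := by group
        _ = 1 := by rw [h6]; group
    have h7 := O'.Ui e (h2 he) h5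
    simpa using h7
  have h8 := Set.ncard_le_ncard h4 (Finset.finite_toSet _)
  rw [Set.ncard_coe_finset] at h8
  have h9 : Set.ncard (cj w⁻¹ E : Set G) = 16 := by
    rw [← Nat.card_coe_set_eq]
    exact (card_cj w⁻¹ E).trans hc
  have h10 := Finset.card_insert_le 1 ({t, u, z', t * u, t * z', u * z', t * u * z'} : Finset G)
  have h11 := Finset.card_insert_le t ({u, z', t * u, t * z', u * z', t * u * z'} : Finset G)
  have h12 : ({u, z', t * u, t * z', u * z', t * u * z'} : Finset G).card ≤ 6 := Finset.card_le_six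
  omega

omit [Finite G] in
/-- a non-abelian 2-subgroup `B` of `C(e)` contains an element acting as an involution of `PGL` -/
theorem exists_inv (hQ : Frame.Q2 G) {u e : G} {J : Subgroup G}
    (hJ : IsTriple u e J) {B : Subgroup G} (hB2 : IsPGroup 2 ↥B) (hB : B ≤ centralizer ({e} : Set G))
    (hnab : ∃ b ∈ B, ∃ b' ∈ B, b * b' ≠ b' * b) {F : Type} [Field F] [Finite F]
    (R : Cfsg.Agent.GH.L2Aut.Rep F (↥J ⧸ oddCore ↥J)) (hN : centralizer ({e} : Set G) ≤ normalizer (J : Set G)) :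
    ∃ (b : G) (hb : b ∈ B), act J ⟨b, hN (hB hb)⟩ ∈ R.PGL ∧
      act J ⟨b, hN (hB hb)⟩ * act J ⟨b, hN (hB hb)⟩ = 1 ∧ act J ⟨b, hN (hB hb)⟩ ≠ 1 := by
  have hpow : ∀ b ∈ B, ∃ n, b ^ 2 ^ n = 1 := by
    intro b hb
    obtain ⟨n, hn⟩ := hB2 ⟨b, hb⟩
    exact ⟨n, congrArg Subtype.val hn⟩
  obtain ⟨f, hf⟩ : ∃ f : ↥B →* (F ≃+* F), ∀ b (hb : b ∈ B), f ⟨b, hb⟩ = R.fld (act J ⟨b, hN (hB hb)⟩) :=
    ⟨R.fld.comp ((act J).comp (inclusion (hB.trans hN))), fun b hb => rfl⟩
  obtain ⟨b, hb, hb1, hb2⟩ : ∃ (b : G) (hb : b ∈ B), R.fld (act J ⟨b, hN (hB hb)⟩) = 1 ∧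
      act J ⟨b, hN (hB hb)⟩ ≠ 1 := by
    by_contra hcon
    push Not at hcon
    have : IsCyclic (F ≃+* F) := Cfsg.Agent.LieRecognition.FieldSemilinear.isCyclic_ringAut F
    have hk : f.ker ≤ center ↥B := by
      rintro ⟨b, hb⟩ h1
      rw [MonoidHom.mem_ker, hf] at h1
      have h2 := hcon b hb h1
      rw [act_eq_one_iff] at h2
      rw [mem_center_iff]
      rintro ⟨w, hw⟩
      apply Subtype.ext
      change w * b = b * w
      rcases hQ u e J hJ b (comm_c (hB hb)) (hpow b hb) h2 with h3 | h3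
      · rw [h3, mul_one, one_mul]
      · rw [h3]; exact comm_c (hB hw)
    obtain ⟨b, hb, b', hb', hne⟩ := hnab
    exact hne (congrArg Subtype.val
      ((f.isMulCommutative_of_isCyclic_of_ker_le_center hk).is_comm.comm ⟨b, hb⟩ ⟨b', hb'⟩))
  classical
  have hex : ∃ n, act J ⟨b, hN (hB hb)⟩ ^ 2 ^ n = 1 := by
    obtain ⟨n, hn⟩ := hpow b hb
    refine ⟨n, ?_⟩
    rw [← map_pow, ← map_one (act J)]
    congr 1
    exact Subtype.ext hn
  obtain ⟨m, hm⟩ : ∃ m, Nat.find hex = m + 1 := by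
    rcases Nat.eq_zero_or_pos (Nat.find hex) with h | h
    · exfalso
      have h1 := Nat.find_spec hex
      rw [h, pow_zero, pow_one] at h1
      exact hb2 h1
    · exact ⟨Nat.find hex - 1, by omega⟩
  have h1 := Nat.find_spec hex
  have h2 := Nat.find_min hex (m := m) (by omega)
  rw [hm, pow_succ, pow_mul, pow_two] at h1
  have h3 : act J ⟨b ^ 2 ^ m, hN (hB (pow_mem hb _))⟩ = act J ⟨b, hN (hB hb)⟩ ^ 2 ^ m := by
    rw [← map_pow]
    rfl
  refine ⟨b ^ 2 ^ m, pow_mem hb _, ?_, ?_, ?_⟩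
  · rw [h3, R.mem_PGL_iff_fld, map_pow, hb1, one_pow]
  · rw [h3]; exact h1
  · rw [h3]; exact h2

/-- P14: the field `Conf.solv` -/
theorem solv_of (H : Res.KFacts.Pgl G) (hQ : Frame.Q2 G)
    (FT : ∀ Y : Subgroup G, Odd (Nat.card ↥Y) → Group.IsSolvable ↥Y) :
    ∀ e : G, AT e → ∀ B : Subgroup G, IsPGroup 2 ↥B → B ≤ centralizer ({e} : Set G) →
    (∃ b ∈ B, ∃ b' ∈ B, b * b' ≠ b' * b) →
    Group.IsSolvable ↥(centralizer ({e} : Set G) ⊓ centralizer (B : Set G)) := by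
  rintro e ⟨u, J, hJ⟩ B hB2 hB hnab
  have hN := Frame.normal hQ hJ
  obtain ⟨F, i1, i2, -, R, -⟩ := H.exists_rep hJ
  obtain ⟨b, hb, hb1, hb2, hb3⟩ := exists_inv hQ hJ hB2 hB hnab R hN
  refine Cfsg.Agent.Schreier.Basic.isSolvable_of_perfect_eq_bot _ fun D hD hDp => ?_
  have hDe : D ≤ centralizer ({e} : Set G) := hD.trans inf_le_left
  have hDN : D ≤ normalizer (J : Set G) := hDe.trans hN
  have hD1 : ⁅D.subgroupOf (normalizer (J : Set G)), D.subgroupOf (normalizer (J : Set G))⁆ =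
      D.subgroupOf (normalizer (J : Set G)) := by
    apply Subgroup.map_injective (normalizer (J : Set G)).subtype_injective
    rw [Subgroup.map_commutator, subgroupOf_map_subtype, inf_of_le_left hDN, hDp]
  have hD2 := Cfsg.Agent.Schreier.Basic.map_perfect (act J) hD1
  have hD3 : (D.subgroupOf (normalizer (J : Set G))).map (act J) = ⊥ := by
    refine Cfsg.Agent.UGT.TT.PGLSolv.solv R hb1 hb2 hb3 hD2.ge ?_
    rintro _ ⟨⟨d, hdN⟩, hd, rfl⟩
    have hd' : d ∈ D := hd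
    have h1 : d * b = b * d := ((mem_centralizer_iff.mp (hD hd').2) b hb).symm
    rw [← act_mul hdN (hN (hB hb)), ← act_mul (hN (hB hb)) hdN]
    exact act_congr _ h1
  have hD4 : ∀ d ∈ D, Fixes d J := by
    intro d hd
    rw [← act_eq_one_iff (hDN hd)]
    have h1 : act J ⟨d, hDN hd⟩ ∈ (D.subgroupOf (normalizer (J : Set G))).map (act J) :=
      ⟨⟨d, hDN hd⟩, hd, rfl⟩
    rw [hD3] at h1
    exact h1
  apply Cfsg.Agent.Schreier.Basic.eq_bot_of_perfect_of_solvable hDp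
  apply FT
  rw [← Nat.not_even_iff_odd, even_iff_two_dvd]
  intro h2
  have h4 := four_dvd_of_perfect (isPerfect_iff.mpr hDp) h2
  obtain ⟨Q, hQ1, -⟩ := exists_isSyl (E := D) (R₀ := ⊥) IsPGroup.of_bot bot_le
  have h5 : 2 ^ 2 ∣ Nat.card ↥Q := hQ1.dvd_card h4
  have h6 : Q ≤ zpowers e := by
    intro q hq
    obtain ⟨n, hn⟩ := hQ1.two ⟨q, hq⟩
    rcases hQ u e J hJ q (comm_c (hDe (hQ1.le hq))) ⟨n, congrArg Subtype.val hn⟩
      (hD4 q (hQ1.le hq)) with h7 | h7
    · rw [h7]; exact one_mem _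
    · rw [h7]; exact mem_zpowers e
  have h7 := h5.trans (card_dvd_of_le h6)
  rw [Nat.card_zpowers, hJ.inva] at h7
  exact absurd (Nat.le_of_dvd (by norm_num) h7) (by norm_num)

end Cfsg.Agent.UGT.PQ.World
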